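import Cfsg.Agent.Lib.Spor.AltEightLocal.Signal
import Cfsg.Agent.Lib.Spor.SpFour.ThreeLocal.Basic
import Cfsg.Agent.Lib.Classical.ProjLine

/-!
# The centralizer of a four-group
-/

set_option autoImplicit false
set_option linter.style.haveILetI false
set_option linter.unusedSectionVars false
set_option synthInstance.maxSize 4000

namespace CfsgLib.Spor.AltEightLocal

open Subgroup

variable {G : Type*} [Group G] [Finite G] {F : Frame G}

/-- the centralizer of the image of the first four-group -/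
def Frame.CV (F : Frame G) : Subgroup G := centralizer (F.f '' {q | inV 0 q = true})

theorem Frame.mem_CV {x : G} : x ∈ F.CV ↔ ∀ v, inV 0 v = true → F.f v * x = x * F.f v := by
  rw [Frame.CV, mem_centralizer_iff]
  exact ⟨fun h v hv => h _ ⟨v, hv, rfl⟩, fun h y ⟨v, hv, e⟩ => e ▸ h v hv⟩

theorem Frame.V_le_CV {v : E} (hv : inV 0 v = true) : F.f v ∈ F.CV :=
  F.mem_CV.2 fun a ha => by rw [← map_mul, ← map_mul, ((inV_spec 0 (Or.inl rfl)).2.2.1 a ha v hv).2]

theorem Frame.z_mem_CV : F.f eZ ∈ F.CV :=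
  F.mem_CV.2 fun a ha => by rw [← map_mul, ← map_mul, ((inV_spec 0 (Or.inl rfl)).2.2.2.1 a ha).2.1]

theorem Frame.w_norm_CV : F.f eW ∈ normalizer (F.CV : Set G) := by
  obtain ⟨-, -, -, hinv, -⟩ := inV_spec 0 (Or.inl rfl)
  have h3 : ∀ a, inV 0 a = true → inV 0 (eW⁻¹ * a * eW) = true := fun a ha => by
    have e : eW⁻¹ * a * eW = eW * (eW * a * eW⁻¹) * eW⁻¹ := by
      have h : eW⁻¹ = eW * eW := inv_eq_of_mul_eq_one_right (by rw [← mul_assoc, ← z_facts.2.1, pow_succ, pow_two, mul_assoc])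
      rw [show eW * (eW * a * eW⁻¹) * eW⁻¹ = eW * eW * a * (eW * eW)⁻¹ by group, ← h, inv_inv]
    rw [e]
    exact (hinv _ (hinv a ha).2.2).2.2
  have key : ∀ s : E, (∀ a, inV 0 a = true → inV 0 (s⁻¹ * a * s) = true) → ∀ x ∈ F.CV,
      F.f s * x * (F.f s)⁻¹ ∈ F.CV := by
    intro s hs x hx
    refine F.mem_CV.2 fun a ha => ?_
    have h := F.mem_CV.1 hx _ (hs a ha)
    rw [map_mul, map_mul, map_inv] at h
    calc F.f a * (F.f s * x * (F.f s)⁻¹) = F.f s * (((F.f s)⁻¹ * F.f a * F.f s) * x) * (F.f s)⁻¹ := by group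
      _ = F.f s * (x * ((F.f s)⁻¹ * F.f a * F.f s)) * (F.f s)⁻¹ := by rw [h]
      _ = _ := by group
  rw [mem_normalizer_iff]
  refine fun x => ⟨key eW h3 x, fun h => ?_⟩
  have := key eW⁻¹ (fun a ha => by rw [inv_inv]; exact (hinv a ha).2.2) _ h
  simpa [mul_assoc] using this

theorem Frame.D_norm_CV : F.D ≤ normalizer (F.CV : Set G) :=
  D_gen (le_normalizer F.z_mem_CV) F.w_norm_CV

theorem Frame.CV_cent_z {x : G} (hx : x ∈ F.CV) (hxz : x * F.f eZ = F.f eZ * x) :
    ∃ (a : E) (i : Fin 3), inV 0 a = true ∧ x = F.f (a * eZ ^ (i : ℕ)) := by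
  obtain ⟨q, rfl, hq⟩ := F.side_f.exists_coord hxz
  obtain ⟨i, hi⟩ := cent_zV q hq fun v hv => F.f_inj (by
    rw [map_mul, map_mul]; exact (F.mem_CV.1 hx v hv).symm)
  have key : ∀ i : Fin 3, ∃ j : Fin 3, eZ ^ (i : ℕ) * eZ ^ (j : ℕ) = 1 := by decide +kernel
  obtain ⟨j, hj⟩ := key i
  exact ⟨_, j, hi, by rw [mul_assoc, hj, mul_one]⟩

/-- A three-subgroup of order nine does not centralize the four-group. -/
theorem Hyp.not_nine_dvd (H : Hyp F) : ¬ 9 ∣ Nat.card F.CV := by
  intro h9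
  haveI : Fact (Nat.Prime 3) := ⟨Nat.prime_three⟩
  obtain ⟨R, hR⟩ := Sylow.exists_subgroup_card_pow_prime 3 (G := F.CV) (n := 2) (by simpa using h9)
  set R' := R.map F.CV.subtype with hR'
  have hR'c : Nat.card R' = 9 := by rw [hR', card_map_of_injective F.CV.subtype_injective, hR]; norm_num
  have hD3 : IsPGroup 3 F.D := IsPGroup.of_card (n := 2) (by rw [F.card_D]; norm_num)
  obtain ⟨P, hP⟩ := (IsPGroup.of_card (n := 2) (by rw [hR'c]; norm_num) : IsPGroup 3 R').exists_le_sylow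
  obtain ⟨g, hg⟩ := MulAction.exists_smul_eq G P (hD3.toSylow H.index_D)
  have hle : ∀ r ∈ R', g * r * g⁻¹ ∈ F.D := fun r hr => by
    have hm : g * r * g⁻¹ ∈ ((g • P : Sylow 3 G) : Subgroup G) := by
      rw [Sylow.coe_subgroup_smul]; exact ⟨r, hP hr, rfl⟩
    rw [hg, IsPGroup.toSylow_coe] at hm
    exact hm
  have heq : R'.map (MulAut.conj g).toMonoidHom = F.D := by
    refine eq_of_le_of_card_ge (fun x ⟨r, hr, e⟩ => e ▸ hle r hr) ?_
    rw [card_map_of_injective (MulAut.conj g).injective, hR'c, F.card_D]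
  have hc : g * F.f eI * g⁻¹ ∈ centralizer (F.D : Set G) := mem_centralizer_iff.2 fun d hd => by
    rw [← heq] at hd
    obtain ⟨r, ⟨m, -, rfl⟩, rfl⟩ := hd
    have := F.mem_CV.1 m.2 eI (by decide +kernel)
    show g * (m : G) * g⁻¹ * (g * F.f eI * g⁻¹) = g * F.f eI * g⁻¹ * (g * m * g⁻¹)
    calc g * (m : G) * g⁻¹ * (g * F.f eI * g⁻¹) = g * ((m : G) * F.f eI) * g⁻¹ := by group
      _ = g * (F.f eI * m) * g⁻¹ := by rw [this]
      _ = _ := by group
  rw [H.cent_D] at hc
  have h3 := F.D_cube hc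
  rw [conj_pow, conj_eq_one_iff, ← map_pow, ← map_one F.f] at h3
  exact absurd (F.f_inj h3) (by decide +kernel)

/-- `D` fixes a member of a set whose size is not a multiple of three, and moves nothing freely
in a set whose size is not a multiple of nine. -/
theorem exists_fixed {D X : Type*} [Group D] [Finite D] [Finite X] [MulAction D X] (hD : Nat.card D = 9) :
    (¬ 3 ∣ Nat.card X → ∃ x : X, ∀ d : D, d • x = x) ∧
    (¬ 9 ∣ Nat.card X → ∃ x : X, ∃ d : D, d ≠ 1 ∧ d • x = x) := by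
  haveI : Fact (Nat.Prime 3) := ⟨Nat.prime_three⟩
  refine ⟨fun h => ?_, fun h => ?_⟩
  · exact (IsPGroup.of_card (p := 3) (n := 2) (by rw [hD]; norm_num)).nonempty_fixed_point_of_prime_not_dvd_card X h
  · by_contra hc
    push Not at hc
    refine h ?_
    have hfree : ∀ x : X, MulAction.stabilizer D x = ⊥ := fun x => by
      refine eq_bot_iff.2 fun d hd => mem_bot.2 ?_
      by_contra hd1
      exact hc x d hd1 hd
    rw [Nat.card_congr (MulAction.selfEquivOrbitsQuotientProd hfree), Nat.card_prod, hD]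
    exact Dvd.intro_left _ rfl

/-- the action of the subgroup of order nine on the centralizer -/
noncomputable def Frame.act (F : Frame G) : F.D →* MulAut F.CV :=
  F.CV.normalizerMonoidHom.comp (Subgroup.inclusion F.D_norm_CV)

theorem Frame.act_apply (d : F.D) (x : F.CV) : (F.act d x : G) = d * x * (d : G)⁻¹ := rfl

/-- A prime-order subgroup of the centralizer normalized by an element or by the whole of `D`. -/
theorem Frame.exists_normalized (F : Frame G) (p : ℕ) [Fact p.Prime] (hp : p ∣ Nat.card F.CV)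
    (hp2 : ¬ p * p ∣ Nat.card F.CV) :
    (¬ 9 ∣ Nat.card F.CV → ∃ f ∈ F.CV, orderOf f = p ∧ ∃ d ∈ F.D, d ≠ 1 ∧ d * f * d⁻¹ ∈ zpowers f) ∧
    (∀ m, Nat.card F.CV = p * m → (∀ n, n ∣ m → n % p = 1 → ¬ 3 ∣ n) →
      ∃ f ∈ F.CV, orderOf f = p ∧ ∀ d ∈ F.D, d * f * d⁻¹ ∈ zpowers f) := by
  classical
  letI : MulAction F.D (Sylow p F.CV) := MulAction.compHom _ F.act
  have hgen : ∀ P : Sylow p F.CV, ∃ f ∈ F.CV, orderOf f = p ∧
      ∀ d : F.D, d • P = P → (d : G) * f * (d : G)⁻¹ ∈ zpowers f := by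
    intro P
    have hPc : Nat.card (P : Subgroup F.CV) = p := by
      rw [P.card_eq_multiplicity]
      have h1 : 1 ≤ (Nat.card F.CV).factorization p :=
        (Fact.out : p.Prime).factorization_pos_of_dvd Nat.card_pos.ne' hp
      have h2 : (Nat.card F.CV).factorization p < 2 := by
        by_contra hc
        push Not at hc
        refine hp2 ?_
        rw [← pow_two]
        exact ((Fact.out : p.Prime).pow_dvd_iff_le_factorization Nat.card_pos.ne').2 hc
      rw [show (Nat.card F.CV).factorization p = 1 by omega, pow_one]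
    obtain ⟨⟨f, hf⟩, hfo⟩ := exists_prime_orderOf_dvd_card' (G := (P : Subgroup F.CV)) p (by rw [hPc])
    rw [Subgroup.orderOf_mk] at hfo
    have hPz : (P : Subgroup F.CV) = zpowers f :=
      (eq_of_le_of_card_ge (zpowers_le.2 hf) (by rw [hPc, Nat.card_zpowers, hfo])).symm
    refine ⟨f, f.2, by rw [← hfo, Subgroup.orderOf_coe], fun d hd => ?_⟩
    have hm : F.act d f ∈ ((d • P : Sylow p F.CV) : Subgroup F.CV) := by
      show F.act d f ∈ (P : Subgroup F.CV).map (MulDistribMulAction.toMonoidEnd (MulAut F.CV) F.CV (F.act d))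
      exact ⟨f, hf, rfl⟩
    rw [hd, hPz] at hm
    obtain ⟨n, hn⟩ := mem_zpowers_iff.1 hm
    refine mem_zpowers_iff.2 ⟨n, ?_⟩
    rw [← F.act_apply, ← hn, SubgroupClass.coe_zpow]
  obtain ⟨hfix3, hfix9⟩ := exists_fixed (D := F.D) (X := Sylow p F.CV) F.card_D
  refine ⟨fun h9 => ?_, fun m hm hn => ?_⟩
  · obtain ⟨P, d, hd1, hd⟩ := hfix9 fun h => h9 (h.trans
      ((default : Sylow p F.CV).card_dvd_index.trans (Subgroup.index_dvd_card _)))
    obtain ⟨f, hf, hfo, hfd⟩ := hgen P
    exact ⟨f, hf, hfo, d, d.2, fun e => hd1 (Subtype.ext e), hfd d hd⟩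
  · obtain ⟨P, hP⟩ := hfix3 (hn _ (by
      have h1 : Nat.card (Sylow p F.CV) ∣ p * m := by
        rw [← hm]
        exact (default : Sylow p F.CV).card_dvd_index.trans (Subgroup.index_dvd_card _)
      refine Nat.Coprime.dvd_of_dvd_mul_left ?_ h1
      rw [Nat.coprime_comm, (Fact.out : p.Prime).coprime_iff_not_dvd]
      intro hd
      have := card_sylow_modEq_one p F.CV
      rw [Nat.ModEq, Nat.mod_eq_zero_of_dvd hd, Nat.mod_eq_of_lt (Fact.out : p.Prime).one_lt] at this
      exact absurd this (by norm_num)) (by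
      have := card_sylow_modEq_one p F.CV
      rwa [Nat.ModEq, Nat.mod_eq_of_lt (Fact.out : p.Prime).one_lt] at this))
    obtain ⟨f, hf, hfo, hfd⟩ := hgen P
    exact ⟨f, hf, hfo, fun d hd => hfd ⟨d, hd⟩ (hP ⟨d, hd⟩)⟩

theorem orderOf_dvd_centralizer {x f : G} (h : f * x = x * f) :
    orderOf f ∣ Nat.card (centralizer ({x} : Set G)) :=
  Subgroup.orderOf_dvd_natCard _ (mem_centralizer_singleton_iff.2 h)

/-- No element of order five centralizes the four-group. -/
theorem Hyp.not_five_dvd (H : Hyp F) (h25 : ¬ 5 * 5 ∣ Nat.card F.CV) : ¬ 5 ∣ Nat.card F.CV := by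
  intro h5
  haveI : Fact (Nat.Prime 5) := ⟨by norm_num⟩
  obtain ⟨f, hfM, hfo, d, hd, hd1, hdf⟩ := (F.exists_normalized 5 h5 h25).1 H.not_nine_dvd
  have hf5 : f ^ 5 = 1 := by rw [← hfo, pow_orderOf_eq_one]
  have hdfc : f * d = d * f := by
    obtain ⟨k, hk⟩ := ((isOfFinOrder_of_finite f).mem_powers_iff_mem_zpowers).2 hdf
    change f ^ k = d * f * d⁻¹ at hk
    have e3 : f ^ (k * k * k) = f := by
      have h1 : d ^ 3 = 1 := F.D_cube hd
      calc f ^ (k * k * k) = d * (d * (d * f * d⁻¹) * d⁻¹) * d⁻¹ := by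
            rw [← hk, ← conj_pow, ← hk, ← pow_mul, ← conj_pow, ← hk, ← pow_mul, mul_assoc]
        _ = d ^ 3 * f * (d ^ 3)⁻¹ := by rw [pow_succ, pow_two]; group
        _ = f := by rw [h1, one_mul, inv_one, mul_one]
    have e4 : k * k * k ≡ 1 [MOD 5] := by
      have := (pow_inj_mod (x := f) (n := k * k * k) (m := 1)).1 (by rw [e3, pow_one])
      rwa [hfo] at this
    have e5 : k % 5 = 1 := by
      rw [Nat.ModEq, Nat.mul_mod, Nat.mul_mod k k] at e4
      have := Nat.mod_lt k (show 5 > 0 by norm_num)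
      interval_cases k % 5 <;> simp_all
    have : f ^ k = f := by rw [← pow_mod_orderOf, hfo, e5, pow_one]
    rw [this] at hk
    rw [eq_mul_inv_iff_mul_eq] at hk
    exact hk
  have hdvd := orderOf_dvd_centralizer hdfc
  rw [hfo] at hdvd
  obtain ⟨q, hq, rfl⟩ := hd
  have hflip : ∀ y : G, f * y⁻¹ = y⁻¹ * f → f * y = y * f := fun y h => by
    have := (show Commute f y⁻¹ from h).inv_right
    rw [inv_inv] at this
    exact this.eq
  have hz : f * F.f eZ ≠ F.f eZ * f := by
    intro h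
    obtain ⟨a, i, ha, rfl⟩ := F.CV_cent_z hfM h
    have key : ∀ a : E, inV 0 a = true → ∀ i : Fin 3, (a * eZ ^ (i : ℕ)) ^ 6 = 1 := by decide +kernel
    have := orderOf_dvd_of_pow_eq_one (show F.f (a * eZ ^ (i : ℕ)) ^ 6 = 1 by rw [← map_pow, key a ha i, map_one])
    rw [hfo] at this
    omega
  have hw : f * F.f eW = F.f eW * f → False := by
    intro h
    rw [← F.link_z] at h
    obtain ⟨r, rfl, hr⟩ := F.side_g.exists_coord h
    have hr5 : r ^ 5 = 1 := F.g_inj (by rw [map_pow, hf5, map_one])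
    have hr1 : r ≠ 1 := fun e => by rw [e, map_one, orderOf_one] at hfo; omega
    have hmem : eB ∈ F.CV.comap F.g := by
      have hwm : eW ∈ F.CV.comap F.g := by
        show F.g eW ∈ F.CV
        rw [F.link_w]; exact F.z_mem_CV
      have hrm : r ∈ F.CV.comap F.g := hfM
      have := five_generates r hr5 hr1
      simp only [fiveWords, List.mem_cons, List.not_mem_nil, or_false] at this
      rcases this with e | e | e | e | e | e | e | e | e | e | e | e <;> rw [e]
      all_goals repeat' first | exact hrm | exact hwm | apply mul_mem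
    have hS : F.f eS ∈ F.CV := F.link_b ▸ hmem
    exact eB_moves fun v hv => F.f_inj (by rw [map_mul, map_mul]; exact (F.mem_CV.1 hS v hv).symm)
  rcases mixed_cases q hq (fun e => hd1 (by rw [e, map_one])) with rfl | rfl | rfl | rfl | ⟨h1, h2⟩
  · exact hz hdfc
  · rw [map_inv] at hdfc; exact hz (hflip _ hdfc)
  · exact hw hdfc
  · rw [map_inv] at hdfc; exact hw (hflip _ hdfc)
  · rw [(H.mixed q hq h1 h2).1] at hdvd
    omega

/-- An element inverting `z` modulo a normal subgroup of order prime to three can be corrected. -/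
theorem exists_inverting {M : Type*} [Group M] [Finite M] {N : Subgroup M} [N.Normal] {z k : M}
    (hz : z ^ 3 = 1) (hN : ¬ 3 ∣ Nat.card N)
    (hk : (k : M ⧸ N) * (z : M ⧸ N) * (k : M ⧸ N)⁻¹ = (z : M ⧸ N)⁻¹) :
    ∃ y : M, y * z * y⁻¹ = z⁻¹ ∧ ∃ l : M, y = l * k := by
  haveI : Fact (Nat.Prime 3) := ⟨Nat.prime_three⟩
  by_cases hz1 : z = 1
  · exact ⟨k, by rw [hz1]; simp, 1, (one_mul k).symm⟩
  have hzo : orderOf z = 3 := orderOf_eq_prime hz hz1
  set L := N ⊔ zpowers z with hL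
  have hzL : z ∈ L := mem_sup_right (mem_zpowers z)
  have hmemL : ∀ x ∈ L, ∃ i : ℤ, (x : M ⧸ N) = (z : M ⧸ N) ^ i := by
    intro x hx
    obtain ⟨n, hn, a, ha, rfl⟩ := Subgroup.mem_sup_of_normal_left.1 hx
    obtain ⟨i, rfl⟩ := mem_zpowers_iff.1 ha
    exact ⟨i, by rw [QuotientGroup.mk_mul, (QuotientGroup.eq_one_iff n).2 hn, one_mul, QuotientGroup.mk_zpow]⟩
  have hkzL : k * z * k⁻¹ ∈ L := by
    have : z * (k * z * k⁻¹) ∈ N := by
      rw [← QuotientGroup.eq_one_iff, QuotientGroup.mk_mul, QuotientGroup.mk_mul, QuotientGroup.mk_mul,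
        QuotientGroup.mk_inv, hk, mul_inv_cancel]
    rw [show k * z * k⁻¹ = z⁻¹ * (z * (k * z * k⁻¹)) by group]
    exact mul_mem (inv_mem hzL) (mem_sup_left this)
  have hLc : Nat.card L ∣ Nat.card N * 3 := by
    have h1 : Nat.card (N.subgroupOf L) = Nat.card N :=
      Nat.card_congr (subgroupOfEquivOfLe le_sup_left).toEquiv
    have h2 : Nat.card (L.map (QuotientGroup.mk' N)) ∣ 3 := by
      rw [hL, Subgroup.map_sup, MonoidHom.map_zpowers,
        (Subgroup.map_eq_bot_iff N).2 (by rw [QuotientGroup.ker_mk']), bot_sup_eq, Nat.card_zpowers, ← hzo]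
      exact orderOf_map_dvd _ _
    have h3 : Nat.card L = Nat.card (L.map (QuotientGroup.mk' N)) * Nat.card N := by
      have := (((QuotientGroup.mk' N).comp L.subtype).ker).card_mul_index
      rw [Subgroup.index_ker, MonoidHom.range_comp, range_subtype, ← MonoidHom.comap_ker,
        QuotientGroup.ker_mk', show N.comap L.subtype = N.subgroupOf L from rfl, h1] at this
      rw [← this, mul_comm]
    rw [h3, mul_comm (Nat.card N) 3]
    exact Nat.mul_dvd_mul_right h2 _
  have hsyl : ∀ {x : M} (hx : x ∈ L), orderOf x = 3 →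
      ∃ P : Sylow 3 L, (P : Subgroup L) = zpowers ⟨x, hx⟩ := by
    intro x hx hxo
    have hc : Nat.card (zpowers (⟨x, hx⟩ : L)) = 3 := by rw [Nat.card_zpowers, Subgroup.orderOf_mk, hxo]
    refine ⟨(IsPGroup.of_card (n := 1) (by rw [hc, pow_one]) : IsPGroup 3 (zpowers (⟨x, hx⟩ : L))).toSylow
      (fun h => hN ?_), rfl⟩
    have := (zpowers (⟨x, hx⟩ : L)).card_mul_index
    rw [hc] at this
    have h9 : 3 * 3 ∣ Nat.card N * 3 := (Nat.mul_dvd_mul_left 3 h).trans ((dvd_of_eq this).trans hLc)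
    exact Nat.dvd_of_mul_dvd_mul_right (by norm_num) h9
  obtain ⟨P, hP⟩ := hsyl hzL hzo
  obtain ⟨Q, hQ⟩ := hsyl hkzL ((orderOf_injective (MulAut.conj k).toMonoidHom (MulAut.conj k).injective z).trans hzo)
  obtain ⟨l, hl⟩ := MulAction.exists_smul_eq L Q P
  have hm : l * ⟨k * z * k⁻¹, hkzL⟩ * l⁻¹ ∈ (P : Subgroup L) := by
    rw [← hl, Sylow.coe_subgroup_smul, hQ]
    exact ⟨_, mem_zpowers _, rfl⟩
  rw [hP] at hm
  obtain ⟨i, hi⟩ := mem_zpowers_iff.1 hm
  have hi' : (l : M) * (k * z * k⁻¹) * (l : M)⁻¹ = z ^ i := by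
    have := congrArg Subtype.val hi
    simpa using this.symm
  refine ⟨l * k, ?_, l, rfl⟩
  have hmem : (l : M) * k * z * ((l : M) * k)⁻¹ ∈ zpowers z :=
    mem_zpowers_iff.2 ⟨i, by rw [← hi']; group⟩
  obtain ⟨j, hj⟩ := hmemL l l.2
  have hmod : (((l : M) * k * z * ((l : M) * k)⁻¹ : M) : M ⧸ N) = (z : M ⧸ N)⁻¹ := by
    rw [show (l : M) * k * z * ((l : M) * k)⁻¹ = l * (k * z * k⁻¹) * (l : M)⁻¹ by group]
    simp only [QuotientGroup.mk_mul, QuotientGroup.mk_inv]
    rw [hk, hj]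
    group
  have hzq : (z : M ⧸ N) ≠ 1 := fun h => by
    have h1 : orderOf z ∣ Nat.gcd 3 (Nat.card N) := Nat.dvd_gcd (orderOf_dvd_of_pow_eq_one hz)
      (Subgroup.orderOf_dvd_natCard N ((QuotientGroup.eq_one_iff z).1 h))
    rw [(Nat.prime_three.coprime_iff_not_dvd).2 hN, hzo] at h1
    omega
  rcases mem_zpowers_three hz hmem with h | h | h
  · rw [h, QuotientGroup.mk_one, eq_comm, inv_eq_one] at hmod
    exact absurd hmod hzq
  · rw [h] at hmod
    exfalso
    refine hzq ?_
    have h2 : (z : M ⧸ N) * (z : M ⧸ N) = 1 := mul_eq_one_iff_eq_inv.2 hmod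
    have h3 : (z : M ⧸ N) ^ 3 = 1 := by rw [← QuotientGroup.mk_pow, hz, QuotientGroup.mk_one]
    rwa [pow_succ, pow_two, h2, one_mul] at h3
  · exact h

/-- The centralizer is a signalizer extended by the first element of order three. -/
theorem Hyp.CV_structure (H : Hyp F) :
    (∀ x ∈ F.CV, ∃ (a : E) (i : Fin 3), inV 0 a = true ∧ x = F.f (a * eZ ^ (i : ℕ))) ∨
    ∃ l : Fin 5, (l = 0 ∨ l = 1) ∧ (∀ b, inV l b = true → F.g b ∈ F.CV) ∧
      ∀ x ∈ F.CV, ∃ (a b : E) (i : Fin 3), inV 0 a = true ∧ inV l b = true ∧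
        x = F.f a * F.g b * F.f eZ ^ (i : ℕ) := by
  classical
  haveI : Fact (Nat.Prime 3) := ⟨Nat.prime_three⟩
  set M := F.CV
  set N0 := Cfsg.pPrimeCore 3 M with hN0
  haveI : N0.Characteristic := CfsgLib.Coprime.pPrimeCore_characteristic 3
  have hN03 : ¬ 3 ∣ Nat.card N0 := CfsgLib.Coprime.pPrimeCore_not_dvd Nat.prime_three
  set K := N0.map M.subtype with hK
  have hKM : K ≤ M := map_subtype_le _
  have hK3 : ¬ 3 ∣ Nat.card K := by rw [hK, card_map_of_injective M.subtype_injective]; exact hN03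
  have hKD : F.D ≤ normalizer (K : Set G) := fun d hd => by
    refine mem_normalizer_iff_map_conj_eq.2 ?_
    have e := characteristic_iff_map_eq.1 (inferInstance : N0.Characteristic) (F.act ⟨d, hd⟩)
    conv_rhs => rw [hK, ← e]
    rw [hK, map_map, map_map]
    rfl
  have hVK : ∀ v, inV 0 v = true → F.f v ∈ K := by
    intro v hv
    obtain ⟨hinv1, -, hmul, hinv, -⟩ := inV_spec 0 (Or.inl rfl)
    let V0 : Subgroup E :=
      { carrier := {q | inV 0 q = true}
        one_mem' := hinv1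
        mul_mem' := fun {a b} ha hb => (hmul a ha b hb).1
        inv_mem' := fun {a} ha => by
          show inV 0 a⁻¹ = true
          rw [(hinv a ha).1]; exact ha }
    have hle : V0.map F.f ≤ M := by rintro _ ⟨q, hq, rfl⟩; exact F.V_le_CV hq
    have hn : ((V0.map F.f).subgroupOf M).Normal := ⟨fun n hn g => by
      rw [mem_subgroupOf] at hn ⊢
      obtain ⟨q, hq, e⟩ := hn
      have hc := F.mem_CV.1 g.2 q hq
      refine ⟨q, hq, ?_⟩
      show F.f q = (g : G) * n * (g : G)⁻¹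
      rw [← e, ← hc, mul_inv_cancel_right]⟩
    have h4 : Nat.card ((V0.map F.f).subgroupOf M) = 4 := by
      rw [Nat.card_congr (subgroupOfEquivOfLe hle).toEquiv, card_map_of_injective F.f_inj,
        ← (inV_spec 0 (Or.inl rfl)).2.1, ← Nat.card_eq_fintype_card]
      exact Nat.card_congr (Equiv.refl _)
    have := CfsgLib.Coprime.le_pPrimeCore_of_not_dvd (G := M) Nat.prime_three
      (N := (V0.map F.f).subgroupOf M) (by rw [h4]; norm_num)
    exact ⟨⟨F.f v, F.V_le_CV hv⟩, this (mem_subgroupOf.2 ⟨v, hv, rfl⟩), rfl⟩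
  obtain ⟨k, l, hk, hl, hKel, hlfull, hKcomm⟩ := H.signalizer K hK3 hKD
  obtain ⟨hk1, -, hkmul, hkinv, -⟩ := inV_spec k hk
  obtain ⟨hl1, -, hlmul, hlinv, -⟩ := inV_spec l hl
  have hK2 : IsPGroup 2 K := by
    intro x
    refine ⟨1, ?_⟩
    obtain ⟨a, b, ha, hb, hx, haK, hbK⟩ := hKel x x.2
    refine Subtype.ext ?_
    rw [SubgroupClass.coe_pow, hx, pow_one, (show Commute (F.f a) (F.g b) from hKcomm _ haK _ hbK).mul_pow,
      ← map_pow, ← map_pow, pow_two, pow_two]
    nth_rewrite 1 [← (hkinv a ha).1]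
    nth_rewrite 2 [← (hlinv b hb).1]
    simp
  -- the quotient
  set zM : M := ⟨F.f eZ, F.z_mem_CV⟩ with hzM
  have hz3 : zM ^ 3 = 1 := Subtype.ext (by
    rw [SubgroupClass.coe_pow]; show F.f eZ ^ 3 = 1; rw [← map_pow, z_facts.1, map_one])
  set z' : M ⧸ N0 := (zM : M ⧸ N0) with hz'
  have hz'o : orderOf z' = 3 := by
    refine orderOf_eq_prime (by rw [hz', ← QuotientGroup.mk_pow, hz3, QuotientGroup.mk_one]) fun h => ?_
    have := eq_one_of_order hN03 ((QuotientGroup.eq_one_iff zM).1 h) hz3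
    exact z_facts.2.2.1 (F.f_inj ((congrArg Subtype.val this).trans (map_one F.f).symm))
  have hz'3 : z' ^ 3 = 1 := by rw [hz', ← QuotientGroup.mk_pow, hz3, QuotientGroup.mk_one]
  have hX3 : Nat.card (zpowers z') = 3 := by rw [Nat.card_zpowers, hz'o]
  have hcent : ∀ k : M, zM * k * zM⁻¹ * k⁻¹ ∈ N0 → (k : M ⧸ N0) ∈ zpowers z' := by
    intro k hk
    obtain ⟨n, hn, hc⟩ := CfsgLib.Spor.SpFour.ThreeLocal.exists_commuting_in_coset (N := N0) hz3 hN03
      (by rw [normalizer_eq_top (H := N0)]; trivial) (by rw [normalizer_eq_top (H := N0)]; trivial) hk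
    obtain ⟨a, i, ha, e⟩ := F.CV_cent_z (k * n).2 (congrArg Subtype.val hc).symm
    have hmem : (⟨F.f a, F.V_le_CV ha⟩ : M) ∈ N0 := by
      obtain ⟨m, hm, hm'⟩ := hVK a ha
      rwa [← show m = ⟨F.f a, F.V_le_CV ha⟩ from Subtype.ext hm']
    have e' : k = ⟨F.f a, F.V_le_CV ha⟩ * zM ^ (i : ℕ) * n⁻¹ := by
      rw [eq_mul_inv_iff_mul_eq]
      exact Subtype.ext (by rw [e, map_mul, map_pow]; rfl)
    rw [e', QuotientGroup.mk_mul, QuotientGroup.mk_mul, (QuotientGroup.eq_one_iff _).2 hmem,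
      (QuotientGroup.eq_one_iff _).2 (inv_mem hn), one_mul, mul_one, QuotientGroup.mk_pow]
    exact pow_mem (mem_zpowers _) _
  have hC : centralizer ((zpowers z' : Subgroup (M ⧸ N0)) : Set (M ⧸ N0)) = zpowers z' := by
    refine le_antisymm (fun x hx => ?_) fun x hx => mem_centralizer_iff.2 fun y hy => ?_
    · obtain ⟨k, rfl⟩ := QuotientGroup.mk_surjective x
      refine hcent k ?_
      rw [← QuotientGroup.eq_one_iff, QuotientGroup.mk_mul, QuotientGroup.mk_mul, QuotientGroup.mk_mul,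
        mem_centralizer_iff.1 hx z' (mem_zpowers _)]
      simp [hz']
    · obtain ⟨i, rfl⟩ := mem_zpowers_iff.1 hx
      obtain ⟨j, rfl⟩ := mem_zpowers_iff.1 hy
      exact ((Commute.refl z').zpow_zpow _ _).eq
  have hcore : ∀ L : Subgroup (M ⧸ N0), L.Normal → ¬ 3 ∣ Nat.card L → L = ⊥ := fun L hL hd => by
    haveI := hL
    have h1 := CfsgLib.Coprime.le_pPrimeCore_of_not_dvd (G := M ⧸ N0) Nat.prime_three hd
    rwa [CfsgLib.Coprime.pPrimeCore_quotient_eq_bot Nat.prime_three, le_bot_iff] at h1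
  have hMcard : Nat.card M = Nat.card (M ⧸ N0) * Nat.card K := by
    rw [hK, card_map_of_injective M.subtype_injective, ← card_eq_card_quotient_mul_card_subgroup]
  have hnorm : (zpowers z').Normal := by
    rcases CfsgLib.Char.SelfCentThree.classify (zpowers z') hX3 hC with
      ⟨N, hN, -, hNc, hq⟩ | ⟨N, hN, -, hN2, ⟨e⟩⟩ | ⟨⟨e⟩⟩
    · have hNb := hcore N hN (fun h => by
        rw [Nat.coprime_comm, Nat.prime_three.coprime_iff_not_dvd] at hNc; exact hNc h)
      have hcard6 : Nat.card (M ⧸ N0) = 3 ∨ Nat.card (M ⧸ N0) = 6 := by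
        have := N.card_mul_index
        rw [hNb, Subgroup.card_bot, one_mul, index_bot] at this
        have hi : Nat.card ((M ⧸ N0) ⧸ N) = Nat.card (M ⧸ N0) := by
          rw [← Subgroup.index_eq_card, hNb, index_bot]
        rcases hq with h | ⟨⟨e⟩⟩
        · exact Or.inl (hi ▸ h)
        · refine Or.inr ?_
          rw [← hi, Nat.card_congr e.toEquiv, Nat.card_eq_fintype_card, Fintype.card_perm]
          rfl
      have := (zpowers z').card_mul_index
      rw [hX3] at this
      rcases hcard6 with h | h <;> rw [h] at this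
      · rw [index_eq_one.1 (show (zpowers z').index = 1 by omega)]; infer_instance
      · exact normal_of_index_eq_two (by omega)
    · exfalso
      have hNb : N = ⊥ := hcore N hN fun h => by
        haveI : Fact (Nat.Prime 3) := ⟨Nat.prime_three⟩
        obtain ⟨⟨a, ha⟩, hao⟩ := exists_prime_orderOf_dvd_card' (G := N) 3 h
        rw [Subgroup.orderOf_mk] at hao
        have := orderOf_dvd_of_pow_eq_one (hN2 a ha)
        rw [hao] at this
        omega
      obtain ⟨j, hj⟩ := (IsPGroup.iff_card (p := 2)).1 hK2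
      have hcard : Nat.card M = 5 * (12 * 2 ^ j) := by
        rw [hMcard, card_eq_card_quotient_mul_card_subgroup N, Nat.card_congr e.toEquiv,
          nat_card_alternatingGroup, Nat.card_fin, hNb, Subgroup.card_bot, hj]
        norm_num [Nat.factorial]
        ring
      refine H.not_five_dvd (fun h => ?_) (hcard ▸ dvd_mul_right _ _)
      rw [hcard] at h
      rcases (Nat.Prime.dvd_mul (by norm_num : Nat.Prime 5)).1 (Nat.dvd_of_mul_dvd_mul_left (by norm_num) h) with h | h
      · omega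
      · have := Nat.Prime.dvd_of_dvd_pow (by norm_num : Nat.Prime 5) h
        omega
    · exfalso
      haveI : Fact (Nat.Prime 7) := ⟨by norm_num⟩
      have h168 : Nat.card (M ⧸ N0) = 168 := by
        rw [Nat.card_congr e.toEquiv]
        have := CfsgLib.Classical.card_psl2 (F := ZMod 7)
        rw [ZMod.card] at this
        rw [show Nat.gcd 2 (7 - 1) = 2 by decide] at this
        omega
      haveI : Fact (Nat.Prime 7) := ⟨by norm_num⟩
      obtain ⟨j, hj⟩ := (IsPGroup.iff_card (p := 2)).1 hK2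
      have hM7 : Nat.card M = 7 * (24 * 2 ^ j) := by rw [hMcard, h168, hj]; ring
      have hcop7 : ∀ n, ¬ 7 ∣ 2 ^ n := fun n h => by
        have := (Nat.Prime.dvd_of_dvd_pow (by norm_num : Nat.Prime 7) h)
        omega
      have h49 : ¬ 7 * 7 ∣ Nat.card M := by
        rw [hM7]
        intro h
        rcases (Nat.Prime.dvd_mul (by norm_num : Nat.Prime 7)).1 (Nat.dvd_of_mul_dvd_mul_left (by norm_num) h) with h | h
        · omega
        · exact hcop7 j h
      obtain ⟨f, hfM, hfo, hfd⟩ := (F.exists_normalized 7 (by rw [hM7]; exact dvd_mul_right _ _) h49).2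
        (24 * 2 ^ j) hM7 (fun n hn h1 h3 => by
          obtain ⟨m, rfl⟩ := h3
          have hm : m ∣ 2 ^ (j + 3) := by
            refine Nat.dvd_of_mul_dvd_mul_left (by norm_num : 0 < 3) (hn.trans (dvd_of_eq ?_))
            ring
          obtain ⟨b, -, rfl⟩ := (Nat.dvd_prime_pow Nat.prime_two).1 hm
          have : ∀ b, 2 ^ b % 7 = 1 ∨ 2 ^ b % 7 = 2 ∨ 2 ^ b % 7 = 4 := by
            intro b
            induction b with
            | zero => simp
            | succ b ih => rw [pow_succ, Nat.mul_mod]; rcases ih with e | e | e <;> rw [e] <;> simp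
          rw [Nat.mul_mod] at h1
          rcases this b with e | e | e <;> rw [e] at h1 <;> norm_num at h1)
      -- some element of `D` centralizes it
      obtain ⟨q, hq, hq1, hqc⟩ : ∃ q, inD q = true ∧ q ≠ 1 ∧ f * F.f q = F.f q * f := by
        have key : ∀ d ∈ F.D, ∃ k, d * f * d⁻¹ = f ^ k ∧ (k = 1 ∨ k = 2 ∨ k = 4) := by
          intro d hd
          obtain ⟨k, hk⟩ := ((isOfFinOrder_of_finite f).mem_powers_iff_mem_zpowers).2 (hfd d hd)
          change f ^ k = d * f * d⁻¹ at hk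
          refine ⟨k % 7, by rw [← hk, ← pow_mod_orderOf, hfo], ?_⟩
          have e3 : f ^ (k * k * k) = f := by
            have h1 : d ^ 3 = 1 := F.D_cube hd
            calc f ^ (k * k * k) = d * (d * (d * f * d⁻¹) * d⁻¹) * d⁻¹ := by
                  rw [← hk, ← conj_pow, ← hk, ← pow_mul, ← conj_pow, ← hk, ← pow_mul, mul_assoc]
              _ = d ^ 3 * f * (d ^ 3)⁻¹ := by rw [pow_succ, pow_two]; group
              _ = f := by rw [h1, one_mul, inv_one, mul_one]
          have e4 : k * k * k ≡ 1 [MOD 7] := by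
            have := (pow_inj_mod (x := f) (n := k * k * k) (m := 1)).1 (by rw [e3, pow_one])
            rwa [hfo] at this
          rw [Nat.ModEq, Nat.mul_mod, Nat.mul_mod k k] at e4
          have := Nat.mod_lt k (show 7 > 0 by norm_num)
          interval_cases k % 7 <;> simp_all
        obtain ⟨a, ha, ha'⟩ := key _ F.z_mem
        obtain ⟨b, hb, hb'⟩ := key _ F.w_mem
        have hexp : ∀ i : ℕ, F.f eZ * F.f eW ^ i * f * (F.f eZ * F.f eW ^ i)⁻¹ = f ^ (a * b ^ i) := by
          intro i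
          induction i with
          | zero => simpa using ha
          | succ i ih =>
            calc F.f eZ * F.f eW ^ (i + 1) * f * (F.f eZ * F.f eW ^ (i + 1))⁻¹
                = F.f eZ * F.f eW ^ i * (F.f eW * f * (F.f eW)⁻¹) * (F.f eZ * F.f eW ^ i)⁻¹ := by
                  rw [pow_succ]; group
              _ = f ^ (a * b ^ (i + 1)) := by rw [hb, ← conj_pow, ih, ← pow_mul, pow_succ, mul_assoc]
        have hcm : ∀ x : G, x * f * x⁻¹ = f → f * x = x * f := fun x h => (mul_inv_eq_iff_eq_mul.1 h).symm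
        have h71 : f ^ 8 = f := by rw [pow_succ, ← hfo, pow_orderOf_eq_one, one_mul]
        have h74 : f ^ 64 = f := by rw [show (64 : ℕ) = 7 * 9 + 1 by rfl, pow_succ, pow_mul, ← hfo, pow_orderOf_eq_one, one_pow, one_mul]
        rcases hb' with rfl | hb'
        · exact ⟨eW, inD_one.2.2, z_facts.2.2.2.1, hcm _ (by rw [hb, pow_one])⟩
        rcases ha' with rfl | ha'
        · exact ⟨eZ, inD_one.2.1, z_facts.2.2.1, hcm _ (by rw [ha, pow_one])⟩
        have key2 : inD (eZ * eW ^ 1) = true ∧ inD (eZ * eW ^ 2) = true ∧ eZ * eW ^ 1 ≠ 1 ∧ eZ * eW ^ 2 ≠ 1 := by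
          decide +kernel
        rcases ha' with rfl | rfl <;> rcases hb' with rfl | rfl
        · refine ⟨_, key2.2.1, key2.2.2.2, hcm _ ?_⟩
          rw [map_mul, map_pow, hexp]; simpa using h71
        · refine ⟨_, key2.1, key2.2.2.1, hcm _ ?_⟩
          rw [map_mul, map_pow, hexp]; simpa using h71
        · refine ⟨_, key2.1, key2.2.2.1, hcm _ ?_⟩
          rw [map_mul, map_pow, hexp]; simpa using h71
        · refine ⟨_, key2.2.1, key2.2.2.2, hcm _ ?_⟩
          rw [map_mul, map_pow, hexp]; simpa using h74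
      have hdvd := orderOf_dvd_centralizer hqc
      rw [hfo] at hdvd
      have hside : ∀ {h : E →* G}, Side h → f * h eZ = h eZ * f → False := by
        intro h S hc
        obtain ⟨r, rfl, hr⟩ := S.exists_coord hc
        have h7 := orderOf_dvd_natCard r
        rw [← orderOf_injective h S.inj r, hfo, Nat.card_eq_fintype_card, card_E] at h7
        omega
      have hflip : ∀ y : G, f * y⁻¹ = y⁻¹ * f → f * y = y * f := fun y h => by
        have := (show Commute f y⁻¹ from h).inv_right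
        rw [inv_inv] at this
        exact this.eq
      rcases mixed_cases q hq hq1 with rfl | rfl | rfl | rfl | ⟨h1, h2⟩
      · exact hside F.side_f hqc
      · rw [map_inv] at hqc; exact hside F.side_f (hflip _ hqc)
      · rw [← F.link_z] at hqc; exact hside F.side_g hqc
      · rw [map_inv] at hqc; exact hside F.side_g (by rw [F.link_z]; exact hflip _ hqc)
      · rw [(H.mixed q hq h1 h2).1] at hdvd
        omega
  -- hence `M = K⟨z⟩`
  have hgenM : ∀ x ∈ M, ∃ a b : E, ∃ i : Fin 3, inV k a = true ∧ inV l b = true ∧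
      F.f a ∈ K ∧ F.g b ∈ K ∧ x = F.f a * F.g b * F.f eZ ^ (i : ℕ) := by
    intro x hx
    have key : ((⟨x, hx⟩ : M) : M ⧸ N0) ∈ zpowers z' := by
      by_contra hne
      have hconj : ((⟨x, hx⟩ : M) : M ⧸ N0) * z' * ((⟨x, hx⟩ : M) : M ⧸ N0)⁻¹ ∈ zpowers z' :=
        hnorm.conj_mem z' (mem_zpowers _) _
      rcases mem_zpowers_three hz'3 hconj with h | h | h
      · rw [conj_eq_one_iff] at h
        rw [h, orderOf_one] at hz'o
        omega
      · refine hne (hC ▸ mem_centralizer_iff.2 fun y hy => ?_)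
        obtain ⟨i, rfl⟩ := mem_zpowers_iff.1 hy
        have hc : Commute z' ((⟨x, hx⟩ : M) : M ⧸ N0) := (mul_inv_eq_iff_eq_mul.1 h).symm
        exact (hc.zpow_left i).eq
      · -- an inverting element in the coset
        obtain ⟨y, hyC, hy⟩ := exists_inverting hz3 hN03 (k := (⟨x, hx⟩ : M)) h
        obtain ⟨q, hq⟩ := show (y : G) ∈ F.f.range by
          rw [F.f_range, mem_normalizer_iff_map_conj_eq, MonoidHom.map_zpowers]
          show zpowers ((y : G) * F.f eZ * (y : G)⁻¹) = _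
          rw [show (y : G) * F.f eZ * (y : G)⁻¹ = (F.f eZ)⁻¹ from congrArg Subtype.val hyC, zpowers_inv]
        have hqz : q * eZ = eZ * q := norm_zV q fun v hv => F.f_inj (by
          rw [map_mul, map_mul, hq]; exact (F.mem_CV.1 y.2 v hv).symm)
        have hyz : (y : G) * F.f eZ * (y : G)⁻¹ = F.f eZ := by
          rw [← hq, ← map_inv, ← map_mul, ← map_mul, hqz, mul_inv_cancel_right]
        have h2 : F.f eZ = (F.f eZ)⁻¹ := hyz.symm.trans (congrArg Subtype.val hyC)
        rw [← map_inv] at h2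
        exact absurd (F.f_inj h2) (by decide +kernel)
    obtain ⟨i, hi⟩ := mem_zpowers_three hz'3 key |>.elim
      (fun h => (⟨(0 : Fin 3), by simpa using h⟩ : ∃ i : Fin 3, ((⟨x, hx⟩ : M) : M ⧸ N0) = z' ^ (i : ℕ)))
      fun h => h.elim (fun h => ⟨1, by simpa using h⟩) fun h => ⟨2, by
        rw [h]; exact inv_eq_of_mul_eq_one_right (by
          show z' * z' ^ 2 = 1
          rw [← pow_succ', hz'3])⟩
    have hn : (⟨x, hx⟩ : M) * (zM ^ (i : ℕ))⁻¹ ∈ N0 := by
      rw [← QuotientGroup.eq_one_iff, QuotientGroup.mk_mul, QuotientGroup.mk_inv, QuotientGroup.mk_pow,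
        hi, mul_inv_cancel]
    obtain ⟨a, b, ha, hb, e, haK, hbK⟩ := hKel (x * ((F.f eZ) ^ (i : ℕ))⁻¹) ⟨_, hn, by simp [hzM]⟩
    exact ⟨a, b, i, ha, hb, haK, hbK, by rw [← e, inv_mul_cancel_right]⟩
  have hk0 : ∀ a, inV k a = true → F.f a ∈ K → inV 0 a = true := by
    intro a ha haK
    obtain ⟨r, hr⟩ : ∃ r, inV 0 r = true ∧ r ≠ 1 := ⟨eI, by decide +kernel⟩
    have key : ∀ a : E, inV 1 a = true → (∀ v : E, inV 0 v = true → a * v = v * a) → inV 0 a = true := by
      decide +kernel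
    rcases hk with rfl | rfl
    · exact ha
    · exact key a ha fun v hv => F.f_inj (by rw [map_mul, map_mul]; exact (F.mem_CV.1 (hKM haK) v hv).symm)
  by_cases hB : ∃ b, inV l b = true ∧ F.g b ∈ K ∧ b ≠ 1
  · obtain ⟨b, hb, hbK, hb1⟩ := hB
    refine Or.inr ⟨l, hl, fun c hc => hKM (hlfull ⟨F.g b, hbK, ?_, fun e => hb1 (F.g_inj (e.trans (map_one F.g).symm))⟩ c hc), fun x hx => ?_⟩
    · rw [← F.link_z, ← map_mul, ← map_mul, (hlinv b hb).2.1]
    · obtain ⟨a, c, i, ha, hc, haK, -, rfl⟩ := hgenM x hx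
      exact ⟨a, c, i, hk0 a ha haK, hc, rfl⟩
  · refine Or.inl fun x hx => ?_
    obtain ⟨a, c, i, ha, hc, haK, hcK, rfl⟩ := hgenM x hx
    push Not at hB
    refine ⟨a, i, hk0 a ha haK, ?_⟩
    rw [hB c hc hcK, map_one, mul_one, map_mul, map_pow]

end CfsgLib.Spor.AltEightLocal
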