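import Cfsg.Agent.Lib.Char.SelfCentThree.Main

/-!
# Groups with a central involution over a self-centralizing element of order three
-/

set_option autoImplicit false
set_option linter.style.haveILetI false
set_option linter.unusedSectionVars false

namespace CfsgLib.Spor.AltEightLocal

open Subgroup

variable {L : Type*} [Group L] [Finite L]

theorem zpowers_central_normal {i : L} (hcen : ∀ x : L, x * i = i * x) : (zpowers i).Normal :=
  ⟨fun x hx g => by
    obtain ⟨n, rfl⟩ := mem_zpowers_iff.1 hx
    rw [((show Commute g i from hcen g).zpow_right n).eq, mul_inv_cancel_right]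
    exact zpow_mem (mem_zpowers i) n⟩

theorem mem_zpowers_invol {i x : L} (hi : i ^ 2 = 1) (hx : x ∈ zpowers i) : x = 1 ∨ x = i := by
  obtain ⟨n, rfl⟩ := mem_zpowers_iff.1 hx
  rw [zpow_eq_zpow_emod' n hi]
  rcases (show n % ((2 : ℕ) : ℤ) = 0 ∨ n % ((2 : ℕ) : ℤ) = 1 by omega) with e | e <;> rw [e]
  · exact Or.inl (zpow_zero i)
  · exact Or.inr (zpow_one i)

/-- The image of an element of order three is self-centralizing. -/
theorem self_cent_quotient {i z : L} [hn : (zpowers i).Normal] (hi : i ^ 2 = 1) (hi1 : i ≠ 1)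
    (hcen : ∀ x : L, x * i = i * x) (hz : z ^ 3 = 1) (hz1 : z ≠ 1)
    (hcent : ∀ k, k * z = z * k → ∃ n : ℕ, k = z ^ n ∨ k = i * z ^ n) :
    Nat.card (zpowers (z : L ⧸ zpowers i)) = 3 ∧
      centralizer ((zpowers (z : L ⧸ zpowers i) : Subgroup (L ⧸ zpowers i)) : Set (L ⧸ zpowers i)) =
        zpowers (z : L ⧸ zpowers i) := by
  haveI : Fact (Nat.Prime 3) := ⟨Nat.prime_three⟩
  have hker : ∀ {x : L}, (x : L ⧸ zpowers i) = 1 → x = 1 ∨ x = i := fun {x} h =>
    mem_zpowers_invol hi ((QuotientGroup.eq_one_iff x).1 h)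
  have hπi : (i : L ⧸ zpowers i) = 1 := (QuotientGroup.eq_one_iff i).2 (mem_zpowers i)
  set z' := (z : L ⧸ zpowers i) with hz'
  have hz'3 : orderOf z' = 3 := by
    refine orderOf_eq_prime (by rw [hz', ← QuotientGroup.mk_pow, hz, QuotientGroup.mk_one]) fun h => ?_
    rcases hker h with e | e
    · exact hz1 e
    · rw [e, pow_succ, hi, one_mul] at hz
      exact hi1 hz
  refine ⟨by rw [Nat.card_zpowers, hz'3], le_antisymm (fun x hx => ?_) fun x hx => mem_centralizer_iff.2 fun y hy => ?_⟩
  · obtain ⟨k, rfl⟩ := QuotientGroup.mk_surjective x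
    have hk : ((k * z * k⁻¹ * z⁻¹ : L) : L ⧸ zpowers i) = 1 := by
      simp only [QuotientGroup.mk_mul, QuotientGroup.mk_inv]
      rw [← hz', ← mem_centralizer_iff.1 hx z' (mem_zpowers _)]
      simp [mul_assoc]
    have hkz : k * z = z * k := by
      rcases hker hk with e | e
      · rw [mul_inv_eq_one, mul_inv_eq_iff_eq_mul] at e
        exact e
      · exfalso
        rw [mul_inv_eq_iff_eq_mul] at e
        have h3 : (k * z * k⁻¹) ^ 3 = 1 := by rw [conj_pow, hz, mul_one, mul_inv_cancel]
        rw [e, (show Commute i z from (hcen z).symm).mul_pow, hz, mul_one, pow_succ, hi, one_mul] at h3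
        exact hi1 h3
    obtain ⟨n, rfl | rfl⟩ := hcent k hkz
    · rw [QuotientGroup.mk_pow]; exact pow_mem (mem_zpowers _) _
    · rw [QuotientGroup.mk_mul, QuotientGroup.mk_pow, hπi, one_mul]; exact pow_mem (mem_zpowers _) _
  · obtain ⟨a, rfl⟩ := mem_zpowers_iff.1 hx
    obtain ⟨b, rfl⟩ := mem_zpowers_iff.1 hy
    exact ((Commute.refl z').zpow_zpow _ _).eq

/-- A normal subgroup avoiding three has order one modulo three. -/
theorem card_mod_three {X : Type*} [Group X] [Finite X] {z : X} (hz : Nat.card (zpowers z) = 3)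
    (hC : centralizer ((zpowers z : Subgroup X) : Set X) = zpowers z)
    (N : Subgroup X) [N.Normal] (hN : ¬ 3 ∣ Nat.card N) : Nat.card N % 3 = 1 := by
  haveI : Fact (Nat.Prime 3) := ⟨Nat.prime_three⟩
  letI : MulAction (zpowers z) N :=
    MulAction.compHom N ((MulAut.conjNormal : X →* MulAut N).comp (zpowers z).subtype)
  have hfix : Nat.card (MulAction.fixedPoints (zpowers z) N) = 1 := by
    rw [Nat.card_eq_one_iff_unique]
    have key : ∀ x : MulAction.fixedPoints (zpowers z) N, ((x : N) : X) = 1 := by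
      intro x
      have hx : ((x : N) : X) ∈ centralizer ((zpowers z : Subgroup X) : Set X) :=
        mem_centralizer_iff.2 fun y hy => by
          have e := congrArg Subtype.val (x.2 ⟨y, hy⟩)
          change y * ((x : N) : X) * y⁻¹ = ((x : N) : X) at e
          exact mul_inv_eq_iff_eq_mul.1 e
      rw [hC] at hx
      have h1 : orderOf ((x : N) : X) ∣ Nat.gcd 3 (Nat.card N) :=
        Nat.dvd_gcd (hz ▸ Subgroup.orderOf_dvd_natCard _ hx) (Subgroup.orderOf_dvd_natCard N (x : N).2)
      rw [(Nat.prime_three.coprime_iff_not_dvd).2 hN] at h1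
      exact orderOf_eq_one_iff.1 (Nat.dvd_one.1 h1)
    exact ⟨⟨fun a b => Subtype.ext (Subtype.ext ((key a).trans (key b).symm))⟩,
      ⟨⟨1, fun g => map_one (MulAut.conjNormal (g : X))⟩⟩⟩
  have h := (IsPGroup.of_card (p := 3) (n := 1) (by rw [hz, pow_one]) : IsPGroup 3 (zpowers z)
    ).card_modEq_card_fixedPoints N
  rw [hfix, Nat.ModEq] at h
  omega

/-- A normal Sylow two-subgroup of a nilpotent normal subgroup. -/
theorem exists_normal_two_part {X : Type*} [Group X] [Finite X] (N : Subgroup X) [N.Normal]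
    (hnil : Group.IsNilpotent N) :
    ∃ P : Subgroup X, P.Normal ∧ P ≤ N ∧ Nat.card P = 2 ^ (Nat.card N).factorization 2 := by
  haveI : Fact (Nat.Prime 2) := ⟨Nat.prime_two⟩
  haveI := hnil
  let P : Sylow 2 N := default
  haveI : (P : Subgroup N).Characteristic :=
    P.characteristic_of_normal (P.normal_of_normalizerCondition Group.normalizerCondition_of_isNilpotent)
  exact ⟨(P : Subgroup N).map N.subtype, inferInstance, map_subtype_le _,
    by rw [card_map_of_injective N.subtype_injective, P.card_eq_multiplicity]⟩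

end CfsgLib.Spor.AltEightLocal
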