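import Cfsg.Agent.Lib.Spor.AltEightLocal.Fusion
import Cfsg.Agent.Lib.Spor.AltEightLocal.Quot
import Cfsg.Agent.Lib.Invol.TransferOrder

/-!
# The centralizer of the involution moving four points
-/

set_option autoImplicit false
set_option linter.style.haveILetI false
set_option linter.unusedSectionVars false
set_option synthInstance.maxSize 4000
set_option synthInstance.maxHeartbeats 80000

namespace CfsgLib.Spor.AltEightLocal

open Subgroup

attribute [local instance 5000] List.decidableBAll List.decidableBEx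

/-- the eight elements spanned by three commuting involutions -/
def eightList (u c : A8) : List A8 := [1, i8, u, i8 * u, c, i8 * c, u * c, i8 * u * c]

/-- the partners of `i8` in such a list -/
def partners (u c : A8) : List A8 := (eightList u c).filter fun b => six b && six (i8 * b)

theorem T8_fusion_list : ∀ u ∈ T8, chi u = true → six u = true → six (u * i8) = true →
    ∃ c ∈ T8, (∀ a ∈ partners u c, a ∈ S8 ∧ i8 * a ∈ S8 ∧ a * a = 1 ∧ (i8 * a) * (i8 * a) = 1 ∧
      a ≠ 1 ∧ i8 * a ≠ 1 ∧ a * u = u * a ∧ a * i8 = i8 * a) ∧ (partners u c).toFinset.card = 4 := by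
  decide +kernel

/-- the elements of `T8` stabilizing a pair -/
def Q8 : List A8 := T8.filter fun x => chi x

theorem Q8_facts : (1 : A8) ∈ Q8 ∧ (∀ a ∈ Q8, ∀ b ∈ Q8, a * b ∈ Q8) ∧ Q8.toFinset.card = 16 ∧
    (∀ a ∈ Q8, a ∈ T8) ∧ (∀ a ∈ T8, a ∈ S8 ∧ a * i8 = i8 * a ∧ (a ∈ Q8 ↔ chi a = true)) ∧
    (∀ a ∈ T8, ∀ b ∈ T8, a * b ∈ T8) ∧ i8 * v8 = v8 * i8 := by decide +kernel

/-- the product of the four-group on the first points with `i8` -/
def Q1 : List A8 := B8 ++ B8.map fun a => i8 * a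

theorem Q1_facts : (1 : A8) ∈ Q1 ∧ (∀ a ∈ Q1, ∀ b ∈ Q1, a * b ∈ Q1) ∧ Q1.toFinset.card = 8 ∧
    (∀ a ∈ Q1, a ∈ R8 ∧ a * a = 1 ∧ ¬ (six a = true ∧ six (a * i8) = true)) ∧ i8 ∈ Q1 := by decide +kernel

/-- the Sylow subgroup containing `t8` -/
def At : List A8 := Q1 ++ Q1.map fun a => t8 * a

/-- the Sylow subgroup containing `v8 * t8` -/
def Au : List A8 := Q1 ++ Q1.map fun a => v8 * t8 * a

theorem At_facts : (1 : A8) ∈ At ∧ (∀ a ∈ At, ∀ b ∈ At, a * b ∈ At) ∧ At.toFinset.card = 16 ∧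
    (∀ a ∈ Q1, a ∈ At) ∧ (∀ a ∈ At, a ∈ Q1 ∨ ∃ q ∈ Q1, a = t8 * q) ∧
    t8 ∈ S8 ∧ t8 * i8 ∈ S8 ∧ t8 ≠ 1 ∧ t8 * i8 ≠ 1 ∧ (t8 * i8) * (t8 * i8) = 1 ∧
    six t8 = true ∧ six (t8 * i8) = true ∧ i8 * t8 = t8 * i8 ∧ t8 ∈ At ∧ t8 * i8 ∈ At := by decide +kernel

theorem Au_facts : (1 : A8) ∈ Au ∧ (∀ a ∈ Au, ∀ b ∈ Au, a * b ∈ Au) ∧ Au.toFinset.card = 16 ∧
    (∀ a ∈ Q1, a ∈ Au) ∧ (∀ a ∈ Au, a ∈ Q1 ∨ ∃ q ∈ Q1, a = v8 * t8 * q) ∧
    (∀ a ∈ Au, a ∉ Q1 → a * a ≠ 1) ∧ (v8 * t8) * (v8 * t8) = i8 := by decide +kernel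

theorem comm_facts : (∀ b ∈ B8, ∃ b' ∈ B8, b = z8 * b' * z8⁻¹ * b'⁻¹ ∧ b' ∈ T8) ∧
    (∀ b ∈ B8, b * b = 1 ∧ b * i8 = i8 * b) ∧ i8 ∈ T8 ∧ v8 ∈ T8 ∧ z8 * z8 * z8 = 1 := by decide +kernel

theorem V8_onto : ∃ p ∈ W8, ∀ v ∈ V8, ∃ a ∈ B8, p * a * p⁻¹ = v := by decide +kernel

theorem sym_three_comm : ∀ a c : Equiv.Perm (Fin 3), a * c * a⁻¹ * c⁻¹ * (a * c * a⁻¹ * c⁻¹) = 1 →
    a * c * a⁻¹ * c⁻¹ = 1 := by decide +kernel

variable {G : Type*} [Group G] [Finite G]

/-- A subgroup of index two which contains the central involution descends. -/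
theorem no_index_two {L : Type*} [Group L] [Finite L] {i : L} [(zpowers i).Normal]
    (hs : IsSimpleGroup (L ⧸ zpowers i)) (h4 : 4 ≤ Nat.card (L ⧸ zpowers i)) (K : Subgroup L)
    (hK : K.index = 2) (hi : i ∈ K) : False := by
  have hle : (QuotientGroup.mk' (zpowers i)).ker ≤ K := by
    rw [QuotientGroup.ker_mk']; exact zpowers_le.2 hi
  have h2 := index_map_eq K (QuotientGroup.mk'_surjective (zpowers i)) hle
  rw [hK] at h2
  haveI := normal_of_index_eq_two h2
  rcases hs.eq_bot_or_eq_top_of_normal _ this with h | h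
  · rw [h, index_bot] at h2; omega
  · rw [h, index_top] at h2; omega

/-- a group of list elements inside a subgroup of `G` -/
def pullList {K : Type*} [Group K] (e : K →* G) (φ : A8 →* G) (l : List A8) (h1 : (1 : A8) ∈ l)
    (hmul : ∀ a ∈ l, ∀ b ∈ l, a * b ∈ l) : Subgroup K :=
  ((listSubgroup l h1 hmul).map φ).comap e

theorem mem_pullList {K : Type*} [Group K] {e : K →* G} {φ : A8 →* G} {l : List A8} {h1 hmul} {x : K} :
    x ∈ pullList e φ l h1 hmul ↔ ∃ a ∈ l, φ a = e x :=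
  ⟨fun ⟨a, ha, h⟩ => ⟨a, ha, h⟩, fun ⟨a, ha, h⟩ => ⟨a, ha, h⟩⟩

theorem card_pullList {K : Type*} [Group K] [Finite K] {e : K →* G} {φ : A8 →* G} (he : Function.Injective e)
    (hφ : Function.Injective φ) {l : List A8} {h1 hmul} (hmem : ∀ a ∈ l, φ a ∈ e.range) :
    Nat.card (pullList e φ l h1 hmul) = l.toFinset.card := by
  rw [← card_map_of_injective he, pullList, map_comap_eq_self, card_map_of_injective hφ, card_listSubgroup]
  rintro _ ⟨a, ha, rfl⟩
  exact hmem a ha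

theorem relIndex_of_card {K : Type*} [Group K] [Finite K] {A B : Subgroup K} (h : A ≤ B) {m : ℕ}
    (hA : Nat.card A = m) (hB : Nat.card B = 2 * m) : A.relIndex B = 2 := by
  have h1 := (A.subgroupOf B).card_mul_index
  rw [Nat.card_congr (subgroupOfEquivOfLe h).toEquiv, hA, hB, mul_comm 2 m] at h1
  have hm : 0 < m := hA ▸ Nat.card_pos
  exact Nat.eq_of_mul_eq_mul_left hm h1

namespace Emb

variable {F : Frame G} (M : Emb F)
include M

/-- The second involution has no conjugate in the group stabilizing a pair. -/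
theorem v_fusion (H : Hyp F) {g : G} (hg : g * M.φ i8 = M.φ i8 * g) {u : A8} (hu : u ∈ Q8)
    (h : g * M.φ v8 * g⁻¹ = M.φ u) : False := by
  obtain ⟨-, -, -, hQT, hT, hTm, hiv⟩ := Q8_facts
  obtain ⟨hsix, -, hiR, -, hvR, hi1, -, -, hsv, -⟩ := class_facts
  obtain ⟨hR, -, hVR, -, -⟩ := R8_closed
  obtain ⟨-, hi2, -⟩ := elt_facts
  have huT := hQT u hu
  have hv1 : v8 ≠ 1 := by decide +kernel
  have hv2 : v8 * v8 = 1 := (hR v8 hvR v8 hvR).2.2
  have hu2 : u * u = 1 := M.inj (by rw [map_mul, ← h, conj_mul, ← map_mul, hv2, map_one, mul_one, mul_inv_cancel])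
  have hu1 : u ≠ 1 := fun e => hv1 (M.inj (by
    rw [e, map_one, conj_eq_one_iff] at h
    rw [h, map_one]))
  have hu6 : six u = true := (M.six_iff_S H (hT u huT).1 hu2 hu1).2
    (((M.six_iff H hvR hv1).1 hsv).trans (isConj_iff.2 ⟨g, h⟩))
  have hw : g * M.φ (v8 * i8) * g⁻¹ = M.φ (u * i8) := by
    rw [map_mul, map_mul, ← h]
    calc g * (M.φ v8 * M.φ i8) * g⁻¹ = g * M.φ v8 * g⁻¹ * (g * M.φ i8 * g⁻¹) := by group
      _ = _ := by rw [hg, mul_inv_cancel_right]
  have hvi1 : v8 * i8 ≠ 1 := by decide +kernel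
  have hui1 : u * i8 ≠ 1 := fun e => hvi1 (M.inj (by
    rw [e, map_one, conj_eq_one_iff] at hw
    rw [hw, map_one]))
  have hui2 : (u * i8) * (u * i8) = 1 := by
    have hc : u * i8 = i8 * u := (hT u huT).2.1
    calc (u * i8) * (u * i8) = u * (i8 * u) * i8 := by group
      _ = (u * u) * (i8 * i8) := by rw [← hc]; group
      _ = 1 := by rw [hu2, hi2, one_mul]
  have hui6 : six (u * i8) = true :=
    (M.six_iff_S H (hT _ (hTm u huT i8 (comm_facts.2.2.1))).1 hui2 hui1).2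
      (((M.six_iff H (hR v8 hvR i8 hiR).1 hvi1).1 (by decide +kernel)).trans (isConj_iff.2 ⟨g, hw⟩))
  obtain ⟨c, -, hL, hL4⟩ := T8_fusion_list u huT ((hT u huT).2.2.1 hu) hu6 hui6
  have himg : ∀ a ∈ partners u c, ∃ r ∈ R8, (six r && six (i8 * r)) = true ∧ g⁻¹ * M.φ a * g = M.φ r := by
    intro a ha
    obtain ⟨haS, hiaS, ha2, hia2, ha1, hia1, hau, hai⟩ := hL a ha
    have hai' : Commute (M.φ a) (M.φ i8) := by
      show _ * _ = _; rw [← map_mul, ← map_mul, hai]
    have hau' : Commute (M.φ a) (M.φ u) := by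
      show _ * _ = _; rw [← map_mul, ← map_mul, hau]
    have hgi : g⁻¹ * M.φ i8 * g = M.φ i8 := by rw [mul_assoc, ← hg, inv_mul_cancel_left]
    have hgu : g⁻¹ * M.φ u * g = M.φ v8 := by rw [← h]; group
    set x := g⁻¹ * M.φ a * g with hx
    have hxi : Commute (M.φ i8) x := by
      rw [← hgi, hx]
      show _ * _ = _
      calc g⁻¹ * M.φ i8 * g * (g⁻¹ * M.φ a * g) = g⁻¹ * (M.φ i8 * M.φ a) * g := by group
        _ = g⁻¹ * (M.φ a * M.φ i8) * g := by rw [hai'.eq]
        _ = _ := by group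
    have hxv : Commute (M.φ v8) x := by
      rw [← hgu, hx]
      show _ * _ = _
      calc g⁻¹ * M.φ u * g * (g⁻¹ * M.φ a * g) = g⁻¹ * (M.φ u * M.φ a) * g := by group
        _ = g⁻¹ * (M.φ a * M.φ u) * g := by rw [hau'.eq]
        _ = _ := by group
    have hxC : x ∈ F.CV := M.cent_V8 fun b hb => by
      have key : ∀ b ∈ V8, b = 1 ∨ b = i8 ∨ b = v8 ∨ b = i8 * v8 := by decide +kernel
      rcases key b hb with rfl | rfl | rfl | rfl
      · rw [map_one, one_mul, mul_one]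
      · exact hxi
      · exact hxv
      · rw [map_mul]; exact hxi.mul_left hxv
    obtain ⟨r, hr, hrx⟩ := M.CV_involution hxC (by
      rw [hx, pow_two, show g⁻¹ * M.φ a * g * (g⁻¹ * M.φ a * g) = g⁻¹ * (M.φ a * M.φ a) * g by group,
        ← map_mul, ha2, map_one, mul_one, inv_mul_cancel])
    refine ⟨r, hr, ?_, hrx.symm⟩
    have hr1 : r ≠ 1 := fun e => ha1 (M.inj (by
      rw [e, map_one, hx] at hrx
      calc M.φ a = g * (g⁻¹ * M.φ a * g) * g⁻¹ := by group
        _ = M.φ 1 := by rw [← hrx, mul_one, mul_inv_cancel, map_one]))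
    have hir : g⁻¹ * M.φ (i8 * a) * g = M.φ (i8 * r) := by
      rw [map_mul, map_mul, hrx, hx]
      nth_rewrite 2 [← hgi]
      group
    have hir1 : i8 * r ≠ 1 := fun e => hia1 (M.inj (by
      rw [e, map_one] at hir
      calc M.φ (i8 * a) = g * (g⁻¹ * M.φ (i8 * a) * g) * g⁻¹ := by group
        _ = M.φ 1 := by rw [hir, mul_one, mul_inv_cancel, map_one]))
    have hp : six a = true ∧ six (i8 * a) = true := by
      simpa [partners] using (List.mem_filter.1 ha).2
    rw [Bool.and_eq_true]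
    refine ⟨(M.six_iff H hr hr1).2 (((M.six_iff_S H haS ha2 ha1).1 hp.1).trans
      (isConj_iff.2 ⟨g⁻¹, by rw [inv_inv, hrx, hx]⟩)),
      (M.six_iff H (hR i8 hiR r hr).1 hir1).2 (((M.six_iff_S H hiaS hia2 hia1).1 hp.2).trans
      (isConj_iff.2 ⟨g⁻¹, by rw [inv_inv, hir]⟩))⟩
  choose! f hf hf6 hfe using himg
  have hle : (partners u c).toFinset.card ≤ (R8.filter fun b => six b && six (i8 * b)).toFinset.card := by
    refine Finset.card_le_card_of_injOn f (fun a ha => ?_) (fun a ha b hb e => M.inj ?_)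
    · have ha' : a ∈ partners u c := by simpa using ha
      simp only [List.coe_toFinset, Set.mem_setOf_eq, List.mem_filter]
      exact ⟨hf a ha', hf6 a ha'⟩
    · have := (hfe a (by simpa using ha)).trans ((congrArg M.φ e).trans (hfe b (by simpa using hb)).symm)
      exact mul_left_cancel (mul_right_cancel this)
  have := R8_partners i8 hiR hsix
  omega

theorem cent_i (H : Hyp F) : centralizer ({M.φ i8} : Set G) ≤ M.φ.range := by
  classical
  haveI : Fact (Nat.Prime 2) := ⟨Nat.prime_two⟩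
  obtain ⟨hR, -, hVR, hBR, hRS⟩ := R8_closed
  obtain ⟨hT32, hVT, hBT, htT, -⟩ := T8_facts
  obtain ⟨hQ1, hQm, hQ16, hQT, hT, hTm, hiv⟩ := Q8_facts
  obtain ⟨-, hi8, -, -, -, -, -, -, -, -, -, hiz, htv, ht2, hchiv, hchii, -⟩ := elt_facts
  obtain ⟨hsix, -, hiR, -, hvR, hi1', -⟩ := class_facts
  obtain ⟨hcomm, hBi, hiT, hvT, hz8⟩ := comm_facts
  set C := centralizer ({M.φ i8} : Set G) with hCdef
  have hisq : M.φ i8 ^ 2 = 1 := by rw [pow_two, ← map_mul, hi8, map_one]
  have hine : M.φ i8 ≠ 1 := fun e => hi1' (M.inj (e.trans (map_one M.φ).symm))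
  have hmemC : ∀ a, a * i8 = i8 * a → M.φ a ∈ C := fun a ha => by
    rw [hCdef, mem_centralizer_singleton_iff, ← map_mul, ← map_mul, ha]
  set e := C.subtype with hedef
  have he : Function.Injective e := C.subtype_injective
  have hTe : ∀ a ∈ T8, M.φ a ∈ e.range := fun a ha => ⟨⟨_, hmemC a (hT a ha).2.1⟩, rfl⟩
  let TC : Subgroup C := pullList e M.φ T8 one_mem_lists.2.1 hTm
  let QC : Subgroup C := pullList e M.φ Q8 hQ1 hQm
  have hTC : Nat.card TC = 32 := (card_pullList he M.inj hTe).trans hT32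
  have hQC : Nat.card QC = 16 := (card_pullList he M.inj fun a ha => hTe a (hQT a ha)).trans hQ16
  -- the Sylow subgroup
  have h32 : 32 ∣ Nat.card C := hTC ▸ Subgroup.card_subgroup_dvd_card TC
  have h64 : ¬ 64 ∣ Nat.card C := by
    intro h
    obtain ⟨K, hK⟩ := Sylow.exists_subgroup_card_pow_prime 2 (G := C) (n := 6) (by simpa using h)
    let SG' : Sylow 2 G := ((IsPGroup.of_card (n := 6) (by rw [M.card_SG]; norm_num) : IsPGroup 2 M.SG)).toSylow
      (fun hd => M.not_128 H (by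
        rw [← M.SG.card_mul_index, M.card_SG]
        exact Nat.mul_dvd_mul_left 64 hd))
    have hKp : IsPGroup 2 (K.map e) := (IsPGroup.of_card hK).map _
    obtain ⟨P, hP⟩ := hKp.exists_le_sylow
    obtain ⟨g, hg⟩ := MulAction.exists_smul_eq G P SG'
    have himg : ∀ k ∈ K, g * (k : G) * g⁻¹ ∈ M.SG := fun k hk => by
      have hm : g * (k : G) * g⁻¹ ∈ ((g • P : Sylow 2 G) : Subgroup G) := by
        rw [Sylow.coe_subgroup_smul]; exact ⟨k, hP ⟨k, hk, rfl⟩, rfl⟩
      rw [hg] at hm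
      exact hm
    -- the central involution lies in it
    set iC : C := ⟨M.φ i8, hmemC i8 rfl⟩
    have hiK : iC ∈ K := by
      have hcen : iC ∈ center C := mem_center_iff.2 fun x => Subtype.ext (mem_centralizer_singleton_iff.1 x.2)
      let KS : Sylow 2 C := (IsPGroup.of_card hK).toSylow (fun hd => M.not_128 H ((show 128 ∣ Nat.card C by
        rw [← K.card_mul_index, hK]; exact Nat.mul_dvd_mul_left 64 hd).trans (Subgroup.card_subgroup_dvd_card C)))
      haveI := zpowers_central_normal (i := iC) fun x => mem_center_iff.1 hcen x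
      have hp : IsPGroup 2 (zpowers iC) := IsPGroup.of_card (n := 1) (by
        rw [Nat.card_zpowers, pow_one]
        exact orderOf_eq_prime (Subtype.ext hisq) fun h => hine (congrArg Subtype.val h))
      have hsup := KS.3 (hp.to_sup_of_normal_left KS.2) le_sup_right
      have := (hsup ▸ le_sup_left : zpowers iC ≤ (KS : Subgroup C)) (mem_zpowers iC)
      exact this
    have heq : (K.map e).map (MulAut.conj g).toMonoidHom = M.SG := by
      refine eq_of_le_of_card_ge ?_ ?_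
      · rintro _ ⟨_, ⟨k, hk, rfl⟩, rfl⟩
        exact himg k hk
      · rw [card_map_of_injective (MulAut.conj g).injective, card_map_of_injective he, hK, M.card_SG]
        norm_num
    obtain ⟨x, hx, hxe⟩ := himg iC hiK
    have hxc : ∀ y ∈ S8, x * y = y * x := by
      intro y hy
      have hm : M.φ y ∈ (K.map e).map (MulAut.conj g).toMonoidHom := heq ▸ ⟨y, hy, rfl⟩
      obtain ⟨_, ⟨k, hk, rfl⟩, hky⟩ := hm
      refine M.inj ?_
      rw [map_mul, map_mul, hxe, ← hky]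
      show g * M.φ i8 * g⁻¹ * (g * (k : G) * g⁻¹) = g * (k : G) * g⁻¹ * (g * M.φ i8 * g⁻¹)
      rw [conj_mul, conj_mul, ← mem_centralizer_singleton_iff.1 k.2]
    rcases S8_centre x hx hxc with rfl | rfl
    · rw [map_one] at hxe
      exact hine (conj_eq_one_iff.1 hxe.symm)
    · exact M.not_conj_j H (isConj_iff.2 ⟨g, hxe.symm⟩)
  let TS : Sylow 2 C := (IsPGroup.of_card (n := 5) (by rw [hTC]; norm_num) : IsPGroup 2 TC).toSylow
    (fun hd => h64 (by rw [← TC.card_mul_index, hTC]; exact Nat.mul_dvd_mul_left 32 hd))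
  set iC : C := ⟨M.φ i8, hmemC i8 rfl⟩
  set vC : C := ⟨M.φ v8, hmemC v8 hiv.symm⟩
  set tC : C := ⟨M.φ t8, hmemC t8 (hT t8 htT).2.1⟩
  set zC : C := ⟨M.φ z8, hmemC z8 hiz.symm⟩
  have hcenC : ∀ x : C, x * iC = iC * x := fun x => Subtype.ext (mem_centralizer_singleton_iff.1 x.2)
  have hv2 : vC ^ 2 = 1 := Subtype.ext (by
    rw [SubgroupClass.coe_pow]; show M.φ v8 ^ 2 = 1
    rw [pow_two, ← map_mul, (hR v8 hvR v8 hvR).2.2, map_one])
  obtain ⟨C1, hC1n, hC1i, hvC1⟩ := CfsgLib.Fusion.thompson_transfer TS (Q := QC)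
    (fun x hx => by
      obtain ⟨a, ha, hax⟩ := mem_pullList.1 hx
      exact mem_pullList.2 ⟨a, hQT a ha, hax⟩)
    (relIndex_of_card (fun x hx => by
      obtain ⟨a, ha, hax⟩ := mem_pullList.1 hx
      exact mem_pullList.2 ⟨a, hQT a ha, hax⟩) hQC hTC)
    (u := vC) hv2 (fun g hg => by
      obtain ⟨u, hu, hue⟩ := mem_pullList.1 hg
      exact M.v_fusion H (mem_centralizer_singleton_iff.1 g.2) hu hue.symm)
  haveI := hC1n
  have hiC1 : iC ∈ C1 := by
    have h1 : tC * vC * tC⁻¹ = vC * iC := Subtype.ext (by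
      show M.φ t8 * M.φ v8 * (M.φ t8)⁻¹ = M.φ v8 * M.φ i8
      rw [← map_inv, ← map_mul, ← map_mul, htv, map_mul])
    have h2 : tC * vC * tC⁻¹ ∉ C1 := fun h => hvC1 (by
      have := hC1n.conj_mem _ h tC⁻¹
      simpa [mul_assoc] using this)
    rw [h1, mul_mem_iff_of_index_two hC1i] at h2
    by_contra h
    exact h2 (iff_of_false hvC1 h)
  have hz3 : zC ^ 3 = 1 := Subtype.ext (by
    rw [SubgroupClass.coe_pow]; show M.φ z8 ^ 3 = 1
    rw [← map_pow, pow_succ, pow_two, hz8, map_one])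
  have hzC1 : zC ∈ C1 := by
    have h := mul_self_mem_of_index_two hC1i (zC * zC)
    rwa [show zC * zC * (zC * zC) = zC ^ 3 * zC by simp only [pow_succ, pow_zero, one_mul, mul_assoc], hz3,
      one_mul] at h
  -- the four-group on the first points
  have hBC1 : ∀ b ∈ B8, ∃ x : C1, ((x : C) : G) = M.φ b ∧ ∃ b' : C,
      (x : C) = zC * b' * zC⁻¹ * b'⁻¹ := by
    intro b hb
    obtain ⟨b', hb', hbe, hb'T⟩ := hcomm b hb
    set bC : C := ⟨M.φ b', hmemC b' (hT b' hb'T).2.1⟩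
    have hm : zC * bC * zC⁻¹ * bC⁻¹ ∈ C1 := by
      rw [show zC * bC * zC⁻¹ * bC⁻¹ = zC * (bC * zC⁻¹ * bC⁻¹) by group]
      exact mul_mem hzC1 (hC1n.conj_mem _ (inv_mem hzC1) bC)
    refine ⟨⟨_, hm⟩, ?_, bC, rfl⟩
    show M.φ z8 * M.φ b' * (M.φ z8)⁻¹ * (M.φ b')⁻¹ = M.φ b
    rw [← map_inv, ← map_inv, ← map_mul, ← map_mul, ← map_mul, ← hbe]
  set i : C1 := ⟨iC, hiC1⟩
  set z : C1 := ⟨zC, hzC1⟩
  have hi : i ^ 2 = 1 := Subtype.ext (Subtype.ext hisq)
  have hi1 : i ≠ 1 := fun h => hine (congrArg (fun w : C1 => ((w : C) : G)) h)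
  have hcen : ∀ x : C1, x * i = i * x := fun x => Subtype.ext (hcenC x)
  have hz : z ^ 3 = 1 := Subtype.ext hz3
  have hz1 : z ≠ 1 := fun h => by
    have h' : M.φ z8 = M.φ 1 := (congrArg (fun w : C1 => ((w : C) : G)) h).trans (map_one M.φ).symm
    exact absurd (M.inj h') (by decide +kernel)
  have hcent : ∀ k : C1, k * z = z * k → ∃ n : ℕ, k = z ^ n ∨ k = i * z ^ n := by
    intro k hk
    have hk' : ((k : C) : G) * F.f eZ = F.f eZ * ((k : C) : G) := by
      rw [← M.vals.1]; exact congrArg (fun w : C1 => ((w : C) : G)) hk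
    obtain ⟨q, hq, hqz⟩ := F.side_f.exists_coord hk'
    obtain ⟨a, n, ha, rfl⟩ := cent_ZI q hqz (F.f_inj (by
      rw [map_mul, map_mul, hq, ← M.vals.2.2.1]; exact mem_centralizer_singleton_iff.1 (k : C).2))
    have hke : ∀ y : C, (y : G) = F.f a → (k : C) = y * zC ^ (n : ℕ) := fun y hy => Subtype.ext (by
      rw [Subgroup.coe_mul, SubgroupClass.coe_pow, hy, ← hq, map_mul, map_pow, ← M.vals.1])
    have hmem : ∀ y : C, (y : G) = F.f a → y ∈ C1 := fun y hy => by
      have := mul_mem k.2 (inv_mem (pow_mem hzC1 (n : ℕ)))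
      rwa [hke y hy, mul_inv_cancel_right] at this
    refine ⟨n, ?_⟩
    rcases V_elems a ha with rfl | rfl | rfl | rfl
    · exact Or.inl (Subtype.ext (by rw [hke 1 (map_one F.f).symm, one_mul]; rfl))
    · exact Or.inr (Subtype.ext (by rw [hke iC M.vals.2.2.1]; rfl))
    · exact absurd (hmem vC M.vals.2.2.2.1) hvC1
    · refine absurd ?_ hvC1
      have := mul_mem (hmem (vC * iC) (by
        rw [map_mul, ← M.vals.2.2.2.1, ← M.vals.2.2.1]; rfl)) (inv_mem hiC1)
      rwa [mul_inv_cancel_right] at this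
  haveI hIn : (zpowers i).Normal := zpowers_central_normal hcen
  obtain ⟨hX3, hXC⟩ := self_cent_quotient hi hi1 hcen hz hz1 hcent
  have hIc : Nat.card (zpowers i) = 2 := by rw [Nat.card_zpowers, orderOf_eq_prime hi hi1]
  have hC : Nat.card C = 4 * Nat.card (C1 ⧸ zpowers i) := by
    rw [← C1.card_mul_index, hC1i, card_eq_card_quotient_mul_card_subgroup (zpowers i), hIc]
    ring
  have h8 : 2 ^ 3 ∣ Nat.card (C1 ⧸ zpowers i) := by
    refine Nat.dvd_of_mul_dvd_mul_left (show 0 < 4 by norm_num) ?_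
    rw [← hC]; exact h32
  have h16 : ¬ 2 ^ 4 ∣ Nat.card (C1 ⧸ zpowers i) := fun h => h64 (by
    rw [hC]; exact Nat.mul_dvd_mul_left 4 h)
  have hrange : Nat.card C ≤ 96 → C ≤ M.φ.range := by
    intro hle
    refine M.le_range_of_card C 96 hle ?_
    have h1 : 32 ∣ Nat.card (C ⊓ M.φ.range : Subgroup G) := by
      rw [← hTC, ← card_map_of_injective he]
      refine card_dvd_of_le ?_
      rintro _ ⟨x, hx, rfl⟩
      obtain ⟨a, -, ha⟩ := mem_pullList.1 hx
      exact ⟨x.2, a, ha⟩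
    have h2 : 3 ∣ Nat.card (C ⊓ M.φ.range : Subgroup G) := by
      haveI : Fact (Nat.Prime 3) := ⟨Nat.prime_three⟩
      have := Subgroup.orderOf_dvd_natCard (C ⊓ M.φ.range) (x := M.φ z8) ⟨hmemC z8 hiz.symm, z8, rfl⟩
      rwa [orderOf_eq_prime (congrArg Subtype.val hz3) fun h => hz1 (Subtype.ext (Subtype.ext h))] at this
    exact Nat.Coprime.mul_dvd_of_dvd_of_dvd (by norm_num) h1 h2
  rcases CfsgLib.Char.SelfCentThree.classify _ hX3 hXC with
    ⟨N, hN, hnil, hNc, hq⟩ | ⟨N, hN, -, hN2, ⟨eA⟩⟩ | ⟨⟨eP⟩⟩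
  rotate_left
  · exfalso
    haveI := hN
    have hNp : IsPGroup 2 N := fun x => ⟨1, Subtype.ext (by
      rw [SubgroupClass.coe_pow, pow_one]; exact hN2 x x.2)⟩
    obtain ⟨k, hk⟩ := IsPGroup.iff_card.1 hNp
    have hc : Nat.card (C1 ⧸ zpowers i) = 2 ^ (k + 2) * 15 := by
      rw [card_eq_card_quotient_mul_card_subgroup N, Nat.card_congr eA.toEquiv, nat_card_alternatingGroup,
        Nat.card_fin, hk, pow_add]
      norm_num [Nat.factorial]
      ring
    have hcop : ∀ n, Nat.Coprime (2 ^ n) 15 := fun n => Nat.Coprime.pow_left n (by norm_num)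
    rw [hc] at h8 h16
    have h5 : 3 ≤ k + 2 := Nat.pow_dvd_pow_iff_le_right (by norm_num) |>.1 ((hcop 3).dvd_of_dvd_mul_right h8)
    have h6 : k + 2 < 4 := by
      by_contra h
      exact h16 (dvd_mul_of_dvd_left (pow_dvd_pow 2 (by omega)) _)
    have h1 := card_mod_three hX3 hXC N (by rw [hk, show k = 1 by omega]; norm_num)
    rw [hk, show k = 1 by omega] at h1
    norm_num at h1
  · -- no simple section
    exfalso
    haveI : Fact (Nat.Prime 7) := ⟨by norm_num⟩
    have hsimp : IsSimpleGroup (C1 ⧸ zpowers i) :=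
      eP.isSimpleGroup_congr.2 (CfsgLib.Perm.Dickson.psl_simple_noncomm (F := ZMod 7) (by rw [Nat.card_zmod]; norm_num)).1
    have hX168 : Nat.card (C1 ⧸ zpowers i) = 168 := by
      rw [Nat.card_congr eP.toEquiv]
      have := CfsgLib.Classical.card_psl2 (F := ZMod 7)
      rw [ZMod.card, show Nat.gcd 2 (7 - 1) = 2 by decide] at this
      omega
    have hC1c : Nat.card C1 = 336 := by
      rw [card_eq_card_quotient_mul_card_subgroup (zpowers i), hIc, hX168]
    have hno := no_index_two hsimp (by rw [hX168]; norm_num)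
    set e1 := e.comp C1.subtype with he1def
    have he1 : Function.Injective e1 := he.comp C1.subtype_injective
    have hBe : ∀ b ∈ B8, M.φ b ∈ e1.range := fun b hb => by
      obtain ⟨x, hx, -⟩ := hBC1 b hb
      exact ⟨x, hx⟩
    have hQe : ∀ a ∈ Q1, M.φ a ∈ e1.range := by
      intro a ha
      rcases List.mem_append.1 ha with ha | ha
      · exact hBe a ha
      · obtain ⟨b, hb, rfl⟩ := List.mem_map.1 ha
        rw [map_mul]
        exact mul_mem ⟨i, rfl⟩ (hBe b hb)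
    obtain ⟨q1, qm, qc, qR, qi⟩ := Q1_facts
    let U : Subgroup C1 := pullList e1 M.φ Q1 q1 qm
    have hUc : Nat.card U = 8 := (card_pullList he1 M.inj hQe).trans qc
    have hUsix : ∀ a ∈ Q1, a ≠ 1 → IsConj (M.φ i8) (M.φ a) → a * i8 ≠ 1 →
        IsConj (M.φ i8) (M.φ (a * i8)) → False := fun a ha h1 h2 h3 h4 =>
      (qR a ha).2.2 ⟨(M.six_iff H (qR a ha).1 h1).2 h2, (M.six_iff H (hR _ (qR a ha).1 _ hiR).1 h3).2 h4⟩
    have hsyl : ∀ (l : List A8) (h1 : (1 : A8) ∈ l) (hm : ∀ a ∈ l, ∀ b ∈ l, a * b ∈ l),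
        (∀ a ∈ l, M.φ a ∈ e1.range) → l.toFinset.card = 16 →
        ∃ S : Sylow 2 C1, (S : Subgroup C1) = pullList e1 M.φ l h1 hm ∧
          Nat.card (pullList e1 M.φ l h1 hm) = 16 := by
      intro l h1 hm hl hlc
      have hc : Nat.card (pullList e1 M.φ l h1 hm) = 16 := (card_pullList he1 M.inj hl).trans hlc
      have hp : IsPGroup 2 (pullList e1 M.φ l h1 hm) := IsPGroup.of_card (n := 4) (by rw [hc]; norm_num)
      refine ⟨hp.toSylow (fun hd => ?_), rfl, hc⟩
      have := (pullList e1 M.φ l h1 hm).card_mul_index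
      rw [hc, hC1c] at this
      omega
    by_cases htC1 : tC ∈ C1
    · obtain ⟨a1, am, ac, aQ, aS, htS, htiS, ht1, hti1, hti2, hts, htis, hit, htA, htiA⟩ := At_facts
      set t : C1 := ⟨tC, htC1⟩
      have hAe : ∀ a ∈ At, M.φ a ∈ e1.range := fun a ha => by
        rcases aS a ha with h | ⟨q, hq, rfl⟩
        · exact hQe a h
        · rw [map_mul]; exact mul_mem ⟨t, rfl⟩ (hQe q hq)
      obtain ⟨S, hS, hSc⟩ := hsyl At a1 am hAe ac
      have hUS : U ≤ (S : Subgroup C1) := fun x hx => by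
        obtain ⟨a, ha, hax⟩ := mem_pullList.1 hx
        rw [hS]; exact mem_pullList.2 ⟨a, aQ a ha, hax⟩
      have hUi : U.relIndex (S : Subgroup C1) = 2 := relIndex_of_card hUS hUc (by rw [hS, hSc])
      have htc : IsConj (M.φ i8) (M.φ t8) := (M.six_iff_S H htS ht2 ht1).1 hts
      have htic : IsConj (M.φ i8) (M.φ (t8 * i8)) := (M.six_iff_S H htiS hti2 hti1).1 htis
      have hnot : ∀ (a : A8) (x : C1), ((x : C) : G) = M.φ a → a ≠ 1 → a * i8 ≠ 1 → IsConj (M.φ i8) (M.φ a) →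
          IsConj (M.φ i8) (M.φ (a * i8)) → ∀ g : C1, g * x * g⁻¹ ∉ U := by
        intro a x hxa h1 h3 h2 h4 g hg
        obtain ⟨b, hb, hbe⟩ := mem_pullList.1 hg
        change M.φ b = ((g : C) : G) * ((x : C) : G) * ((g : C) : G)⁻¹ at hbe
        rw [hxa] at hbe
        have hbi : M.φ (b * i8) = ((g : C) : G) * M.φ (a * i8) * ((g : C) : G)⁻¹ := by
          rw [map_mul, map_mul, hbe]
          have hgi := mem_centralizer_singleton_iff.1 (g : C).2
          calc ((g : C) : G) * M.φ a * ((g : C) : G)⁻¹ * M.φ i8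
              = ((g : C) : G) * M.φ a * (((g : C) : G)⁻¹ * M.φ i8 * ((g : C) : G)) * ((g : C) : G)⁻¹ := by group
            _ = _ := by rw [mul_assoc ((g : C) : G)⁻¹, ← hgi, inv_mul_cancel_left]; group
        refine hUsix b hb (fun h => h1 (M.inj ?_)) (h2.trans (isConj_iff.2 ⟨_, hbe.symm⟩))
          (fun h => h3 (M.inj ?_)) (h4.trans (isConj_iff.2 ⟨_, hbi.symm⟩))
        · rw [h, map_one] at hbe
          rw [map_one]; exact conj_eq_one_iff.1 hbe.symm
        · rw [h, map_one] at hbi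
          rw [map_one]; exact conj_eq_one_iff.1 hbi.symm
      have ht' : t ^ 2 = 1 := Subtype.ext (Subtype.ext (by
        show M.φ t8 ^ 2 = 1
        rw [pow_two, ← map_mul, ht2, map_one]))
      have hti' : (t * i) ^ 2 = 1 := by
        rw [(show Commute t i from hcen t).mul_pow, ht', hi, one_mul]
      obtain ⟨K2, -, hK2, htK2⟩ := CfsgLib.Fusion.thompson_transfer S hUS hUi (u := t) ht'
        (hnot t8 t rfl ht1 hti1 htc htic)
      obtain ⟨K3, -, hK3, htiK3⟩ := CfsgLib.Fusion.thompson_transfer S hUS hUi (u := t * i) hti'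
        (hnot (t8 * i8) (t * i) (by rw [map_mul]; rfl) hti1 (by rw [mul_assoc, hi8, mul_one]; exact ht1) htic
          (by rw [mul_assoc, hi8, mul_one]; exact htc))
      by_cases hi2 : i ∈ K2
      · exact hno K2 hK2 hi2
      by_cases hi3 : i ∈ K3
      · exact hno K3 hK3 hi3
      have ht3 : t ∈ K3 := by
        by_contra h
        exact htiK3 ((mul_mem_iff_of_index_two hK3).2 (iff_of_false h hi3))
      let K4 : Subgroup C1 :=
        { carrier := {x | x ∈ K2 ↔ x ∈ K3}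
          one_mem' := iff_of_true (one_mem _) (one_mem _)
          mul_mem' := fun {a b} (ha : a ∈ K2 ↔ a ∈ K3) (hb : b ∈ K2 ↔ b ∈ K3) => by
            show a * b ∈ K2 ↔ a * b ∈ K3
            rw [mul_mem_iff_of_index_two hK2, mul_mem_iff_of_index_two hK3, ha, hb]
          inv_mem' := fun {a} (ha : a ∈ K2 ↔ a ∈ K3) => by
            show a⁻¹ ∈ K2 ↔ a⁻¹ ∈ K3
            rw [inv_mem_iff, inv_mem_iff, ha] }
      refine hno K4 (index_eq_two_iff.2 ⟨t, fun b => ?_⟩) (iff_of_false hi2 hi3)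
      show Xor ((b * t ∈ K2 ↔ b * t ∈ K3)) ((b ∈ K2 ↔ b ∈ K3))
      rw [mul_mem_iff_of_index_two hK2, mul_mem_iff_of_index_two hK3, iff_false_right htK2, iff_true_right ht3]
      by_cases hb2 : b ∈ K2 <;> by_cases hb3 : b ∈ K3 <;> simp [Xor, hb2, hb3]
    · obtain ⟨a1, am, ac, aQ, aS, asq, huu⟩ := Au_facts
      have hxC1 : vC * tC ∈ C1 := (mul_mem_iff_of_index_two hC1i).2 (iff_of_false hvC1 htC1)
      set x : C1 := ⟨vC * tC, hxC1⟩
      have hxv : ((x : C) : G) = M.φ (v8 * t8) := by rw [map_mul]; rfl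
      have hAe : ∀ a ∈ Au, M.φ a ∈ e1.range := fun a ha => by
        rcases aS a ha with h | ⟨q, hq, rfl⟩
        · exact hQe a h
        · rw [map_mul M.φ (v8 * t8)]; exact mul_mem ⟨x, hxv⟩ (hQe q hq)
      obtain ⟨S, hS, hSc⟩ := hsyl Au a1 am hAe ac
      have hUS : U ≤ (S : Subgroup C1) := fun x hx => by
        obtain ⟨a, ha, hax⟩ := mem_pullList.1 hx
        rw [hS]; exact mem_pullList.2 ⟨a, aQ a ha, hax⟩
      have hxx : x ^ 2 = i := Subtype.ext (Subtype.ext (by
        show (M.φ v8 * M.φ t8) ^ 2 = M.φ i8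
        rw [← map_mul, ← map_pow, pow_two, huu]))
      have hxo : orderOf x = 2 ^ 2 := orderOf_eq_prime_pow (by rw [pow_one, hxx]; exact hi1)
        (by rw [show (2 : ℕ) ^ (1 + 1) = 2 * 2 by norm_num, pow_mul, hxx, hi])
      have hord : ∀ y ∈ (S : Subgroup C1), y ∉ U → 2 ^ (2 - 1) < orderOf y := by
        intro y hy hyU
        rw [hS] at hy
        obtain ⟨a, ha, hay⟩ := mem_pullList.1 hy
        have hna : a ∉ Q1 := fun h => hyU (mem_pullList.2 ⟨a, h, hay⟩)
        by_contra hle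
        push Not at hle
        refine asq a ha hna (M.inj ?_)
        have hy2 : y ^ 2 = 1 := by
          have hp := orderOf_pos y
          have h12 : orderOf y = 1 ∨ orderOf y = 2 := by norm_num at hle; omega
          rcases h12 with h | h
          · rw [orderOf_eq_one_iff.1 h, one_pow]
          · rw [← h, pow_orderOf_eq_one]
        rw [map_mul, map_one, hay, ← map_mul, ← pow_two, hy2, map_one]
      have hnox : ∀ g : C1, g * x * g⁻¹ ∉ U := by
        intro g hg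
        obtain ⟨b, hb, hbe⟩ := mem_pullList.1 hg
        have h2 : (g * x * g⁻¹) ^ 2 = 1 := he1 (by
          rw [map_pow, ← hbe, pow_two, ← map_mul, (qR b hb).2.1, map_one, map_one])
        rw [conj_pow, hxx, conj_eq_one_iff] at h2
        exact hi1 h2
      obtain ⟨K, hK, -⟩ := CfsgLib.Invol.exists_index_two_notMem S U hUS
        (relIndex_of_card hUS hUc (by rw [hS, hSc])) (n := 2) hord x hxo hnox
      exact hno K hK (by rw [← hxx, pow_two]; exact mul_self_mem_of_index_two hK x)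
  -- the soluble case
  haveI := hN
  obtain ⟨P2, hP2n, hP2N, hP2c⟩ := exists_normal_two_part N hnil
  set a := (Nat.card N).factorization 2 with ha
  have hXN : Nat.card (C1 ⧸ zpowers i) = Nat.card ((C1 ⧸ zpowers i) ⧸ N) * Nat.card N :=
    card_eq_card_quotient_mul_card_subgroup N
  have hNfac : ∀ m, 2 ^ m ∣ Nat.card N → m ≤ a := fun m h =>
    (Nat.prime_two.pow_dvd_iff_le_factorization Nat.card_pos.ne').1 h
  have hP3 : ¬ 3 ∣ Nat.card P2 := by
    rw [hP2c]
    intro h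
    have := Nat.Prime.dvd_of_dvd_pow Nat.prime_three h
    omega
  haveI := hP2n
  have hmod := card_mod_three hX3 hXC P2 hP3
  rw [hP2c] at hmod
  have h3q : Nat.card ((C1 ⧸ zpowers i) ⧸ N) ≠ 3 := by
    intro h
    rw [hXN, h] at h8 h16
    have h5 := hNfac 3 ((Nat.Coprime.pow_left 3 (by norm_num : Nat.Coprime 2 3)).dvd_of_dvd_mul_left h8)
    have h6 : a < 4 := by
      by_contra hh
      exact h16 (dvd_mul_of_dvd_right ((pow_dvd_pow 2 (by omega : 4 ≤ a)).trans (Nat.ordProj_dvd _ _)) _)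
    rw [show a = 3 by omega] at hmod
    norm_num at hmod
  obtain ⟨eQ⟩ := hq.resolve_left h3q
  have hq6 : Nat.card ((C1 ⧸ zpowers i) ⧸ N) = 6 := by
    rw [Nat.card_congr eQ.toEquiv, Nat.card_eq_fintype_card, Fintype.card_perm]; rfl
  rw [hXN, hq6] at h8 h16
  have ha2 : a = 2 := by
    have h4 : 2 ^ 2 ∣ Nat.card N := by
      refine (Nat.Coprime.pow_left 2 (by norm_num : Nat.Coprime 2 3)).dvd_of_dvd_mul_left ?_
      refine Nat.dvd_of_mul_dvd_mul_left two_pos ?_
      rw [show 2 * (3 * Nat.card N) = 6 * Nat.card N by ring]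
      exact h8
    have h6 : a < 3 := by
      by_contra hh
      refine h16 ?_
      rw [show (2 : ℕ) ^ 4 = 2 * 2 ^ 3 by norm_num, show 6 * Nat.card N = 2 * (3 * Nat.card N) by ring]
      exact Nat.mul_dvd_mul_left 2
        (dvd_mul_of_dvd_right ((pow_dvd_pow 2 (by omega : 3 ≤ a)).trans (Nat.ordProj_dvd _ _)) _)
    have := hNfac 2 h4
    omega
  suffices hN4 : Nat.card N = 2 ^ 2 by
    refine hrange ?_
    rw [hC, hXN, hq6, hN4]
    norm_num
  suffices hNa : Nat.card N = 2 ^ a by rw [hNa, ha2]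
  refine Nat.dvd_antisymm ((Nat.dvd_iff_prime_pow_dvd_dvd _ _).2 fun p k hp hd => ?_) (Nat.ordProj_dvd _ _)
  rcases eq_or_ne p 2 with rfl | hp2
  · exact pow_dvd_pow 2 (hNfac k hd)
  rcases Nat.eq_zero_or_pos k with rfl | hk
  · rw [pow_zero]; exact one_dvd _
  exfalso
  have hpN : p ∣ Nat.card N := (dvd_pow_self p hk.ne').trans hd
  have hp3 : p ≠ 3 := fun h => by
    rw [h] at hpN
    rw [Nat.coprime_comm, Nat.prime_three.coprime_iff_not_dvd] at hNc
    exact hNc hpN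
  haveI : Fact p.Prime := ⟨hp⟩
  set K := N.comap (QuotientGroup.mk' (zpowers i)) with hK
  haveI hKn : K.Normal := inferInstance
  haveI hKnil : Group.IsNilpotent K := by
    haveI : Group.IsNilpotent N := hnil
    refine Subgroup.isNilpotent_of_ker_le_center
      (((QuotientGroup.mk' (zpowers i)).comp K.subtype).codRestrict N (fun x => x.2)) ?_
    intro x hx
    refine mem_center_iff.2 fun w => Subtype.ext ?_
    have hx' : (x : C1) ∈ zpowers i := (QuotientGroup.eq_one_iff _).1 (congrArg Subtype.val hx)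
    rcases mem_zpowers_invol hi hx' with h | h
    · rw [Subgroup.coe_mul, Subgroup.coe_mul, h, mul_one, one_mul]
    · rw [Subgroup.coe_mul, Subgroup.coe_mul, h]; exact hcen w
  set π : C1 →* Equiv.Perm (Fin 3) :=
    (eQ.toMonoidHom.comp (QuotientGroup.mk' N)).comp (QuotientGroup.mk' (zpowers i)) with hπ
  have hπker : ∀ {x : C1}, π x = 1 → x ∈ K := fun {x} h => by
    rw [hπ, MonoidHom.comp_apply, MonoidHom.comp_apply] at h
    exact (QuotientGroup.eq_one_iff (N := N) _).1 (eQ.map_eq_one_iff.1 h)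
  have hpK : p ∣ Nat.card K := by
    refine hpN.trans ?_
    rw [← Subgroup.map_comap_eq_self_of_surjective (QuotientGroup.mk'_surjective (zpowers i)) N]
    exact Subgroup.card_map_dvd _ _
  let Sp : Sylow p K := default
  obtain ⟨x, hxS, hx1⟩ : ∃ x ∈ (Sp : Subgroup K), x ≠ 1 := by
    by_contra hc
    push Not at hc
    have h1 := Sp.dvd_card_of_dvd_card hpK
    rw [show (Sp : Subgroup K) = ⊥ from eq_bot_iff.2 fun x hx => mem_bot.2 (hc x hx), Subgroup.card_bot] at h1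
    exact hp.ne_one (Nat.dvd_one.1 h1)
  have hBx : ∀ b ∈ B8, M.φ b * (((x : C1) : C) : G) = (((x : C1) : C) : G) * M.φ b := by
    intro b hb
    -- commutators with the element of order three go to the kernel
    obtain ⟨x1, hx1', -⟩ := hBC1 b hb
    have hb2 : x1 * x1 = 1 := he.comp C1.subtype_injective (by
      show ((x1 : C) : G) * ((x1 : C) : G) = 1
      rw [hx1', ← map_mul, (hBi b hb).1, map_one])
    obtain ⟨b', hb', hbe, hb'T⟩ := hcomm b hb
    obtain ⟨x2, hx2, -⟩ := hBC1 b' hb'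
    have hx12 : x1 = z * x2 * z⁻¹ * x2⁻¹ := he.comp C1.subtype_injective (by
      show ((x1 : C) : G) = M.φ z8 * ((x2 : C) : G) * (M.φ z8)⁻¹ * ((x2 : C) : G)⁻¹
      rw [hx1', hx2, ← map_inv, ← map_inv, ← map_mul, ← map_mul, ← map_mul, ← hbe])
    have hbK : x1 ∈ K := hπker (by
      rw [hx12, map_mul, map_mul, map_mul, map_inv, map_inv]
      refine sym_three_comm _ _ ?_
      rw [← map_inv, ← map_inv, ← map_mul, ← map_mul, ← map_mul, ← map_mul, ← hx12, hb2, map_one])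
    -- and two-elements centralize the odd part
    let S2 : Sylow 2 K := default
    haveI := Sylow.unique_of_normal S2 (S2.normal_of_normalizerCondition Group.normalizerCondition_of_isNilpotent)
    have hb2' : (⟨x1, hbK⟩ : K) ^ 2 = 1 := Subtype.ext (by rw [SubgroupClass.coe_pow, pow_two]; exact hb2)
    obtain ⟨R, hR'⟩ := (show IsPGroup 2 (zpowers (⟨x1, hbK⟩ : K)) from fun w => by
      obtain ⟨n, hn⟩ := mem_zpowers_iff.1 w.2
      refine ⟨1, Subtype.ext ?_⟩
      rw [pow_one, SubgroupClass.coe_pow, ← hn, ← zpow_natCast, ← zpow_mul, mul_comm, zpow_mul, zpow_natCast,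
        hb2', one_zpow, Subgroup.coe_one]).exists_le_sylow
    have hbS2 : (⟨x1, hbK⟩ : K) ∈ (S2 : Subgroup K) := (Subsingleton.elim R S2) ▸ hR' (mem_zpowers _)
    have hc := commute_of_normal_of_disjoint (S2 : Subgroup K) (Sp : Subgroup K)
      (S2.normal_of_normalizerCondition Group.normalizerCondition_of_isNilpotent)
      (Sp.normal_of_normalizerCondition Group.normalizerCondition_of_isNilpotent)
      (IsPGroup.disjoint_of_ne 2 p hp2.symm _ _ S2.2 Sp.2) _ _ hbS2 hxS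
    have := congrArg (fun w : K => (((w : C1) : C) : G)) hc.eq
    simp only [Subgroup.coe_mul] at this
    rwa [hx1'] at this
  obtain ⟨p0, -, hp0⟩ := V8_onto
  set y := M.φ p0 * (((x : C1) : C) : G) * (M.φ p0)⁻¹ with hy
  have hyC : y ∈ F.CV := M.cent_V8 fun v hv => by
    obtain ⟨b, hb, hbv⟩ := hp0 v hv
    rw [← hbv, map_mul, map_mul, map_inv, hy, conj_mul, conj_mul, hBx b hb]
  have h6 : (((x : C1) : C) : G) ^ 6 = 1 := by
    have := (M.CV_facts hyC).1
    rwa [hy, conj_pow, conj_eq_one_iff] at this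
  obtain ⟨n, hn⟩ := Sp.2 ⟨x, hxS⟩
  have hxn : (((x : C1) : C) : G) ^ p ^ n = 1 :=
    congrArg (fun w : (Sp : Subgroup K) => ((((w : K) : C1) : C) : G)) hn
  have hd1 : orderOf (((x : C1) : C) : G) ∣ Nat.gcd (p ^ n) 6 :=
    Nat.dvd_gcd (orderOf_dvd_of_pow_eq_one hxn) (orderOf_dvd_of_pow_eq_one h6)
  have hcop6 : Nat.Coprime p (2 * 3) := Nat.Coprime.mul_right
    ((Nat.coprime_primes hp Nat.prime_two).2 hp2) ((Nat.coprime_primes hp Nat.prime_three).2 hp3)
  rw [Nat.Coprime.pow_left n (show Nat.Coprime p 6 from hcop6)] at hd1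
  exact hx1 (Subtype.ext (Subtype.ext (Subtype.ext (orderOf_eq_one_iff.1 (Nat.dvd_one.1 hd1)))))

end Emb

end CfsgLib.Spor.AltEightLocal
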