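import Cfsg.Agent.Lib.Spor.AltEightLocal.Fusion
import Cfsg.Agent.Lib.Spor.AltEightLocal.Quot

/-!
# The centralizer of the involution moving all points
-/

set_option autoImplicit false
set_option linter.style.haveILetI false
set_option linter.unusedSectionVars false
set_option synthInstance.maxSize 4000
set_option synthInstance.maxHeartbeats 80000

namespace CfsgLib.Spor.AltEightLocal

open Subgroup

attribute [local instance 5000] List.decidableBAll List.decidableBEx

theorem sym_three_facts : ∀ a b : Equiv.Perm (Fin 3), a ≠ 1 → a * a = 1 → b ≠ 1 → b * b * b = 1 →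
    a * b * a⁻¹ * b = 1 := by decide +kernel

theorem j8_central_S : ∀ s ∈ S8, s * j8 = j8 * s := by decide +kernel

variable {G : Type*} [Group G] [Finite G]

theorem pow_prime_facts {x : G} {p : ℕ} (hp : p.Prime) (hx : ∃ n : ℕ, x ^ p ^ n = 1) {m : ℕ} (hm : x ^ m = 1)
    (hpm : ¬ p ∣ m) : x = 1 := by
  obtain ⟨n, hn⟩ := hx
  refine orderOf_eq_one_iff.1 (Nat.dvd_one.1 ?_)
  have h : orderOf x ∣ Nat.gcd (p ^ n) m := Nat.dvd_gcd (orderOf_dvd_of_pow_eq_one hn) (orderOf_dvd_of_pow_eq_one hm)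
  rwa [Nat.Coprime.pow_left n ((hp.coprime_iff_not_dvd).2 hpm)] at h

namespace Emb

variable {F : Frame G} (M : Emb F)
include M

/-- the centralizer of the mixed element in the second class -/
theorem cent_y (H : Hyp F) : Nat.card (centralizer ({M.φ y8} : Set G)) = 18 := by
  obtain ⟨-, -, -, -, -, -, -, -, -, -, -, h1, h2, hq⟩ := small_facts
  have e : M.φ y8 = (M.φ p8)⁻¹ * F.f (eZ * eW) * M.φ p8 := by
    rw [map_mul F.f, ← M.vals.1, ← M.vals.2.1, y8, map_mul, map_mul, map_inv, map_mul]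
  rw [← (H.mixed _ hq h1 h2).1]
  refine Nat.card_congr ((MulAut.conj (M.φ p8)).toEquiv.subtypeEquiv fun x => ?_)
  rw [mem_centralizer_singleton_iff, mem_centralizer_singleton_iff, e]
  show _ ↔ M.φ p8 * x * (M.φ p8)⁻¹ * F.f (eZ * eW) = F.f (eZ * eW) * (M.φ p8 * x * (M.φ p8)⁻¹)
  constructor
  · intro h
    calc M.φ p8 * x * (M.φ p8)⁻¹ * F.f (eZ * eW)
        = M.φ p8 * (x * ((M.φ p8)⁻¹ * F.f (eZ * eW) * M.φ p8)) * (M.φ p8)⁻¹ := by group
      _ = M.φ p8 * (((M.φ p8)⁻¹ * F.f (eZ * eW) * M.φ p8) * x) * (M.φ p8)⁻¹ := by rw [h]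
      _ = _ := by group
  · intro h
    calc x * ((M.φ p8)⁻¹ * F.f (eZ * eW) * M.φ p8)
        = (M.φ p8)⁻¹ * (M.φ p8 * x * (M.φ p8)⁻¹ * F.f (eZ * eW)) * M.φ p8 := by group
      _ = (M.φ p8)⁻¹ * (F.f (eZ * eW) * (M.φ p8 * x * (M.φ p8)⁻¹)) * M.φ p8 := by rw [h]
      _ = _ := by group

theorem cent_j (H : Hyp F) : centralizer ({M.φ j8} : Set G) ≤ M.φ.range := by
  classical
  haveI : Fact (Nat.Prime 2) := ⟨Nat.prime_two⟩
  obtain ⟨-, -, hj2, -, -, -, -, -, hyj, hy3, hy1, -⟩ := elt_facts
  obtain ⟨-, -, -, -, -, -, hj1, -⟩ := class_facts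
  set C := centralizer ({M.φ j8} : Set G) with hCdef
  have hjsq : M.φ j8 ^ 2 = 1 := by rw [pow_two, ← map_mul, hj2, map_one]
  have hjne : M.φ j8 ≠ 1 := fun e => hj1 (M.inj (e.trans (map_one M.φ).symm))
  have hSC : M.SG ≤ C := by
    rintro _ ⟨s, hs, rfl⟩
    rw [hCdef, mem_centralizer_singleton_iff, ← map_mul, ← map_mul, j8_central_S s hs]
  have hyC : M.φ y8 ∈ C := by rw [hCdef, mem_centralizer_singleton_iff, ← map_mul, ← map_mul, hyj]
  have hjC : M.φ j8 ∈ C := by rw [hCdef, mem_centralizer_singleton_iff]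
  set i : C := ⟨M.φ j8, hjC⟩
  set y : C := ⟨M.φ y8, hyC⟩
  have hi : i ^ 2 = 1 := Subtype.ext hjsq
  have hi1 : i ≠ 1 := fun e => hjne (congrArg Subtype.val e)
  have hcen : ∀ x : C, x * i = i * x := fun x => Subtype.ext (mem_centralizer_singleton_iff.1 x.2)
  have hy : y ^ 3 = 1 := Subtype.ext (by
    rw [SubgroupClass.coe_pow]
    show M.φ y8 ^ 3 = 1
    rw [← map_pow, pow_succ, pow_two, hy3, map_one])
  have hyne : y ≠ 1 := fun e => hy1 (M.inj ((congrArg Subtype.val e).trans (map_one M.φ).symm))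
  have h9 := H.not_nine_dvd_cent hjsq hjne
  have hiy : Commute i y := (hcen y).symm
  have hcent : ∀ k : C, k * y = y * k → ∃ n : ℕ, k = y ^ n ∨ k = i * y ^ n := by
    intro k hk
    set C2 := centralizer ({y} : Set C)
    have hio : orderOf i = 2 := orderOf_eq_prime hi hi1
    haveI : Fact (Nat.Prime 3) := ⟨Nat.prime_three⟩
    have hyo : orderOf y = 3 := orderOf_eq_prime hy hyne
    have h6 : orderOf (i * y) = 6 := by
      rw [hiy.orderOf_mul_eq_mul_orderOf_of_coprime (by rw [hio, hyo]; norm_num), hio, hyo]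
    have hle : zpowers (i * y) ≤ C2 := zpowers_le.2 (mem_centralizer_singleton_iff.2
      (by rw [mul_assoc, ← mul_assoc y i, hiy.symm.eq, mul_assoc]))
    have hd18 : Nat.card C2 ∣ 18 := by
      rw [← M.cent_y H, ← card_map_of_injective C.subtype_injective (K := C2)]
      refine card_dvd_of_le ?_
      rintro _ ⟨x, hx, rfl⟩
      exact mem_centralizer_singleton_iff.2 (congrArg Subtype.val (mem_centralizer_singleton_iff.1 hx))
    have hd9 : ¬ 9 ∣ Nat.card C2 := fun h => h9 (h.trans (Subgroup.card_subgroup_dvd_card C2))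
    have h2 := Subgroup.card_dvd_of_le hle
    rw [Nat.card_zpowers, h6] at h2
    have hc6 : Nat.card C2 ≤ 6 := by
      have hcases := Nat.le_of_dvd (by norm_num) hd18
      by_contra hh
      interval_cases (Nat.card C2) <;> norm_num at *
    have heq : zpowers (i * y) = C2 := eq_of_le_of_card_ge hle (by rw [Nat.card_zpowers, h6]; exact hc6)
    have hk2 : k ∈ zpowers (i * y) := heq ▸ mem_centralizer_singleton_iff.2 hk
    obtain ⟨n, hn⟩ := ((isOfFinOrder_of_finite (i * y)).mem_powers_iff_mem_zpowers).2 hk2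
    change (i * y) ^ n = k at hn
    rw [hiy.mul_pow, ← pow_mod_orderOf i, hio] at hn
    refine ⟨n, ?_⟩
    rcases Nat.mod_two_eq_zero_or_one n with e | e <;> rw [e] at hn
    · exact Or.inl (by rw [← hn, pow_zero, one_mul])
    · exact Or.inr (by rw [← hn, pow_one])
  haveI hIn : (zpowers i).Normal := zpowers_central_normal hcen
  obtain ⟨hX3, hXC⟩ := self_cent_quotient hi hi1 hcen hy hyne hcent
  have hIc : Nat.card (zpowers i) = 2 := by rw [Nat.card_zpowers, orderOf_eq_prime hi hi1]
  have hX : Nat.card C = 2 * Nat.card (C ⧸ zpowers i) := by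
    rw [card_eq_card_quotient_mul_card_subgroup (zpowers i), hIc, mul_comm]
  have h64 : 64 ∣ Nat.card C := by rw [← M.card_SG]; exact card_dvd_of_le hSC
  have h128 : ¬ 128 ∣ Nat.card C := fun h => M.not_128 H (h.trans (Subgroup.card_subgroup_dvd_card C))
  have h32 : 2 ^ 5 ∣ Nat.card (C ⧸ zpowers i) := by
    refine Nat.dvd_of_mul_dvd_mul_left two_pos ?_
    rw [← hX]; exact h64
  have hn64 : ¬ 2 ^ 6 ∣ Nat.card (C ⧸ zpowers i) := fun h => h128 (by
    rw [hX]; exact Nat.mul_dvd_mul_left 2 h)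
  -- the order of a normal two-group
  have hmod : ∀ N : Subgroup (C ⧸ zpowers i), N.Normal → IsPGroup 2 N → ∀ k, Nat.card N = 2 ^ k → 2 ∣ k := by
    intro N hN _ k hk
    haveI := hN
    have h3 : ¬ 3 ∣ Nat.card N := by
      rw [hk]
      intro h
      have := Nat.Prime.dvd_of_dvd_pow Nat.prime_three h
      omega
    have h1 := card_mod_three hX3 hXC N h3
    rw [hk] at h1
    by_contra hodd
    obtain ⟨m, rfl⟩ : Odd k := Nat.odd_iff.2 (by omega)
    rw [pow_succ, pow_mul, Nat.mul_mod, Nat.pow_mod] at h1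
    norm_num at h1
  rcases CfsgLib.Char.SelfCentThree.classify _ hX3 hXC with
    ⟨N, hN, hnil, hNc, hq⟩ | ⟨N, hN, -, hN2, ⟨e⟩⟩ | ⟨⟨e⟩⟩
  rotate_left
  · exfalso
    haveI := hN
    have hNp : IsPGroup 2 N := fun x => ⟨1, Subtype.ext (by
      rw [SubgroupClass.coe_pow, pow_one]; exact hN2 x x.2)⟩
    obtain ⟨k, hk⟩ := IsPGroup.iff_card.1 hNp
    have hc : Nat.card (C ⧸ zpowers i) = 2 ^ (k + 2) * 15 := by
      rw [card_eq_card_quotient_mul_card_subgroup N, Nat.card_congr e.toEquiv, nat_card_alternatingGroup,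
        Nat.card_fin, hk, pow_add]
      norm_num [Nat.factorial]
      ring
    have hcop : ∀ n, Nat.Coprime (2 ^ n) 15 := fun n => Nat.Coprime.pow_left n (by norm_num)
    rw [hc] at h32 hn64
    have h5 : 5 ≤ k + 2 := Nat.pow_dvd_pow_iff_le_right (by norm_num) |>.1 ((hcop 5).dvd_of_dvd_mul_right h32)
    have h6 : k + 2 < 6 := by
      by_contra h
      exact hn64 (dvd_mul_of_dvd_left (pow_dvd_pow 2 (by omega)) _)
    have := hmod N hN hNp k hk
    omega
  · exfalso
    have hc : Nat.card (C ⧸ zpowers i) = 168 := by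
      haveI : Fact (Nat.Prime 7) := ⟨by norm_num⟩
      rw [Nat.card_congr e.toEquiv]
      have := CfsgLib.Classical.card_psl2 (F := ZMod 7)
      rw [ZMod.card, show Nat.gcd 2 (7 - 1) = 2 by decide] at this
      omega
    rw [hc] at h32
    norm_num at h32
  haveI := hN
  obtain ⟨P2, hP2n, hP2N, hP2c⟩ := exists_normal_two_part N hnil
  set a := (Nat.card N).factorization 2 with ha
  have hXN : Nat.card (C ⧸ zpowers i) = Nat.card ((C ⧸ zpowers i) ⧸ N) * Nat.card N :=
    card_eq_card_quotient_mul_card_subgroup N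
  have hP2p : IsPGroup 2 P2 := IsPGroup.of_card hP2c
  have heven := hmod P2 hP2n hP2p a hP2c
  have hNfac : ∀ m, 2 ^ m ∣ Nat.card N → m ≤ a := fun m h =>
    (Nat.prime_two.pow_dvd_iff_le_factorization Nat.card_pos.ne').1 h
  have h3q : Nat.card ((C ⧸ zpowers i) ⧸ N) ≠ 3 := by
    intro h
    rw [hXN, h] at h32 hn64
    have h5 := hNfac 5 ((Nat.Coprime.pow_left 5 (by norm_num : Nat.Coprime 2 3)).dvd_of_dvd_mul_left h32)
    have h6 : a < 6 := by
      by_contra hh
      exact hn64 (dvd_mul_of_dvd_right ((pow_dvd_pow 2 (by omega : 6 ≤ a)).trans (Nat.ordProj_dvd _ _)) _)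
    omega
  obtain ⟨eQ⟩ := hq.resolve_left h3q
  have hq6 : Nat.card ((C ⧸ zpowers i) ⧸ N) = 6 := by
    rw [Nat.card_congr eQ.toEquiv, Nat.card_eq_fintype_card, Fintype.card_perm]; rfl
  rw [hXN, hq6] at h32 hn64
  have ha4 : a = 4 := by
    have h4 : 2 ^ 4 ∣ Nat.card N := by
      refine (Nat.Coprime.pow_left 4 (by norm_num : Nat.Coprime 2 3)).dvd_of_dvd_mul_left ?_
      refine Nat.dvd_of_mul_dvd_mul_left two_pos ?_
      rw [show 2 * (3 * Nat.card N) = 6 * Nat.card N by ring]
      exact h32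
    have h6 : a < 5 := by
      by_contra hh
      refine hn64 ?_
      rw [show (2 : ℕ) ^ 6 = 2 * 2 ^ 5 by norm_num, show 6 * Nat.card N = 2 * (3 * Nat.card N) by ring]
      exact Nat.mul_dvd_mul_left 2 (dvd_mul_of_dvd_right ((pow_dvd_pow 2 (by omega : 5 ≤ a)).trans (Nat.ordProj_dvd _ _)) _)
    have := hNfac 4 h4
    omega
  -- the preimage of `N`
  set K := N.comap (QuotientGroup.mk' (zpowers i)) with hK
  haveI hKn : K.Normal := inferInstance
  have hIK : zpowers i ≤ K := fun x hx => by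
    rw [hK, mem_comap, QuotientGroup.mk'_apply, (QuotientGroup.eq_one_iff x).2 hx]; exact one_mem _
  have hKcard : Nat.card K = 2 * Nat.card N := by
    have h := K.card_mul_index
    rw [hK, index_comap_of_surjective _ (QuotientGroup.mk'_surjective _), hX, ← N.card_mul_index,
      ← mul_assoc] at h
    exact Nat.eq_of_mul_eq_mul_right (Nat.pos_of_ne_zero FiniteIndex.index_ne_zero) h
  haveI hKnil : Group.IsNilpotent K := by
    haveI : Group.IsNilpotent N := hnil
    refine Subgroup.isNilpotent_of_ker_le_center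
      (((QuotientGroup.mk' (zpowers i)).comp K.subtype).codRestrict N (fun x => x.2)) ?_
    intro x hx
    refine mem_center_iff.2 fun w => Subtype.ext ?_
    have hx' : (x : C) ∈ zpowers i := (QuotientGroup.eq_one_iff _).1 (congrArg Subtype.val hx)
    rcases mem_zpowers_invol hi hx' with e | e
    · rw [Subgroup.coe_mul, Subgroup.coe_mul, e, mul_one, one_mul]
    · rw [Subgroup.coe_mul, Subgroup.coe_mul, e]; exact hcen w
  -- no odd part
  have hN16 : Nat.card N = 2 ^ 4 := by
    rw [← ha4]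
    refine Nat.dvd_antisymm ((Nat.dvd_iff_prime_pow_dvd_dvd _ _).2 fun p k hp hd => ?_) (Nat.ordProj_dvd _ _)
    rcases eq_or_ne p 2 with rfl | hp2
    · exact pow_dvd_pow 2 (hNfac k hd)
    rcases Nat.eq_zero_or_pos k with rfl | hk
    · rw [pow_zero]; exact one_dvd _
    exfalso
    have hpN : p ∣ Nat.card N := (dvd_pow_self p hk.ne').trans hd
    have hp3 : p ≠ 3 := fun e => by
      rw [e] at hpN
      rw [Nat.coprime_comm, Nat.prime_three.coprime_iff_not_dvd] at hNc
      exact hNc hpN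
    haveI : Fact p.Prime := ⟨hp⟩
    let S2 : Sylow 2 K := default
    let Sp : Sylow p K := default
    haveI hS2c : (S2 : Subgroup K).Characteristic :=
      S2.characteristic_of_normal (S2.normal_of_normalizerCondition Group.normalizerCondition_of_isNilpotent)
    haveI hSpc : (Sp : Subgroup K).Characteristic :=
      Sp.characteristic_of_normal (Sp.normal_of_normalizerCondition Group.normalizerCondition_of_isNilpotent)
    set Q2 := (S2 : Subgroup K).map K.subtype
    set Qp := (Sp : Subgroup K).map K.subtype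
    haveI : Q2.Normal := inferInstance
    haveI : Qp.Normal := inferInstance
    have hQp : IsPGroup p Qp := Sp.2.map _
    have hQ2 : IsPGroup 2 Q2 := S2.2.map _
    have hQ2c : Nat.card Q2 = 32 := by
      rw [card_map_of_injective K.subtype_injective, S2.card_eq_multiplicity, hKcard,
        Nat.factorization_mul two_ne_zero Nat.card_pos.ne', Finsupp.add_apply,
        Nat.Prime.factorization_self Nat.prime_two, ← ha, ha4]
      norm_num
    let SC : Sylow 2 C := ((IsPGroup.of_card (n := 6) (by rw [M.card_SG]; norm_num) : IsPGroup 2 M.SG).of_equiv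
      (subgroupOfEquivOfLe hSC).symm).toSylow (fun h => by
        refine h128 ?_
        rw [← (M.SG.subgroupOf C).card_mul_index, Nat.card_congr (subgroupOfEquivOfLe hSC).toEquiv, M.card_SG]
        exact Nat.mul_dvd_mul_left 64 h)
    have hSCc : (SC : Subgroup C) = M.SG.subgroupOf C := rfl
    have hQ2S : Q2 ≤ (SC : Subgroup C) := by
      have h := SC.3 (hQ2.to_sup_of_normal_left SC.2) le_sup_right
      exact h ▸ le_sup_left
    obtain ⟨t, htS, htQ⟩ : ∃ t ∈ (SC : Subgroup C), t ∉ Q2 := by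
      by_contra hc
      push Not at hc
      have := card_le_of_le (show (SC : Subgroup C) ≤ Q2 from hc)
      rw [hQ2c, hSCc, Nat.card_congr (subgroupOfEquivOfLe hSC).toEquiv, M.card_SG] at this
      omega
    have hidx2 : (Q2.subgroupOf (SC : Subgroup C)).index = 2 := by
      have hs : Nat.card (SC : Subgroup C) = 64 := by
        rw [hSCc, Nat.card_congr (subgroupOfEquivOfLe hSC).toEquiv, M.card_SG]
      have := (Q2.subgroupOf (SC : Subgroup C)).card_mul_index
      rw [Nat.card_congr (subgroupOfEquivOfLe hQ2S).toEquiv, hQ2c, hs] at this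
      omega
    have htt : t * t ∈ Q2 := mem_subgroupOf.1 (mul_self_mem_of_index_two hidx2 (⟨t, htS⟩ : (SC : Subgroup C)))
    have hdisj : ∀ x ∈ Q2, ∀ w ∈ Qp, Commute x w := fun x hx w hw =>
      commute_of_normal_of_disjoint Q2 Qp inferInstance inferInstance
        (IsPGroup.disjoint_of_ne 2 p hp2.symm _ _ hQ2 hQp) x w hx hw
    have hkill : ∀ x ∈ Qp, (∀ s ∈ (SC : Subgroup C), s * x = x * s) → x = 1 := by
      intro x hx hxs
      obtain ⟨r, hr, hrx⟩ := M.cent_R (x := (x : G)) fun r hr => by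
        have := hxs ⟨M.φ r, hSC ⟨r, R8_closed.2.2.2.2 r hr, rfl⟩⟩ (mem_subgroupOf.2 ⟨r, R8_closed.2.2.2.2 r hr, rfl⟩)
        exact congrArg Subtype.val this
      refine pow_prime_facts hp ?_ (m := 2) (Subtype.ext ?_) (fun h => hp2 ((Nat.prime_dvd_prime_iff_eq hp Nat.prime_two).1 h))
      · obtain ⟨n, hn⟩ := hQp ⟨x, hx⟩
        exact ⟨n, congrArg Subtype.val hn⟩
      · rw [SubgroupClass.coe_pow, ← hrx, pow_two, ← map_mul, (R8_closed.1 r hr r hr).2.2, map_one]; rfl
    have hQpne : ∃ x ∈ Qp, x ≠ 1 := by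
      by_contra hc
      push Not at hc
      have hle : Nat.card (Sp : Subgroup K) ≤ 1 := by
        rw [← card_map_of_injective K.subtype_injective]
        exact le_of_eq (Subgroup.card_eq_one.2 (eq_bot_iff.2 fun x hx => mem_bot.2 (hc x hx)))
      have h1 := Sp.dvd_card_of_dvd_card (hpN.trans (by rw [hKcard]; exact dvd_mul_left _ _))
      have := Nat.le_of_dvd Nat.card_pos h1
      have := hp.two_le
      omega
    by_cases hfix : ∃ x ∈ Qp, x ≠ 1 ∧ t * x = x * t
    · obtain ⟨x, hx, hx1, hxt⟩ := hfix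
      refine hx1 (hkill x hx fun s hs => ?_)
      by_cases hsQ : s ∈ Q2
      · exact hdisj s hsQ x hx
      · have hts : t⁻¹ * s ∈ Q2 := by
          have hmm := (mul_mem_iff_of_index_two hidx2 (a := (⟨t, htS⟩ : (SC : Subgroup C))⁻¹) (b := ⟨s, hs⟩)).2
            (iff_of_false (fun h => htQ (inv_mem_iff.1 (mem_subgroupOf.1 h))) (fun h => hsQ (mem_subgroupOf.1 h)))
          exact mem_subgroupOf.1 hmm
        have h2 : Commute (t * (t⁻¹ * s)) x := Commute.mul_left hxt (hdisj _ hts x hx)
        rwa [mul_inv_cancel_left] at h2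
    push Not at hfix
    -- the involution inverts
    let f : Qp →* Qp := (MulAut.conjNormal t).toMonoidHom
    have hfp : MonoidHom.FixedPointFree f := fun x hx => by
      by_contra hx1
      refine hfix x x.2 (fun e => hx1 (Subtype.ext e)) ?_
      have := congrArg Subtype.val hx
      change t * (x : C) * t⁻¹ = x at this
      exact mul_inv_eq_iff_eq_mul.1 this
    have hinv : Function.Involutive f := fun x => Subtype.ext (by
      show t * (t * (x : C) * t⁻¹) * t⁻¹ = x
      rw [show t * (t * (x : C) * t⁻¹) * t⁻¹ = (t * t) * x * (t * t)⁻¹ by group,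
        (hdisj _ htt x x.2).eq, mul_inv_cancel_right])
    have hneg : ∀ x ∈ Qp, t * x * t⁻¹ = x⁻¹ := fun x hx => by
      have := congrArg Subtype.val (congrFun (hfp.coe_eq_inv_of_involutive hinv) ⟨x, hx⟩)
      exact this
    have hab : ∀ x ∈ Qp, ∀ w ∈ Qp, x * w = w * x := fun x hx w hw => by
      have h := hneg _ (mul_mem hx hw)
      rw [← conj_mul, hneg x hx, hneg w hw, mul_inv_rev] at h
      calc x * w = (w⁻¹ * x⁻¹)⁻¹ := by group
        _ = (x⁻¹ * w⁻¹)⁻¹ := by rw [h]
        _ = w * x := by group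
    -- the element of order three is inverted modulo `K`
    have htN : ((t : C) : C ⧸ zpowers i) ∉ N := by
      intro h
      have htK : t ∈ K := h
      obtain ⟨R, hR⟩ := ((SC.2.to_le (zpowers_le.2 htS)).of_equiv
        (subgroupOfEquivOfLe (zpowers_le.2 htK)).symm : IsPGroup 2 ((zpowers t).subgroupOf K)).exists_le_sylow
      haveI := Sylow.unique_of_normal S2 (S2.normal_of_normalizerCondition Group.normalizerCondition_of_isNilpotent)
      have hRS : R = S2 := Subsingleton.elim _ _
      exact htQ ⟨⟨t, htK⟩, hRS ▸ hR (mem_subgroupOf.2 (mem_zpowers t)), rfl⟩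
    set π : C →* Equiv.Perm (Fin 3) :=
      (eQ.toMonoidHom.comp (QuotientGroup.mk' N)).comp (QuotientGroup.mk' (zpowers i)) with hπ
    have hπker : ∀ {x : C}, π x = 1 ↔ x ∈ K := fun {x} => by
      rw [hπ, MonoidHom.comp_apply, MonoidHom.comp_apply]
      exact eQ.map_eq_one_iff.trans (QuotientGroup.eq_one_iff _)
    have hyK : y ∉ K := fun h => by
      have hyN : ((y : C) : C ⧸ zpowers i) ∈ N := h
      have hd : orderOf (y : C ⧸ zpowers i) ∣ Nat.card N := Subgroup.orderOf_dvd_natCard N hyN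
      rw [Nat.card_zpowers] at hX3
      rw [hX3] at hd
      rw [Nat.coprime_comm, Nat.prime_three.coprime_iff_not_dvd] at hNc
      exact hNc hd
    have hk : t * y * t⁻¹ * y ∈ K := hπker.1 (by
      rw [map_mul, map_mul, map_mul, map_inv]
      refine sym_three_facts _ _ (fun e => htN (hπker.1 e)) ?_ (fun e => hyK (hπker.1 e)) ?_
      · rw [← map_mul]
        refine hπker.2 ?_
        obtain ⟨w, hw, e⟩ := htt
        exact e ▸ w.2
      · rw [← map_mul, ← map_mul, show y * y * y = 1 by rw [← pow_two, ← pow_succ, hy], map_one])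
    -- `K` centralizes the odd part
    have hKc : K ≤ centralizer (Qp : Set C) := by
      suffices h : (centralizer (Qp : Set C)).subgroupOf K = ⊤ from subgroupOf_eq_top.1 h
      refine eq_top_of_card_eq _ (Nat.dvd_antisymm (card_subgroup_dvd_card _) ?_)
      refine (Nat.dvd_iff_prime_pow_dvd_dvd _ _).2 fun q k hq hd => ?_
      haveI : Fact q.Prime := ⟨hq⟩
      let Sq : Sylow q K := default
      have hle : (Sq : Subgroup K) ≤ (centralizer (Qp : Set C)).subgroupOf K := by
        intro w hw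
        refine mem_subgroupOf.2 (mem_centralizer_iff.2 fun x hx => ?_)
        rcases eq_or_ne q p with rfl | hqp
        · haveI := Sylow.unique_of_normal Sp (Sp.normal_of_normalizerCondition Group.normalizerCondition_of_isNilpotent)
          exact hab x hx w ⟨w, (Subsingleton.elim Sq Sp) ▸ hw, rfl⟩
        · haveI hSqc : (Sq : Subgroup K).Characteristic :=
            Sq.characteristic_of_normal (Sq.normal_of_normalizerCondition Group.normalizerCondition_of_isNilpotent)
          exact (commute_of_normal_of_disjoint ((Sq : Subgroup K).map K.subtype) Qp inferInstance inferInstance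
            (IsPGroup.disjoint_of_ne q p hqp _ _ (Sq.2.map _) hQp) w x ⟨w, hw, rfl⟩ hx).eq.symm
      refine dvd_trans ?_ (card_dvd_of_le hle)
      rw [Sq.card_eq_multiplicity]
      exact pow_dvd_pow q ((hq.pow_dvd_iff_le_factorization Nat.card_pos.ne').1 hd)
    obtain ⟨x, hx, hx1⟩ := hQpne
    have h1 := mem_centralizer_iff.1 (hKc hk) x hx
    have hyx : y * y * x = x * (y * y) := by
      have hxy : y * x * y⁻¹ ∈ Qp := (inferInstance : Qp.Normal).conj_mem x hx y
      have hxt : t⁻¹ * x * t = x⁻¹ := by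
        have h := hneg x⁻¹ (inv_mem hx)
        rw [inv_inv] at h
        calc t⁻¹ * x * t = t⁻¹ * (t * x⁻¹ * t⁻¹) * t := by rw [h]
          _ = x⁻¹ := by group
      have h2 : y * x * y⁻¹ = y⁻¹ * x * y := by
        calc y * x * y⁻¹ = t * (y * x * y⁻¹)⁻¹ * t⁻¹ := by rw [hneg _ (inv_mem hxy), inv_inv]
          _ = t * y * x⁻¹ * y⁻¹ * t⁻¹ := by group
          _ = (t * y * t⁻¹) * (t * x⁻¹ * t⁻¹) * (t * y * t⁻¹)⁻¹ := by group
          _ = (t * y * t⁻¹ * y) * (y⁻¹ * x * y) * (t * y * t⁻¹ * y)⁻¹ := by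
            rw [hneg _ (inv_mem hx), inv_inv]; group
          _ = y⁻¹ * x * y := by
            have hx' : y⁻¹ * x * y ∈ Qp := by
              simpa using (inferInstance : Qp.Normal).conj_mem x hx y⁻¹
            rw [← mem_centralizer_iff.1 (hKc hk) _ hx', mul_inv_cancel_right]
      calc y * y * x = y * (y * x * y⁻¹) * y := by group
        _ = y * (y⁻¹ * x * y) * y := by rw [h2]
        _ = x * (y * y) := by group
    have hcy : x * y = y * x := by
      have h4 : y = (y * y) * (y * y) := by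
        rw [show y * y * (y * y) = y ^ 3 * y by rw [pow_succ, pow_two]; group, hy, one_mul]
      rw [h4]
      exact ((show Commute (y * y) x from hyx).mul_left hyx).eq.symm
    obtain ⟨n, hn⟩ := hcent x hcy
    have hx6 : x ^ 6 = 1 := by
      have hyn : (y ^ n) ^ 6 = 1 := by rw [← pow_mul, mul_comm, show (6 : ℕ) = 3 * 2 by norm_num, mul_assoc, pow_mul, hy, one_pow]
      rcases hn with e | e <;> rw [e]
      · exact hyn
      · rw [(show Commute i (y ^ n) from hiy.pow_right n).mul_pow, hyn, mul_one, show (6 : ℕ) = 2 * 3 by norm_num,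
          pow_mul, hi, one_pow]
    refine hx1 (pow_prime_facts hp ?_ hx6 ?_)
    · obtain ⟨n, hn⟩ := hQp ⟨x, hx⟩
      exact ⟨n, congrArg Subtype.val hn⟩
    · intro h
      rcases (Nat.Prime.dvd_mul hp).1 (show p ∣ 2 * 3 by simpa using h) with h | h
      · exact hp2 ((Nat.prime_dvd_prime_iff_eq hp Nat.prime_two).1 h)
      · exact hp3 ((Nat.prime_dvd_prime_iff_eq hp Nat.prime_three).1 h)
  refine M.le_range_of_card C 192 (by rw [hX, hXN, hq6, hN16]; norm_num) ?_
  have h1 : 64 ∣ Nat.card (C ⊓ M.φ.range : Subgroup G) := by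
    rw [← M.card_SG]
    exact card_dvd_of_le (le_inf hSC fun x ⟨s, _, e⟩ => ⟨s, e⟩)
  have h2 : 3 ∣ Nat.card (C ⊓ M.φ.range : Subgroup G) := by
    haveI : Fact (Nat.Prime 3) := ⟨Nat.prime_three⟩
    have := Subgroup.orderOf_dvd_natCard (C ⊓ M.φ.range) (x := M.φ y8) ⟨hyC, y8, rfl⟩
    rwa [orderOf_eq_prime (congrArg Subtype.val hy) fun e => hyne (Subtype.ext e)] at this
  exact Nat.Coprime.mul_dvd_of_dvd_of_dvd (by norm_num) h1 h2

end Emb

end CfsgLib.Spor.AltEightLocal
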