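import Cfsg.Agent.Lib.Spor.AltEightLocal.Main

/-!
# The coordinates from the local data
-/

set_option autoImplicit false
set_option linter.style.haveILetI false
set_option linter.unusedSectionVars false
set_option synthInstance.maxSize 4000
set_option synthInstance.maxHeartbeats 80000

namespace CfsgLib.Spor.AltEightLocal

open Subgroup

theorem mixed_pairs : ∀ i j k l : Fin 3, (i : ℕ) ≠ 0 → (j : ℕ) ≠ 0 → (k : ℕ) ≠ 0 → (l : ℕ) ≠ 0 →
    ∃ s ∈ [(1 : E), eS], eZ ^ (k : ℕ) * eW ^ (l : ℕ) = s * (eZ ^ (i : ℕ) * eW ^ (j : ℕ)) * s⁻¹ ∨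
      eZ ^ (k : ℕ) * eW ^ (l : ℕ) = s * (eZ ^ (i : ℕ) * eW ^ (j : ℕ))⁻¹ * s⁻¹ := by decide +kernel

theorem inD_coords : ∀ i j : Fin 3, ((eZ ^ (i : ℕ) * eW ^ (j : ℕ)).1.1 = 1 ↔ (i : ℕ) = 0) ∧
    ((eZ ^ (i : ℕ) * eW ^ (j : ℕ)).1.2 = 1 ↔ (j : ℕ) = 0) := by decide +kernel

theorem normD_one_S : normD 1 = true ∧ normD eS = true := by decide +kernel

variable {G : Type*} [Group G] [Finite G]

theorem centralizer_conj_map (n x : G) :
    centralizer ({n * x * n⁻¹} : Set G) = (centralizer ({x} : Set G)).map (MulAut.conj n).toMonoidHom := by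
  ext g
  constructor
  · intro h
    refine ⟨n⁻¹ * g * n, ?_, ?_⟩
    · rw [SetLike.mem_coe, mem_centralizer_singleton_iff]
      have e := mem_centralizer_singleton_iff.1 h
      calc n⁻¹ * g * n * x = n⁻¹ * (g * (n * x * n⁻¹)) * n := by group
        _ = n⁻¹ * ((n * x * n⁻¹) * g) * n := by rw [e]
        _ = _ := by group
    · show n * (n⁻¹ * g * n) * n⁻¹ = g
      group
  · rintro ⟨k, hk, rfl⟩
    rw [mem_centralizer_singleton_iff]
    show n * k * n⁻¹ * (n * x * n⁻¹) = n * x * n⁻¹ * (n * k * n⁻¹)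
    rw [conj_mul, conj_mul, mem_centralizer_singleton_iff.1 hk]

theorem centralizer_inv_singleton (x : G) : centralizer ({x⁻¹} : Set G) = centralizer ({x} : Set G) := by
  ext g
  rw [mem_centralizer_singleton_iff, mem_centralizer_singleton_iff]
  exact ⟨fun h => (Commute.inv_right_iff.1 (show Commute g x⁻¹ from h)).eq, fun h => (show Commute g x from h).inv_right⟩

/-- The local hypotheses for coordinates adapted to the data. -/
theorem Frame.hyp_of_data (F : Frame G) {y : G} (hC : centralizer (F.D : Set G) = F.D)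
    (hidx : ¬ 3 ∣ F.D.index) (hND : Nat.card (normalizer (F.D : Set G)) = 72)
    (hyD : y ∈ F.D) (hy1 : y ≠ 1) (hyz : y ∉ zpowers (F.f eZ))
    (hyc : Nat.card (centralizer ({y} : Set G)) = 18)
    (hyn : centralizer ({y} : Set G) ≤ normalizer (F.D : Set G)) : Hyp F := by
  obtain ⟨q0, hq0, rfl⟩ := hyD
  obtain ⟨i, j, rfl⟩ := inD_spec q0 hq0
  have hj : (j : ℕ) ≠ 0 := fun e => hyz (by
    rw [e, pow_zero, mul_one, map_pow]; exact pow_mem (mem_zpowers _) _)
  have hi : (i : ℕ) ≠ 0 := fun e => by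
    rw [e, pow_zero, one_mul, map_pow] at hyc
    have hle : ((Subgroup.centralizer ({eZ} : Set E)).map F.g) ≤ centralizer ({F.f eW ^ (j : ℕ)} : Set G) := by
      rintro _ ⟨q, hq, rfl⟩
      rw [mem_centralizer_singleton_iff]
      have hc : Commute (F.g q) (F.f eW) := by
        show _ = _
        rw [← F.link_z, ← map_mul, ← map_mul, mem_centralizer_singleton_iff.1 hq]
      exact (hc.pow_right _).eq
    have h := card_le_of_le hle
    rw [card_map_of_injective F.g_inj, hyc] at h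
    have hcard : Nat.card (Subgroup.centralizer ({eZ} : Set E)) = 180 := by
      rw [← cent_eZ, ← Nat.card_eq_fintype_card]
      exact Nat.card_congr (Equiv.subtypeEquivRight fun q => mem_centralizer_singleton_iff)
    omega
  refine ⟨hC, hidx, hND, fun q hq h1 h2 => ?_⟩
  obtain ⟨k, l, rfl⟩ := inD_spec q hq
  obtain ⟨s, hs, e⟩ := mixed_pairs i j k l hi hj (fun h => h1 ((inD_coords k l).1.2 h))
    (fun h => h2 ((inD_coords k l).2.2 h))
  have hsN : F.f s ∈ normalizer (F.D : Set G) := by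
    have hs' : normD s = true := by
      simp only [List.mem_cons, List.not_mem_nil, or_false] at hs
      rcases hs with rfl | rfl
      · exact normD_one_S.1
      · exact normD_one_S.2
    rw [normD, Bool.and_eq_true] at hs'
    refine (mem_normalizer_iff_map_conj_eq).2 (eq_of_le_of_card_ge ?_
      (card_map_of_injective (MulAut.conj _).injective).ge)
    rintro _ ⟨_, ⟨a, ha, rfl⟩, rfl⟩
    obtain ⟨m, n, rfl⟩ := inD_spec a ha
    refine ⟨s * (eZ ^ (m : ℕ) * eW ^ (n : ℕ)) * s⁻¹, ?_, by simp⟩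
    rw [SetLike.mem_coe, ← conj_mul, ← conj_pow, ← conj_pow]
    exact mul_mem (pow_mem (show _ ∈ eD from hs'.1) _) (pow_mem (show _ ∈ eD from hs'.2) _)
  have key : centralizer ({F.f (eZ ^ (k : ℕ) * eW ^ (l : ℕ))} : Set G) =
      (centralizer ({F.f (eZ ^ (i : ℕ) * eW ^ (j : ℕ))} : Set G)).map (MulAut.conj (F.f s)).toMonoidHom := by
    rcases e with e | e
    · rw [e, map_mul, map_mul, map_inv, centralizer_conj_map]
    · rw [e, map_mul, map_mul, map_inv, map_inv, centralizer_conj_map, centralizer_inv_singleton]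
  rw [key]
  refine ⟨(card_map_of_injective (MulAut.conj _).injective).trans hyc, ?_⟩
  rintro _ ⟨c, hc, rfl⟩
  exact mul_mem (mul_mem hsN (hyn hc)) (inv_mem hsN)

end CfsgLib.Spor.AltEightLocal
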