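import Cfsg.Agent.Lib.Spor.AltEightLocal.Embed

/-!
# The Sylow two-subgroup of the alternating group of degree eight
-/

set_option autoImplicit false
set_option linter.style.haveILetI false
set_option synthInstance.maxSize 4000
set_option synthInstance.maxHeartbeats 80000

namespace CfsgLib.Spor.AltEightLocal

open Equiv

attribute [local instance 5000] List.decidableBAll List.decidableBEx

/-- an even permutation -/
def mk8 (p : Equiv.Perm (Fin 8)) (h : Equiv.Perm.sign p = 1 := by decide +kernel) : A8 :=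
  ⟨p, Equiv.Perm.mem_alternatingGroup.2 h⟩

def i8 : A8 := mk8 (swap 4 5 * swap 6 7)
def v8 : A8 := mk8 (swap 4 6 * swap 5 7)
def j8 : A8 := mk8 (swap 0 1 * swap 2 3 * swap 4 5 * swap 6 7)
def t8 : A8 := mk8 (swap 0 1 * swap 6 7)
def b8 : A8 := mk8 (swap 0 1 * swap 2 3)
def z8 : A8 := mk8 (swap 0 1 * swap 1 2)
def w8 : A8 := mk8 (swap 5 6 * swap 6 7)
def s8 : A8 := mk8 (swap 0 5 * swap 1 6 * swap 2 7 * swap 3 4)
def p8 : A8 := mk8 (swap 1 5 * swap 5 7 * swap 7 3 * swap 3 6 * swap 6 4 * swap 4 2)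
def y8 : A8 := p8⁻¹ * (z8 * w8) * p8

/-- the four-group on the last four points -/
def V8 : List A8 := [1, i8, v8, i8 * v8]

/-- the four-group on the first four points -/
def B8 : List A8 := [1, b8, mk8 (swap 0 2 * swap 1 3), mk8 (swap 0 3 * swap 1 2)]

/-- their product -/
def R8 : List A8 := B8.flatMap fun a => V8.map fun b => a * b

/-- the Sylow subgroup -/
def S8 : List A8 :=
  R8.flatMap fun r => [1, mk8 (swap 0 1 * swap 4 5)].flatMap fun a =>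
    [1, mk8 (swap 0 4 * swap 1 5 * swap 2 6 * swap 3 7)].map fun b => r * a * b

/-- whether an element moves exactly four points -/
def six (x : A8) : Bool := (Finset.univ.filter fun k => x.1 k ≠ k).card == 4

/-- whether an element stabilizes the pair `4, 5` -/
def chi (x : A8) : Bool := (x.1 4 == 4 || x.1 4 == 5) && (x.1 5 == 4 || x.1 5 == 5)

/-- conjugating elements -/
def W8 : List A8 :=
  [1,
   mk8 (swap 5 6 * swap 6 7),
   mk8 (swap 5 7 * swap 7 6),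
   mk8 (swap 0 4 * swap 1 6 * swap 6 3 * swap 3 7 * swap 7 2 * swap 2 5),
   mk8 (swap 0 4 * swap 1 6 * swap 6 2 * swap 2 7 * swap 7 3 * swap 3 5),
   mk8 (swap 2 4 * swap 3 5),
   mk8 (swap 2 4 * swap 4 6 * swap 3 5 * swap 5 7),
   mk8 (swap 1 2 * swap 5 6),
   mk8 (swap 1 2 * swap 5 7),
   mk8 (swap 1 2 * swap 2 3 * swap 5 6 * swap 6 7),
   mk8 (swap 1 2 * swap 2 3 * swap 5 7 * swap 7 6),
   mk8 (swap 1 2 * swap 2 4 * swap 3 6 * swap 6 5),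
   mk8 (swap 1 2 * swap 2 4 * swap 4 3 * swap 3 6 * swap 6 7 * swap 7 5),
   mk8 (swap 1 2 * swap 2 4 * swap 4 5 * swap 5 7 * swap 7 3 * swap 3 6),
   mk8 (swap 1 2 * swap 2 4 * swap 4 7 * swap 3 6),
   mk8 (swap 1 2 * swap 2 4 * swap 3 7 * swap 7 5),
   mk8 (swap 1 2 * swap 2 4 * swap 4 3 * swap 3 7 * swap 7 6 * swap 6 5),
   mk8 (swap 1 2 * swap 2 4 * swap 4 5 * swap 5 6 * swap 6 3 * swap 3 7),
   mk8 (swap 1 2 * swap 2 4 * swap 4 6 * swap 3 7),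
   mk8 (swap 0 4 * swap 4 2 * swap 1 5 * swap 5 3),
   mk8 (swap 0 4 * swap 4 6 * swap 6 2 * swap 1 5 * swap 5 7 * swap 7 3),
   mk8 (swap 0 4 * swap 1 5 * swap 2 6 * swap 3 7)]

theorem R8_closed : (∀ a ∈ R8, ∀ b ∈ R8, a * b ∈ R8 ∧ a * b = b * a ∧ a * a = 1) ∧ R8.toFinset.card = 16 ∧
    (∀ a ∈ V8, a ∈ R8) ∧ (∀ a ∈ B8, a ∈ R8) ∧ (∀ a ∈ R8, a ∈ S8) := by decide +kernel

theorem S8_card : S8.toFinset.card = 64 := by decide +kernel

theorem S8_mul : ∀ a ∈ S8, ∀ b ∈ S8, a * b ∈ S8 := by decide +kernel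

theorem S8_elementary : ∀ a ∈ S8, a ∈ R8 ∨ a * a ≠ 1 ∨
    (S8.filter fun x => x * x == 1 && x * a == a * x).toFinset.card < 16 := by decide +kernel

theorem S8_centre : ∀ x ∈ S8, (∀ y ∈ S8, x * y = y * x) → x = 1 ∨ x = j8 := by decide +kernel

theorem S8_involutions : ∀ x ∈ S8, x * x = 1 → x ≠ 1 →
    ∃ p ∈ W8, p * x * p⁻¹ = i8 ∨ p * x * p⁻¹ = j8 := by decide +kernel

theorem R8_classes : ∀ x ∈ R8, x ≠ 1 →
    (six x = true ∧ ∃ p ∈ W8, p * x * p⁻¹ = i8) ∨ (six x = false ∧ ∃ p ∈ W8, p * x * p⁻¹ = j8) := by decide +kernel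

theorem R8_triangles : (∀ a ∈ R8, six a = true → a ∈ V8 ∨ a ∈ B8) ∧
    (∀ a ∈ R8, six a = true → ∀ b ∈ R8, six b = true → six (a * b) = true →
      (a ∈ V8 ↔ b ∈ V8)) := by decide +kernel

theorem R8_partners : ∀ a ∈ R8, six a = true →
    ((R8.filter fun b => six b && six (a * b)).toFinset.card ≤ 2) := by decide +kernel

theorem elt_facts : j8 = b8 * i8 ∧ i8 * i8 = 1 ∧ j8 * j8 = 1 ∧ s8 * s8 = 1 ∧
    p8 * j8 * p8⁻¹ = s8 ∧ s8 * (z8 * w8) = z8 * w8 * s8 ∧ s8 * z8 * s8⁻¹ = w8 ∧ s8 * w8 * s8⁻¹ = z8 ∧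
    y8 * j8 = j8 * y8 ∧ y8 * y8 * y8 = 1 ∧ y8 ≠ 1 ∧ i8 * z8 = z8 * i8 ∧
    t8 * v8 * t8⁻¹ = v8 * i8 ∧ t8 * t8 = 1 ∧ chi v8 = false ∧ chi i8 = true ∧
    z8 * b8 * z8⁻¹ ≠ b8 := by decide +kernel

theorem V8_swap : ∃ p ∈ W8, ∀ a ∈ B8, p * a * p⁻¹ ∈ V8 := by decide +kernel

/-- the elements of the Sylow subgroup commuting with `i8` -/
def T8 : List A8 := S8.filter fun x => x * i8 == i8 * x

theorem T8_facts : T8.toFinset.card = 32 ∧ (∀ a ∈ V8, a ∈ T8) ∧ (∀ a ∈ B8, a ∈ T8) ∧ t8 ∈ T8 ∧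
    (∀ a ∈ T8, ∀ b ∈ T8, a * b ∈ T8 ∧ (chi (a * b) = (chi a == chi b))) := by decide +kernel

theorem T8_fusion : ∀ u ∈ T8, chi u = true → six u = true → six (u * i8) = true →
    i8 ∈ S8 ∧ ∃ c ∈ T8, six c = true ∧
      (∀ a ∈ [u, i8, c], ∀ b ∈ [u, i8, c], a * b = b * a ∧ a * a = 1) ∧
      i8 * u ≠ 1 ∧ (([1, i8, u, i8 * u, c, i8 * c, u * c, i8 * u * c].filter
        fun b => six b && six (i8 * b)).toFinset.card = 4) := by decide +kernel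

end CfsgLib.Spor.AltEightLocal
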