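import Cfsg.Agent.Lib.Spor.AltEightLocal.Thin
import Cfsg.Agent.Lib.Char.AlternatingPresentation

/-!
# The alternating group of degree eight inside
-/

set_option autoImplicit false
set_option linter.style.haveILetI false
set_option linter.unusedSectionVars false
set_option synthInstance.maxSize 4000
set_option synthInstance.maxHeartbeats 80000

namespace CfsgLib.Spor.AltEightLocal

open Subgroup CfsgLib.Char.AltPres

/-- exchange the two fixed labels of the second coordinate -/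
def swapLab : P3 × P5 := (1, Equiv.swap 0 1)

theorem swapLab_facts : relabel swapLab eZ = eZ ∧ relabel swapLab eW = eW ∧ relabel swapLab eB = eB ∧
    (∀ b : E, inV 0 b = true → inV 1 (relabel swapLab b) = true) := by decide +kernel

variable {G : Type*} [Group G] [Finite G]

/-- A frame whose second four-group centralizes the first. -/
theorem exists_adjusted (F : Frame G) (H : Hyp F) :
    ∃ (F' : Frame G) (_ : Hyp F'),
      (∀ a b : E, inV 0 a = true → inV 1 b = true → F'.f a * F'.g b = F'.g b * F'.f a) ∧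
      ∀ x ∈ F'.CV, ∃ (a b : E) (i : Fin 3), inV 0 a = true ∧ inV 1 b = true ∧
        x = F'.f a * F'.g b * F'.f eZ ^ (i : ℕ) := by
  rcases H.CV_structure with hthin | ⟨l, hl, hlM, hall⟩
  · exact (H.not_thin hthin).elim
  rcases hl with rfl | rfl
  rotate_left
  · exact ⟨F, H, fun a b ha hb => F.mem_CV.1 (hlM b hb) a ha, hall⟩
  obtain ⟨s1, s2, s3, s4⟩ := swapLab_facts
  let F' : Frame G :=
    { f := F.f, g := F.g.comp (relabel swapLab), γ := F.γ, p := F.p * swapLab
      f_inj := F.f_inj, f_range := F.f_range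
      g_range := by rw [range_comp_relabel, MonoidHom.comp_apply, s1]; exact F.g_range
      g_eq := fun q => by
        show F.g (relabel swapLab q) = _
        rw [F.g_eq, show relabel F.p (relabel swapLab q) = relabel (F.p * swapLab) q from
          Subtype.ext (by simp [relabel_apply, mul_assoc])]
      link_z := by rw [MonoidHom.comp_apply, s1]; exact F.link_z
      link_w := by rw [MonoidHom.comp_apply, s2]; exact F.link_w
      link_b := by rw [MonoidHom.comp_apply, s3]; exact F.link_b }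
  refine ⟨F', ⟨H.cent_D, H.index_D, H.card_ND, H.mixed⟩, fun a b ha hb => F.mem_CV.1 (hlM _ (by
    have key : ∀ b : E, inV 1 b = true → inV 0 (relabel swapLab b) = true := by decide +kernel
    exact key b hb)) a ha,
    fun x hx => ?_⟩
  obtain ⟨a, b, i, ha, hb, rfl⟩ := hall x hx
  refine ⟨a, relabel swapLab b, i, ha, ?_, ?_⟩
  · exact s4 b hb
  · have key : ∀ b : E, relabel swapLab (relabel swapLab b) = b := by decide +kernel
    show _ = F.f a * F.g (relabel swapLab (relabel swapLab b)) * _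
    rw [key]

/-- the generators in coordinates -/
def e3 : E := ⟨(Equiv.swap 0 1, Equiv.swap 1 2), MonoidHom.mem_ker.2 (by decide)⟩
def e4 : E := ⟨(Equiv.swap 0 1, Equiv.swap 2 3), MonoidHom.mem_ker.2 (by decide)⟩
def e5 : E := ⟨(Equiv.swap 0 1, Equiv.swap 3 4), MonoidHom.mem_ker.2 (by decide)⟩
def eP : E := ⟨(1, Equiv.swap 1 2 * Equiv.swap 3 4), MonoidHom.mem_ker.2 (by decide)⟩

theorem rel_f : eZ ^ 3 = 1 ∧ eS ^ 2 = 1 ∧ e3 ^ 2 = 1 ∧ e4 ^ 2 = 1 ∧ e5 ^ 2 = 1 ∧
    (eS * e3) ^ 3 = 1 ∧ (e3 * e4) ^ 3 = 1 ∧ (e4 * e5) ^ 3 = 1 ∧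
    (eS * e4) ^ 2 = 1 ∧ (eS * e5) ^ 2 = 1 ∧ (e3 * e5) ^ 2 = 1 ∧
    (eZ * eS) ^ 2 = 1 ∧ (eZ * e3) ^ 2 = 1 ∧ (eZ * e4) ^ 2 = 1 ∧ (eZ * e5) ^ 2 = 1 ∧
    e3 = e5 * eP ∧ inV 0 eP = true ∧ inV 1 eX = true := by decide +kernel

theorem rel_g : eX ^ 2 = 1 ∧ (eW * eX) ^ 3 = 1 ∧ (eX * eB) ^ 3 = 1 := by decide +kernel

theorem side_vals : e4 * eW = eW⁻¹ * e4 ∧ e5 * eW = eW⁻¹ * e5 ∧ e4 * eZ = eZ⁻¹ * e4 ∧ e5 * eZ = eZ⁻¹ * e5 ∧
    e4 * eS = eS * e4 ∧ e5 * eS = eS * e5 := by decide +kernel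

theorem g_side : ∀ q : E, q * eZ = eZ⁻¹ * q → q * eW = eW⁻¹ * q → q * eB = eB * q → q ^ 2 = 1 →
    q * eX = eX * q := by decide +kernel

/-- The normalizer coordinates of a common involution commute with the linking involution. -/
theorem Frame.commute_X (F : Frame G) {q : E} (h2 : q ^ 2 = 1) (hz : q * eZ = eZ⁻¹ * q)
    (hw : q * eW = eW⁻¹ * q) (hS : q * eS = eS * q) : F.f q * F.g eX = F.g eX * F.f q := by
  have hN : F.f q ∈ normalizer ((zpowers (F.g eZ) : Subgroup G) : Set G) := by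
    rw [F.link_z, mem_normalizer_iff_map_conj_eq, MonoidHom.map_zpowers]
    show zpowers (F.f q * F.f eW * (F.f q)⁻¹) = _
    rw [← map_inv, ← map_mul, ← map_mul, hw, mul_inv_cancel_right, map_inv, zpowers_inv]
  rw [← F.g_range] at hN
  obtain ⟨r, hr⟩ := hN
  rw [← hr, ← map_mul, ← map_mul, g_side r]
  · exact F.g_inj (by rw [map_mul, map_mul, map_inv, hr, F.link_z, ← map_inv, ← map_mul, ← map_mul, hw])
  · exact F.g_inj (by rw [map_mul, map_mul, map_inv, hr, F.link_w, ← map_inv, ← map_mul, ← map_mul, hz])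
  · exact F.g_inj (by rw [map_mul, map_mul, hr, F.link_b, ← map_mul, ← map_mul, hS])
  · exact F.g_inj (by rw [map_pow, hr, ← map_pow, h2, map_one, map_one])

/-- the images of the generators -/
def Frame.gens (F : Frame G) (i : ℕ) : G :=
  match i with
  | 0 => F.f eZ
  | 1 => F.g eX
  | 2 => F.f eS
  | 3 => F.f e3
  | 4 => F.f e4
  | 5 => F.f e5
  | _ => 1

theorem Frame.gens_rel (F : Frame G)
    (hcomm : ∀ a b : E, inV 0 a = true → inV 1 b = true → F.f a * F.g b = F.g b * F.f a) :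
    Rel F.gens 6 := by
  obtain ⟨hz3, hs2, h32, h42, h52, b23, b34, b45, f24, f25, f35, z2, z3, z4, z5, he3, hP, hX⟩ := rel_f
  obtain ⟨hX2, b01, b12⟩ := rel_g
  obtain ⟨w4, w5, zz4, zz5, s4, s5⟩ := side_vals
  have c4 := F.commute_X h42 zz4 w4 s4
  have c5 := F.commute_X h52 zz5 w5 s5
  have c3 : F.f e3 * F.g eX = F.g eX * F.f e3 := by
    rw [he3, map_mul]
    exact ((show Commute (F.f e5) (F.g eX) from c5).mul_left (hcomm _ _ hP hX)).eq
  have hmap : ∀ (h : E →* G) (q : E) (n : ℕ), q ^ n = 1 → h q ^ n = 1 := fun h q n hq => by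
    rw [← map_pow, hq, map_one]
  have hX2' := hmap F.g eX 2 hX2
  refine ⟨fun _ => hmap F.f eZ 3 hz3, fun i h1 h2 => ?_, fun i hi => ?_, fun i j hij hj => ?_⟩
  · interval_cases i
    · exact hX2'
    · exact hmap F.f _ 2 hs2
    · exact hmap F.f _ 2 h32
    · exact hmap F.f _ 2 h42
    · exact hmap F.f _ 2 h52
  · have hi' : i ≤ 4 := by omega
    interval_cases i
    · show (F.f eZ * F.g eX) ^ 3 = 1
      rw [← F.link_w, ← map_mul]; exact hmap F.g _ 3 b01
    · show (F.g eX * F.f eS) ^ 3 = 1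
      rw [← F.link_b, ← map_mul]; exact hmap F.g _ 3 b12
    · show (F.f eS * F.f e3) ^ 3 = 1
      rw [← map_mul]; exact hmap F.f _ 3 b23
    · show (F.f e3 * F.f e4) ^ 3 = 1
      rw [← map_mul]; exact hmap F.f _ 3 b34
    · show (F.f e4 * F.f e5) ^ 3 = 1
      rw [← map_mul]; exact hmap F.f _ 3 b45
  · obtain ⟨rfl, rfl⟩ | ⟨rfl, rfl⟩ | ⟨rfl, rfl⟩ | ⟨rfl, rfl⟩ | ⟨rfl, rfl⟩ | ⟨rfl, rfl⟩ | ⟨rfl, rfl⟩ |
        ⟨rfl, rfl⟩ | ⟨rfl, rfl⟩ | ⟨rfl, rfl⟩ : (i = 0 ∧ j = 2) ∨ (i = 0 ∧ j = 3) ∨ (i = 0 ∧ j = 4) ∨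
        (i = 0 ∧ j = 5) ∨ (i = 1 ∧ j = 3) ∨ (i = 1 ∧ j = 4) ∨ (i = 1 ∧ j = 5) ∨ (i = 2 ∧ j = 4) ∨
        (i = 2 ∧ j = 5) ∨ (i = 3 ∧ j = 5) := by omega
    · show (F.f eZ * F.f eS) ^ 2 = 1
      rw [← map_mul]; exact hmap F.f _ 2 z2
    · show (F.f eZ * F.f e3) ^ 2 = 1
      rw [← map_mul]; exact hmap F.f _ 2 z3
    · show (F.f eZ * F.f e4) ^ 2 = 1
      rw [← map_mul]; exact hmap F.f _ 2 z4
    · show (F.f eZ * F.f e5) ^ 2 = 1
      rw [← map_mul]; exact hmap F.f _ 2 z5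
    · show (F.g eX * F.f e3) ^ 2 = 1
      rw [(show Commute (F.g eX) (F.f e3) from c3.symm).mul_pow, hX2', hmap F.f _ 2 h32, one_mul]
    · show (F.g eX * F.f e4) ^ 2 = 1
      rw [(show Commute (F.g eX) (F.f e4) from c4.symm).mul_pow, hX2', hmap F.f _ 2 h42, one_mul]
    · show (F.g eX * F.f e5) ^ 2 = 1
      rw [(show Commute (F.g eX) (F.f e5) from c5.symm).mul_pow, hX2', hmap F.f _ 2 h52, one_mul]
    · show (F.f eS * F.f e4) ^ 2 = 1
      rw [← map_mul]; exact hmap F.f _ 2 f24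
    · show (F.f eS * F.f e5) ^ 2 = 1
      rw [← map_mul]; exact hmap F.f _ 2 f25
    · show (F.f e3 * F.f e5) ^ 2 = 1
      rw [← map_mul]; exact hmap F.f _ 2 f35

/-- the alternating group of degree eight -/
abbrev A8 := alternatingGroup (Fin 8)

/-- the generators as even permutations -/
def gen8 (i : ℕ) : A8 := if h : i + 2 < 8 then ⟨gen 8 i, gen_mem_alt h⟩ else 1

theorem gen8_rel : Rel gen8 6 := by
  have h := gen_rel (n := 8) (m := 6) (by norm_num)
  have e : ∀ i, i < 6 → ((gen8 i : A8) : Equiv.Perm (Fin 8)) = gen 8 i := fun i hi => by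
    rw [gen8, dif_pos (by omega)]
  refine ⟨fun h0 => ?_, fun i h1 h2 => ?_, fun i hi => ?_, fun i j hij hj => ?_⟩ <;> apply Subtype.ext
  · simp only [SubgroupClass.coe_pow, OneMemClass.coe_one, e 0 h0]; exact h.cube h0
  · simp only [SubgroupClass.coe_pow, OneMemClass.coe_one, e i h2]; exact h.sq i h1 h2
  · simp only [SubgroupClass.coe_pow, OneMemClass.coe_one, Subgroup.coe_mul, e i (by omega), e (i + 1) hi]
    exact h.braid i hi
  · simp only [SubgroupClass.coe_pow, OneMemClass.coe_one, Subgroup.coe_mul, e i (by omega), e j hj]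
    exact h.far i j hij hj

theorem gen8_generates : closure (gen8 '' Set.Iio 6) = ⊤ := by
  refine eq_top_iff.2 fun g _ => ?_
  have h := mem_closure_gen (n := 8) 6 (by norm_num) (by norm_num) g.1 g.2 (fun k hk => by omega)
  have e : gen 8 '' Set.Iio 6 = A8.subtype '' (gen8 '' Set.Iio 6) := by
    rw [Set.image_image]
    refine Set.image_congr fun i hi => ?_
    rw [Set.mem_Iio] at hi
    rw [gen8, dif_pos (by omega)]
    rfl
  rw [e, ← MonoidHom.map_closure] at h
  obtain ⟨x, hx, hxg⟩ := h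
  rwa [show g = x from Subtype.ext hxg.symm]

/-- A homomorphism from a generated group of the presented order. -/
theorem exists_hom_of_model {A P : Type*} [Group A] [Finite A] [Group P] {m : ℕ} {u : ℕ → A} {x : ℕ → P}
    (hu : Rel u m) (hgen : closure (u '' Set.Iio m) = ⊤) (hA : 2 * Nat.card A = (m + 2).factorial)
    (h : Rel x m) : ∃ φ : A →* P, ∀ i < m, φ (u i) = x i := by
  classical
  let y : ℕ → A × P := fun i => (u i, x i)
  have hy : Rel y m :=
    ⟨fun h0 => Prod.ext (hu.cube h0) (h.cube h0),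
      fun i h1 h2 => Prod.ext (hu.sq i h1 h2) (h.sq i h1 h2),
      fun i hi => Prod.ext (hu.braid i hi) (h.braid i hi),
      fun i j hij hj => Prod.ext (hu.far i j hij hj) (h.far i j hij hj)⟩
  obtain ⟨hfin, hle⟩ := card_closure_le m hy
  set K := closure (y '' Set.Iio m) with hK
  let π : K →* A := (MonoidHom.fst A P).comp K.subtype
  have hπs : Function.Surjective π := by
    intro g
    have : g ∈ K.map (MonoidHom.fst A P) := by
      rw [hK, MonoidHom.map_closure, Set.image_image]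
      show g ∈ closure (u '' Set.Iio m)
      rw [hgen]; exact mem_top g
    obtain ⟨k, hk, rfl⟩ := this
    exact ⟨⟨k, hk⟩, rfl⟩
  haveI := hfin
  have hπi : Function.Injective π := by
    refine ((Nat.bijective_iff_surjective_and_card π).2 ⟨hπs, ?_⟩).1
    have h1 := Nat.card_le_card_of_surjective π hπs
    omega
  let e : K ≃* A := MulEquiv.ofBijective π ⟨hπi, hπs⟩
  refine ⟨(MonoidHom.snd A P).comp (K.subtype.comp e.symm.toMonoidHom), fun i hi => ?_⟩
  have hmem : y i ∈ K := subset_closure ⟨i, hi, rfl⟩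
  have : e.symm (u i) = ⟨y i, hmem⟩ := by
    rw [MulEquiv.symm_apply_eq]; rfl
  show ((e.symm (u i) : K) : A × P).2 = _
  rw [this]

/-- A homomorphism from the relations. -/
theorem exists_hom_of_rel {P : Type*} [Group P] {x : ℕ → P} (h : Rel x 6) :
    ∃ φ : A8 →* P, ∀ i < 6, φ (gen8 i) = x i :=
  exists_hom_of_model gen8_rel gen8_generates (by
    rw [nat_card_alternatingGroup, Nat.card_fin]
    norm_num [Nat.factorial]) h

end CfsgLib.Spor.AltEightLocal
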