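import Cfsg.Agent.Lib.Spor.AltEightLocal.Frame

/-!
# Finite facts about the model
-/

set_option autoImplicit false
set_option linter.style.haveILetI false
set_option synthInstance.maxSize 4000
set_option synthInstance.maxHeartbeats 80000

namespace CfsgLib.Spor.AltEightLocal

open Equiv

/-- the four-group on the five points other than `k`, identity included -/
def inV (k : Fin 5) (q : E) : Bool := (q.1.1 == 1) && ((q.1.2 k == k) && (q.1.2 * q.1.2 == 1))

theorem inV_spec : ∀ k : Fin 5, k = 0 ∨ k = 1 → inV k 1 = true ∧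
    Fintype.card {q : E // inV k q = true} = 4 ∧
    (∀ a : E, inV k a = true → ∀ b : E, inV k b = true → inV k (a * b) = true ∧ a * b = b * a) ∧
    (∀ a : E, inV k a = true → a⁻¹ = a ∧ a * eZ = eZ * a ∧ inV k (eW * a * eW⁻¹) = true) ∧
    (∀ a : E, inV k a = true → a ≠ 1 → ∀ b : E, inV k b = true → b ≠ 1 →
      b = a ∨ b = eW * a * eW⁻¹ ∨ b = eW⁻¹ * a * eW) := by decide +kernel

/-- the words used to find elements of order three -/
def words (q : E) : List E :=
  let a := q * (eW * q * eW⁻¹)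
  let b := q * (eW⁻¹ * q * eW)
  [q, q ^ 2, q ^ 5, a, a ^ 2, a ^ 5, b, b ^ 2, b ^ 5, a * (eW⁻¹ * q * eW), (a * (eW⁻¹ * q * eW)) ^ 2,
    (a * (eW⁻¹ * q * eW)) ^ 5, q * (eW * q⁻¹ * eW⁻¹), a * (q * (eW⁻¹ * q * eW))]

theorem sig_words : ∀ q : E, q * eZ = eZ * q → inV 0 q = true ∨ inV 1 q = true ∨
    ∃ x ∈ words q, x ^ 3 = 1 ∧ x ≠ 1 := by decide +kernel

theorem sig_mix : ∀ q : E, inV 0 q = true → q ≠ 1 → ∀ r : E, inV 1 r = true → r ≠ 1 →
    ∃ x ∈ words (q * r), x ^ 3 = 1 ∧ x ≠ 1 := by decide +kernel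

theorem cent_zw : ∀ q : E, q * eZ = eZ * q → q * eW = eW * q → inD q = true := by decide +kernel

theorem mixed_cases : ∀ q : E, inD q = true → q ≠ 1 →
    q = eZ ∨ q = eZ⁻¹ ∨ q = eW ∨ q = eW⁻¹ ∨ (q.1.1 ≠ 1 ∧ q.1.2 ≠ 1) := by decide +kernel

theorem cent_zV : ∀ q : E, q * eZ = eZ * q → (∀ v : E, inV 0 v = true → q * v = v * q) →
    ∃ i : Fin 3, inV 0 (q * eZ ^ (i : ℕ)) = true := by decide +kernel

theorem norm_zV : ∀ q : E, (∀ v : E, inV 0 v = true → q * v = v * q) → q * eZ = eZ * q := by decide +kernel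

theorem eB_moves : ¬ ∀ v : E, inV 0 v = true → eS * v = v * eS := by decide +kernel

/-- elements with trivial first component -/
def inK (q : E) : Bool := q.1.1 == 1

theorem five_gen : ∀ q : E, q ^ 5 = 1 → q ≠ 1 → inK q = true := by decide +kernel

/-- words yielding the distinguished involution -/
def fiveWords (q : E) : List E :=
  [q * q * q * eW * q * eW * q,
   q * eW * eW * q * eW * q * q * eW,
   q * q * eW * eW * q * eW * q * eW,
   q * eW * eW * q * eW * q * q,
   q * q * eW * q * eW * eW * q,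
   q * q * eW * eW * q * eW * q,
   q * q * eW * q * q * eW * q,
   q * q * eW * eW * q * q * eW * eW * q,
   q * eW * eW * q * q * eW * eW * q * q,
   q * q * eW * q * q * eW * q * eW,
   q * eW * q * q * eW * q * q,
   q * eW * eW * q * q * eW * eW * q * q * eW]

theorem five_generates : ∀ q : E, q ^ 5 = 1 → q ≠ 1 → eB ∈ fiveWords q := by decide +kernel

end CfsgLib.Spor.AltEightLocal
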