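import Cfsg.Agent.Lib.Spor.AltEightLocal.Model

/-!
# Coordinates on the normalizers of two commuting elements of order three
-/

set_option autoImplicit false
set_option linter.style.haveILetI false
set_option synthInstance.maxSize 4000

namespace CfsgLib.Spor.AltEightLocal

open Subgroup

theorem inD_mul : ∀ i j k l : Fin 3,
    inD ((eZ ^ (i : ℕ) * eW ^ (j : ℕ)) * (eZ ^ (k : ℕ) * eW ^ (l : ℕ))) = true ∧
      inD (eZ ^ (i : ℕ) * eW ^ (j : ℕ))⁻¹ = true := by decide +kernel

theorem inD_one : inD 1 = true ∧ inD eZ = true ∧ inD eW = true := by decide +kernel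

/-- the subgroup of order nine -/
def eD : Subgroup E where
  carrier := {q | inD q = true}
  one_mem' := inD_one.1
  mul_mem' {a b} ha hb := by
    obtain ⟨i, j, rfl⟩ := inD_spec a ha
    obtain ⟨k, l, rfl⟩ := inD_spec b hb
    exact (inD_mul i j k l).1
  inv_mem' {a} ha := by
    obtain ⟨i, j, rfl⟩ := inD_spec a ha
    exact (inD_mul i j i j).2

theorem mem_eD {q : E} : q ∈ eD ↔ inD q = true := Iff.rfl

theorem eD_facts : Fintype.card {q : E // inD q = true} = 9 ∧
    (∀ a b : E, inD a = true → inD b = true → a * b = b * a) := by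
  refine ⟨by decide +kernel, fun a b ha hb => ?_⟩
  obtain ⟨i, j, rfl⟩ := inD_spec a ha
  obtain ⟨k, l, rfl⟩ := inD_spec b hb
  have h : Commute eZ eW := z_facts.2.2.2.2.1
  exact (((Commute.refl eZ).pow_pow _ _).mul_right (h.pow_pow _ _)).mul_left
    ((h.symm.pow_pow _ _).mul_right ((Commute.refl eW).pow_pow _ _))

theorem nat_card_eD : Nat.card eD = 9 := by
  rw [← eD_facts.1, ← Nat.card_eq_fintype_card]
  exact Nat.card_congr (Equiv.refl _)

variable (G : Type*) [Group G]

/-- coordinates on the normalizers of `⟨z⟩` and `⟨w⟩` -/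
structure Frame where
  /-- the coordinates at `z` -/
  f : E →* G
  /-- the coordinates at `w` -/
  g : E →* G
  /-- an element moving `z` to `w` -/
  γ : G
  /-- the relabelling -/
  p : P3 × P5
  f_inj : Function.Injective f
  f_range : f.range = normalizer ((zpowers (f eZ) : Subgroup G) : Set G)
  g_range : g.range = normalizer ((zpowers (g eZ) : Subgroup G) : Set G)
  g_eq : ∀ q, g q = γ * f (relabel p q) * γ⁻¹
  link_z : g eZ = f eW
  link_w : g eW = f eZ
  link_b : g eB = f eS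

variable {G}

namespace Frame

variable (F : Frame G)

/-- the image of the subgroup of order nine -/
def D : Subgroup G := eD.map F.f

theorem g_inj : Function.Injective F.g := fun a b h => by
  rw [F.g_eq, F.g_eq] at h
  exact relabel_injective _ (F.f_inj (mul_left_cancel (mul_right_cancel h)))

theorem mem_D {q : E} (h : inD q = true) : F.f q ∈ F.D := ⟨q, h, rfl⟩

theorem z_mem : F.f eZ ∈ F.D := F.mem_D inD_one.2.1

theorem w_mem : F.f eW ∈ F.D := F.mem_D inD_one.2.2

theorem card_D : Nat.card F.D = 9 := by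
  rw [D, card_map_of_injective F.f_inj, nat_card_eD]

theorem D_comm {a b : G} (ha : a ∈ F.D) (hb : b ∈ F.D) : a * b = b * a := by
  obtain ⟨p, hp, rfl⟩ := ha
  obtain ⟨q, hq, rfl⟩ := hb
  rw [← map_mul, ← map_mul, eD_facts.2 p q hp hq]

end Frame

theorem D_gen {H : Subgroup G} {f : E →* G} (hz : f eZ ∈ H) (hw : f eW ∈ H) : eD.map f ≤ H := by
  rintro _ ⟨q, hq, rfl⟩
  obtain ⟨i, j, rfl⟩ := inD_spec q hq
  rw [map_mul, map_pow, map_pow]
  exact mul_mem (pow_mem hz _) (pow_mem hw _)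

theorem range_comp_relabel (f : E →* G) (p : P3 × P5) : (f.comp (relabel p)).range = f.range := by
  refine le_antisymm (fun x ⟨q, hq⟩ => ⟨relabel p q, hq⟩) fun x ⟨q, hq⟩ => ⟨relabel p⁻¹ q, ?_⟩
  show f (relabel p (relabel p⁻¹ q)) = x
  rw [relabel_surj, hq]

theorem zpowers_cond (x : G) (s : Bool) : zpowers (cond s x x⁻¹) = zpowers x := by
  cases s
  · exact Subgroup.zpowers_inv
  · rfl

theorem mem_zpowers_three {x a : G} (hx : x ^ 3 = 1) (ha : a ∈ zpowers x) : a = 1 ∨ a = x ∨ a = x⁻¹ := by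
  obtain ⟨n, rfl⟩ := mem_zpowers_iff.1 ha
  have h : x ^ (3 : ℤ) = 1 := by exact_mod_cast hx
  rw [← Int.emod_add_mul_ediv n 3, zpow_add, zpow_mul, h, one_zpow, mul_one]
  rcases (show n % 3 = 0 ∨ n % 3 = 1 ∨ n % 3 = 2 by omega) with e | e | e <;> rw [e]
  · simp
  · simp
  · refine Or.inr (Or.inr (eq_inv_of_mul_eq_one_left ?_))
    rw [← zpow_add_one]
    exact_mod_cast hx

/-- The coordinates at the first element. -/
theorem exists_first [Finite G] (z : G) (hz : z ^ 3 = 1) (hz1 : z ≠ 1)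
    (e : normalizer ((zpowers z : Subgroup G) : Set G) ≃* E) (D : Subgroup G) (hzD : z ∈ D)
    (hcard : Nat.card D = 9) (hexp : ∀ a ∈ D, a ^ 3 = 1) (hcomm : ∀ a ∈ D, ∀ b ∈ D, a * b = b * a) :
    ∃ f : E →* G, Function.Injective f ∧ f eZ = z ∧ f.range = normalizer ((zpowers z : Subgroup G) : Set G) ∧
      eD.map f = D := by
  classical
  let f0 : E →* G := (normalizer ((zpowers z : Subgroup G) : Set G)).subtype.comp e.symm.toMonoidHom
  have hf0 : Function.Injective f0 :=
    (Subgroup.subtype_injective _).comp e.symm.injective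
  have hr0 : f0.range = normalizer ((zpowers z : Subgroup G) : Set G) := by
    refine le_antisymm ?_ fun x hx => ⟨e ⟨x, hx⟩, ?_⟩
    · rintro _ ⟨q, rfl⟩
      exact (e.symm q).2
    · show ((e.symm (e ⟨x, hx⟩) : normalizer _) : G) = x
      rw [MulEquiv.symm_apply_apply]
  have hzN : z ∈ f0.range := hr0 ▸ le_normalizer (mem_zpowers z)
  obtain ⟨q, hq⟩ := hzN
  have hq3 : q ^ 3 = 1 := hf0 (by rw [map_pow, hq, hz, map_one])
  have hq1 : q ≠ 1 := fun h => hz1 (by rw [← hq, h, map_one])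
  have hqn : ∀ r : E, r * q * r⁻¹ = q ∨ r * q * r⁻¹ = q⁻¹ := by
    intro r
    have h1 : f0 r * z * (f0 r)⁻¹ ∈ zpowers z :=
      (mem_normalizer_iff.1 (hr0 ▸ ⟨r, rfl⟩ : f0 r ∈ normalizer ((zpowers z : Subgroup G) : Set G)) z).1
        (mem_zpowers z)
    rcases mem_zpowers_three hz h1 with h | h | h
    · exact absurd (conj_eq_one_iff.1 h) hz1
    · exact Or.inl (hf0 (by rw [map_mul, map_mul, map_inv, hq, h]))
    · exact Or.inr (hf0 (by rw [map_mul, map_mul, map_inv, map_inv, hq, h]))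
  obtain ⟨p, hp⟩ := normal_three q hq3 hq1 hqn
  let f1 : E →* G := f0.comp (relabel (p, 1))
  have hf1 : f1 eZ = z := by show f0 (relabel (p, 1) eZ) = z; rw [hp, hq]
  have hi1 : Function.Injective f1 := hf0.comp (relabel_injective _)
  have hr1 : f1.range = normalizer ((zpowers z : Subgroup G) : Set G) := by
    rw [range_comp_relabel, hr0]
  -- a second element of the subgroup
  obtain ⟨d, hdD, hd⟩ : ∃ d ∈ D, d ∉ zpowers z := by
    by_contra hc
    push Not at hc
    have := card_le_of_le (show D ≤ zpowers z from hc)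
    rw [hcard, Nat.card_zpowers, orderOf_eq_prime hz hz1] at this
    omega
  have hdN : d ∈ f1.range := by
    refine hr1 ▸ centralizer_le_normalizer _ (mem_centralizer_iff.2 fun x hx => ?_)
    obtain ⟨n, rfl⟩ := mem_zpowers_iff.1 hx
    exact ((show Commute z d from hcomm z hzD d hdD).zpow_left n).eq
  obtain ⟨r, hr⟩ := hdN
  have hr3 : r ^ 3 = 1 := hi1 (by rw [map_pow, hr, hexp d hdD, map_one])
  have hrc : r * eZ = eZ * r := hi1 (by rw [map_mul, map_mul, hr, hf1, hcomm d hdD z hzD])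
  have hr2 : r.1.2 ≠ 1 := by
    intro h
    have key : ∀ r : E, r ^ 3 = 1 → r.1.2 = 1 → r = 1 ∨ r = eZ ∨ r = eZ⁻¹ := by decide +kernel
    refine hd ?_
    rcases key r hr3 h with e | e | e
    · rw [← hr, e, map_one]; exact one_mem _
    · rw [← hr, e, hf1]; exact mem_zpowers _
    · rw [← hr, e, map_inv, hf1]; exact inv_mem (mem_zpowers _)
  obtain ⟨p', k, hp'⟩ := three_commuting r hr3 hrc hr2
  let f : E →* G := f1.comp (relabel ((1 : P3), p'))
  have hfix : ∀ p' : P5, relabel ((1 : P3), p') eZ = eZ := by decide +kernel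
  have hz' : f eZ = z := by show f1 (relabel _ eZ) = z; rw [hfix, hf1]
  have hw' : f eW ∈ D := by
    show f1 (relabel _ eW) ∈ D
    rw [hp', map_mul, map_pow, hr, hf1]
    exact mul_mem hdD (pow_mem hzD _)
  have hi : Function.Injective f := hi1.comp (relabel_injective _)
  refine ⟨f, hi, hz', by rw [range_comp_relabel, hr1], ?_⟩
  exact eq_of_le_of_card_ge (D_gen (hz'.symm ▸ hzD) hw')
    (by rw [hcard, card_map_of_injective hi, nat_card_eD])

/-- Both sets of coordinates. -/
theorem exists_frame [Finite G] (f : E →* G) (hi : Function.Injective f)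
    (hr : f.range = normalizer ((zpowers (f eZ) : Subgroup G) : Set G))
    (hN : Nat.card (normalizer ((eD.map f : Subgroup G) : Set G)) = 72) :
    ∃ F : Frame G, F.f = f := by
  classical
  set D := eD.map f with hD
  have hn1 : ∀ q : E, f q ∈ normalizer (D : Set G) ↔ normD q = true := by
    intro q
    constructor
    · intro h
      have key : ∀ a, inD a = true → inD (q * a * q⁻¹) = true := fun a ha => by
        obtain ⟨b, hb, hb'⟩ := (mem_normalizer_iff.1 h (f a)).1 ⟨a, ha, rfl⟩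
        rw [← map_inv, ← map_mul, ← map_mul] at hb'
        rw [← hi hb']
        exact hb
      rw [normD, Bool.and_eq_true]
      exact ⟨key _ inD_one.2.1, key _ inD_one.2.2⟩
    · intro h
      rw [normD, Bool.and_eq_true] at h
      refine (mem_normalizer_iff_map_conj_eq).2 (eq_of_le_of_card_ge ?_ ?_)
      · rintro _ ⟨_, ⟨a, ha, rfl⟩, rfl⟩
        refine ⟨q * a * q⁻¹, ?_, by simp⟩
        obtain ⟨i, j, rfl⟩ := inD_spec a ha
        rw [SetLike.mem_coe, ← conj_mul, ← conj_pow, ← conj_pow]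
        exact mul_mem (pow_mem (show _ ∈ eD from h.1) _) (pow_mem (show _ ∈ eD from h.2) _)
      · exact (card_map_of_injective (MulAut.conj (f q)).injective).ge
  set N := normalizer (D : Set G)
  have hN1card : Nat.card (N ⊓ f.range : Subgroup G) = 36 := by
    have e : (N ⊓ f.range : Subgroup G) = (N.comap f).map f := by
      rw [Subgroup.map_comap_eq, inf_comm]
    rw [e, card_map_of_injective hi, ← normD_card, ← Nat.card_eq_fintype_card]
    exact Nat.card_congr (Equiv.subtypeEquivRight fun q => hn1 q)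
  set N1 := (N ⊓ f.range : Subgroup G) with hN1
  have hidx : (N1.subgroupOf N).index = 2 := by
    have := (N1.subgroupOf N).card_mul_index
    rw [Nat.card_congr (subgroupOfEquivOfLe inf_le_left).toEquiv, hN1card, hN] at this
    omega
  haveI := normal_of_index_eq_two hidx
  obtain ⟨γ, hγN, hγ⟩ : ∃ γ ∈ N, γ ∉ f.range := by
    by_contra hc
    push Not at hc
    have := card_le_of_le (show N ≤ N1 from le_inf le_rfl hc)
    rw [hN1card, hN] at this
    omega
  -- the image of `z`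
  have hDmem : ∀ x ∈ D, γ * x * γ⁻¹ ∈ D := fun x hx => (mem_normalizer_iff.1 hγN x).1 hx
  obtain ⟨t, ht, htz, htw⟩ := t_exists
  obtain ⟨hu, -, -⟩ : γ⁻¹ * f t * γ ∈ N1 ∧ γ * f t * γ⁻¹ ∈ N1 ∧ True := by
    have htN : (⟨f t, (hn1 t).2 ht⟩ : N) ∈ N1.subgroupOf N :=
      mem_subgroupOf.2 ⟨(hn1 t).2 ht, t, rfl⟩
    refine ⟨?_, mem_subgroupOf.1 (Normal.conj_mem inferInstance _ htN ⟨γ, hγN⟩), trivial⟩
    simpa using mem_subgroupOf.1 (Normal.conj_mem inferInstance _ htN ⟨γ, hγN⟩⁻¹)
  have hzk : ∀ x ∈ f.range, x * f eZ * x⁻¹ = f eZ ∨ x * f eZ * x⁻¹ = (f eZ)⁻¹ := by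
    rintro _ ⟨q, rfl⟩
    rcases z_normal q with e | e
    · exact Or.inl (by rw [← map_inv, ← map_mul, ← map_mul, e])
    · exact Or.inr (by rw [← map_inv, ← map_mul, ← map_mul, e, map_inv])
  -- `t` fixes the line of `γ z γ⁻¹`
  obtain ⟨a, ha, hγz⟩ := hDmem (f eZ) ⟨eZ, inD_one.2.1, rfl⟩
  have hline : t * a * t⁻¹ = a ∨ t * a * t⁻¹ = a⁻¹ := by
    have e1 : f t * (γ * f eZ * γ⁻¹) * (f t)⁻¹ =
        γ * ((γ⁻¹ * f t * γ) * f eZ * (γ⁻¹ * f t * γ)⁻¹) * γ⁻¹ := by group
    rw [← hγz, ← map_inv, ← map_mul, ← map_mul] at e1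
    rcases hzk _ hu.2 with e | e
    · rw [e, ← hγz] at e1
      exact Or.inl (hi e1)
    · rw [e] at e1
      refine Or.inr (hi ?_)
      rw [e1, map_inv, hγz]
      group
  have ha1 : a ≠ 1 := fun h => by
    rw [h, map_one, eq_comm, conj_eq_one_iff] at hγz
    exact z_facts.2.2.1 (hi (hγz.trans (map_one f).symm))
  have hak : a = eW ∨ a = eW⁻¹ := by
    have key : ∀ t a : E, inD a = true → normD t = true → t * eZ = eZ * t → t * eW = eW⁻¹ * t →
        (t * a * t⁻¹ = a ∨ t * a * t⁻¹ = a⁻¹) → a = 1 ∨ a = eZ ∨ a = eZ⁻¹ ∨ a = eW ∨ a = eW⁻¹ := by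
      intro t a ha _ htz htw h
      obtain ⟨i, j, rfl⟩ := inD_spec a ha
      have key' : ∀ i j : Fin 3, (eZ ^ (i : ℕ) * eW⁻¹ ^ (j : ℕ) = eZ ^ (i : ℕ) * eW ^ (j : ℕ) ∨
          eZ ^ (i : ℕ) * eW⁻¹ ^ (j : ℕ) = (eZ ^ (i : ℕ) * eW ^ (j : ℕ))⁻¹) →
          eZ ^ (i : ℕ) * eW ^ (j : ℕ) = 1 ∨ eZ ^ (i : ℕ) * eW ^ (j : ℕ) = eZ ∨
          eZ ^ (i : ℕ) * eW ^ (j : ℕ) = eZ⁻¹ ∨ eZ ^ (i : ℕ) * eW ^ (j : ℕ) = eW ∨
          eZ ^ (i : ℕ) * eW ^ (j : ℕ) = eW⁻¹ := by decide +kernel
      refine key' i j ?_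
      rwa [← conj_mul, ← conj_pow, ← conj_pow, htz, mul_inv_cancel_right, htw,
        mul_inv_cancel_right] at h
    rcases key t a ha ht htz htw hline with h | h | h | h | h
    · exact absurd h ha1
    · exfalso
      refine hγ (hr.symm ▸ mem_normalizer_iff_map_conj_eq.2 ?_)
      rw [MonoidHom.map_zpowers]
      show zpowers (γ * f eZ * γ⁻¹) = _
      rw [← hγz, h]
    · exfalso
      refine hγ (hr.symm ▸ mem_normalizer_iff_map_conj_eq.2 ?_)
      rw [MonoidHom.map_zpowers]
      show zpowers (γ * f eZ * γ⁻¹) = _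
      rw [← hγz, h, map_inv, zpowers_inv]
    · exact Or.inl h
    · exact Or.inr h
  -- the image of `w`
  have hγγ : γ * γ ∈ f.range := by
    have := mul_self_mem_of_index_two hidx (⟨γ, hγN⟩ : N)
    exact (mem_subgroupOf.1 this).2
  obtain ⟨s, hs⟩ : ∃ s : Bool, γ * f eZ * γ⁻¹ = f (cond s eW eW⁻¹) := by
    rcases hak with h | h
    · exact ⟨true, by rw [← hγz, h]; rfl⟩
    · exact ⟨false, by rw [← hγz, h]; rfl⟩
  obtain ⟨r, hr'⟩ : ∃ r : Bool, γ * f eW * γ⁻¹ = f (cond r eZ eZ⁻¹) := by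
    have e : γ * f (cond s eW eW⁻¹) * γ⁻¹ = (γ * γ) * f eZ * (γ * γ)⁻¹ := by rw [← hs]; group
    cases s
    · rw [cond_false, map_inv, ← conj_inv, inv_eq_iff_eq_inv] at e
      rcases hzk _ hγγ with h | h <;> rw [h] at e
      · exact ⟨false, by rw [e, cond_false, map_inv]⟩
      · exact ⟨true, by rw [e, inv_inv, cond_true]⟩
    · rw [cond_true] at e
      rcases hzk _ hγγ with h | h <;> rw [h] at e
      · exact ⟨true, e⟩
      · exact ⟨false, by rw [e, cond_false, map_inv]⟩
  obtain ⟨p, hp1, hp2⟩ := relabel_swap s r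
  let g0 : E →* G := (MulAut.conj γ).toMonoidHom.comp (f.comp (relabel p))
  have g0z : g0 eZ = f eW := by
    show γ * f (relabel p eZ) * γ⁻¹ = f eW
    rw [hp1]
    cases s
    · rw [cond_false] at hs ⊢
      rw [map_inv, ← conj_inv, hs, map_inv, inv_inv]
    · exact hs
  have g0w : g0 eW = f eZ := by
    show γ * f (relabel p eW) * γ⁻¹ = f eZ
    rw [hp2]
    cases r
    · rw [cond_false] at hr' ⊢
      rw [map_inv, ← conj_inv, hr', map_inv, inv_inv]
    · exact hr'
  have hg0r : g0.range = normalizer ((zpowers (f eW) : Subgroup G) : Set G) := by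
    rw [MonoidHom.range_comp, range_comp_relabel, hr, map_equiv_normalizer_eq]
    show normalizer (((zpowers (f eZ)).map (MulAut.conj γ).toMonoidHom : Subgroup G) : Set G) = _
    rw [MonoidHom.map_zpowers]
    show normalizer ((zpowers (γ * f eZ * γ⁻¹) : Subgroup G) : Set G) = _
    rw [hs]
    cases s
    · rw [cond_false, map_inv, zpowers_inv]
    · rfl
  have hS : f eS ∈ g0.range := by
    rw [hg0r]
    refine centralizer_le_normalizer _ (mem_centralizer_iff.2 fun x hx => ?_)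
    obtain ⟨n, rfl⟩ := mem_zpowers_iff.1 hx
    have hc : Commute (f eW) (f eS) := by
      show _ = _
      rw [← map_mul, ← map_mul, eS_facts.2.2]
    exact (hc.zpow_left n).eq
  obtain ⟨q, hq⟩ := hS
  have hg0i : Function.Injective g0 :=
    ((MulAut.conj γ).injective.comp hi).comp (relabel_injective p)
  obtain ⟨p', hpz, hpw, hpb⟩ := sigma_cases q
    (hg0i (by rw [map_pow, hq, ← map_pow, eS_facts.1, map_one, map_one]))
    (hg0i (by rw [map_mul, map_mul, g0z, hq, ← map_mul, ← map_mul, eS_facts.2.2]))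
    (hg0i (by rw [map_mul, map_mul, map_inv, g0w, hq, ← map_inv, ← map_mul, ← map_mul, eS_facts.2.1]))
  refine ⟨{ f := f, g := g0.comp (relabel p'), γ := γ, p := p * p'
            f_inj := hi, f_range := hr
            g_range := ?_
            g_eq := fun x => ?_
            link_z := by rw [MonoidHom.comp_apply, hpz, g0z]
            link_w := by rw [MonoidHom.comp_apply, hpw, g0w]
            link_b := by rw [MonoidHom.comp_apply, hpb, hq] }, rfl⟩
  · rw [range_comp_relabel, MonoidHom.comp_apply, hpz, g0z, hg0r]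
  · show γ * f (relabel p (relabel p' x)) * γ⁻¹ = _
    rw [show relabel p (relabel p' x) = relabel (p * p') x from Subtype.ext (by simp [relabel_apply, mul_assoc])]

end CfsgLib.Spor.AltEightLocal
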