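import Cfsg.Agent.Lib.Spor.AltEightLocal.Local

/-!
# Classes of involutions and the Sylow two-subgroup
-/

set_option autoImplicit false
set_option linter.style.haveILetI false
set_option linter.unusedSectionVars false
set_option synthInstance.maxSize 4000
set_option synthInstance.maxHeartbeats 80000

namespace CfsgLib.Spor.AltEightLocal

open Subgroup

attribute [local instance 5000] List.decidableBAll List.decidableBEx

/-- the subgroup with a given list of elements -/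
def listSubgroup {L : Type*} [Group L] [Finite L] (l : List L) (h1 : (1 : L) ∈ l)
    (hmul : ∀ a ∈ l, ∀ b ∈ l, a * b ∈ l) : Subgroup L where
  carrier := {a | a ∈ l}
  one_mem' := h1
  mul_mem' {a b} ha hb := hmul a ha b hb
  inv_mem' {a} ha := by
    have h : ∀ n : ℕ, a ^ n ∈ l := fun n => by
      induction n with
      | zero => rwa [pow_zero]
      | succ n ih => rw [pow_succ]; exact hmul _ ih a ha
    have hp := pow_orderOf_eq_one a
    obtain ⟨k, hk⟩ : ∃ k, orderOf a = k + 1 := ⟨orderOf a - 1, by have := orderOf_pos a; omega⟩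
    rw [hk, pow_succ] at hp
    show a⁻¹ ∈ l
    rw [← eq_inv_of_mul_eq_one_left hp]
    exact h k

theorem mem_listSubgroup {L : Type*} [Group L] [Finite L] {l : List L} {h1 hmul} {a : L} :
    a ∈ listSubgroup l h1 hmul ↔ a ∈ l := Iff.rfl

theorem card_listSubgroup {L : Type*} [Group L] [Finite L] [DecidableEq L] {l : List L} {h1 hmul} :
    Nat.card (listSubgroup l h1 hmul) = l.toFinset.card := by
  refine Eq.trans ?_ (Nat.card_eq_finsetCard l.toFinset)
  exact Nat.card_congr (Equiv.subtypeEquivRight fun a => by simp [mem_listSubgroup])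

theorem one_mem_lists : (1 : A8) ∈ S8 ∧ (1 : A8) ∈ T8 ∧ (1 : A8) ∈ R8 := by decide +kernel

/-- the Sylow subgroup of the model -/
def S8sub : Subgroup A8 := listSubgroup S8 one_mem_lists.1 S8_mul

theorem card_A8 : Nat.card A8 = 20160 := by
  rw [nat_card_alternatingGroup, Nat.card_fin]
  norm_num [Nat.factorial]

theorem six_conj (p x : A8) : six (p * x * p⁻¹) = six x := by
  have h : (Finset.univ.filter fun k => (p * x * p⁻¹).1 k ≠ k) =
      (Finset.univ.filter fun k => x.1 k ≠ k).map p.1.toEmbedding := by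
    ext k
    simp only [Finset.mem_filter, Finset.mem_univ, true_and, Finset.mem_map, Equiv.coe_toEmbedding]
    constructor
    · intro hk
      refine ⟨p.1⁻¹ k, fun e => hk ?_, by simp⟩
      show p.1 (x.1 (p.1⁻¹ k)) = k
      rw [e]
      simp
    · rintro ⟨a, ha, rfl⟩ e
      refine ha ?_
      simpa [Subgroup.coe_mul, Equiv.Perm.mul_apply] using e
  rw [six, six, h, Finset.card_map]

theorem class_facts : six i8 = true ∧ six j8 = false ∧ i8 ∈ R8 ∧ j8 ∈ R8 ∧ v8 ∈ R8 ∧ i8 ≠ 1 ∧ j8 ≠ 1 ∧ b8 ∈ B8 ∧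
    six v8 = true ∧ six (v8 * i8) = true ∧ z8 ∈ W8.map (fun _ => z8) := by decide +kernel

variable {G : Type*} [Group G] [Finite G]

namespace Emb

variable {F : Frame G} (M : Emb F)
include M

theorem isConj_of_A8 {a b : A8} (p : A8) (h : p * a * p⁻¹ = b) : IsConj (M.φ a) (M.φ b) :=
  isConj_iff.2 ⟨M.φ p, by rw [← map_inv, ← map_mul, ← map_mul, h]⟩

theorem not_conj_j (H : Hyp F) : ¬ IsConj (M.φ i8) (M.φ j8) := by
  obtain ⟨-, -, -, -, hp, hs, -⟩ := elt_facts
  intro h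
  have h2 : IsConj (F.f eI) (M.φ s8) := M.vals.2.2.1 ▸ h.trans (M.isConj_of_A8 p8 hp)
  refine H.not_isConj_mixed (q := eZ * eW) small_facts.2.2.2.2.2.2.2.2.2.2.2.2.2
    small_facts.2.2.2.2.2.2.2.2.2.2.2.1 small_facts.2.2.2.2.2.2.2.2.2.2.2.2.1 ?_ h2
  rw [map_mul, ← M.vals.1, ← M.vals.2.1, ← map_mul, ← map_mul, hs, map_mul]

theorem six_iff (H : Hyp F) {x : A8} (hx : x ∈ R8) (hx1 : x ≠ 1) :
    six x = true ↔ IsConj (M.φ i8) (M.φ x) := by
  rcases R8_classes x hx hx1 with ⟨h, p, -, hp⟩ | ⟨h, p, -, hp⟩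
  · exact ⟨fun _ => (M.isConj_of_A8 p hp).symm, fun _ => h⟩
  · refine ⟨fun h' => ?_, fun h' => (M.not_conj_j H (h'.trans (M.isConj_of_A8 p hp))).elim⟩
    rw [h] at h'
    exact Bool.noConfusion h'

theorem six_iff_S (H : Hyp F) {x : A8} (hx : x ∈ S8) (hx2 : x * x = 1) (hx1 : x ≠ 1) :
    six x = true ↔ IsConj (M.φ i8) (M.φ x) := by
  obtain ⟨p, -, hp | hp⟩ := S8_involutions x hx hx2 hx1
  · refine ⟨fun _ => (M.isConj_of_A8 p hp).symm, fun _ => ?_⟩
    rw [← six_conj p x, hp]; exact class_facts.1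
  · refine ⟨fun h' => ?_, fun h' => (M.not_conj_j H (h'.trans (M.isConj_of_A8 p hp))).elim⟩
    rw [← six_conj p x, hp, class_facts.2.1] at h'
    exact Bool.noConfusion h'

/-- Normalizing the elementary group of order sixteen keeps us inside. -/
theorem normalizer_R (H : Hyp F) {g : G} (hg : ∀ r ∈ R8, ∃ r' ∈ R8, g * M.φ r * g⁻¹ = M.φ r') :
    g ∈ M.φ.range := by
  obtain ⟨hR, -, hVR, hBR, -⟩ := R8_closed
  obtain ⟨hsix, hsix', hiR, -, hvR, -, -, -, hsv, hsvi, -⟩ := class_facts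
  have himg : ∀ r ∈ R8, six r = true → ∃ r' ∈ R8, six r' = true ∧ g * M.φ r * g⁻¹ = M.φ r' := by
    intro r hr hs
    have hr1 : r ≠ 1 := fun e => by
      rw [e] at hs
      exact absurd hs (by decide +kernel)
    obtain ⟨r', hr', e⟩ := hg r hr
    refine ⟨r', hr', (M.six_iff H hr' ?_).2 (((M.six_iff H hr hr1).1 hs).trans (isConj_iff.2 ⟨g, e⟩)), e⟩
    intro e1
    rw [e1, map_one, conj_eq_one_iff, ← map_one M.φ] at e
    exact hr1 (M.inj e)
  obtain ⟨a, haR, has, ha⟩ := himg i8 hiR hsix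
  obtain ⟨b, hbR, hbs, hb⟩ := himg v8 hvR hsv
  obtain ⟨c, hcR, hcs, hc⟩ := himg (v8 * i8) (hR _ hvR _ hiR).1 hsvi
  have hab : c = b * a := M.inj (by rw [map_mul, ← ha, ← hb, ← hc, map_mul]; group)
  have htri : a ∈ V8 ↔ b ∈ V8 := R8_triangles.2 a haR has b hbR hbs (by
    rw [← (hR b hbR a haR).2.1, ← hab]; exact hcs)
  -- move the image to the four-group
  obtain ⟨p, hpa, hpb⟩ : ∃ p : A8, p * a * p⁻¹ ∈ V8 ∧ p * b * p⁻¹ ∈ V8 := by
    by_cases h : a ∈ V8
    · exact ⟨1, by simpa using h, by simpa using htri.1 h⟩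
    · obtain ⟨p, -, hp⟩ := V8_swap
      exact ⟨p, hp a ((R8_triangles.1 a haR has).resolve_left h),
        hp b ((R8_triangles.1 b hbR hbs).resolve_left fun h' => h (htri.2 h'))⟩
  set y := M.φ p * g with hy
  have hyV : ∀ u ∈ V8, ∃ u' ∈ V8, y * M.φ u * y⁻¹ = M.φ u' := by
    have h1 : y * M.φ i8 * y⁻¹ = M.φ (p * a * p⁻¹) := by
      rw [map_mul, map_mul, map_inv, ← ha, hy]; group
    have h2 : y * M.φ v8 * y⁻¹ = M.φ (p * b * p⁻¹) := by
      rw [map_mul, map_mul, map_inv, ← hb, hy]; group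
    intro u hu
    have key : ∀ u ∈ V8, u = 1 ∨ u = i8 ∨ u = v8 ∨ u = i8 * v8 := by decide +kernel
    have hmul : ∀ u ∈ V8, ∀ w ∈ V8, u * w ∈ V8 := by decide +kernel
    rcases key u hu with rfl | rfl | rfl | rfl
    · exact ⟨1, by decide +kernel, by rw [map_one, mul_one, mul_inv_cancel]⟩
    · exact ⟨_, hpa, h1⟩
    · exact ⟨_, hpb, h2⟩
    · exact ⟨_, hmul _ hpa _ hpb, by rw [map_mul M.φ i8, ← conj_mul, h1, h2, ← map_mul]⟩
  -- hence it normalizes the centralizer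
  have hyCV : ∀ x ∈ F.CV, y⁻¹ * x * y ∈ F.CV := fun x hx => M.cent_V8 fun u hu => by
    obtain ⟨u', hu', e⟩ := hyV u hu
    obtain ⟨q, hq, rfl⟩ := iota_vals.2.2.2.2.2.2.2.2.2.2.2 u' hu'
    have hx' := F.mem_CV.1 hx q hq
    rw [← M.comp] at hx'
    rw [show M.φ u = y⁻¹ * M.φ (iota q) * y by rw [← e]; group]
    calc y⁻¹ * M.φ (iota q) * y * (y⁻¹ * x * y) = y⁻¹ * (M.φ (iota q) * x) * y := by group
      _ = y⁻¹ * (x * M.φ (iota q)) * y := by rw [hx']
      _ = _ := by group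
  set z := F.f eZ
  have hz3 : z ^ 3 = 1 := by rw [← map_pow, z_facts.1, map_one]
  have hz1 : z ≠ 1 := fun e => z_facts.2.2.1 (F.f_inj (e.trans (map_one F.f).symm))
  haveI : Fact (Nat.Prime 3) := ⟨Nat.prime_three⟩
  have hsyl : ∀ {x : G} (hx : x ∈ F.CV), x ^ 3 = 1 → x ≠ 1 →
      ∃ P : Sylow 3 F.CV, (P : Subgroup F.CV) = zpowers ⟨x, hx⟩ := by
    intro x hx h3 h1
    have hc : Nat.card (zpowers (⟨x, hx⟩ : F.CV)) = 3 := by
      rw [Nat.card_zpowers, Subgroup.orderOf_mk, orderOf_eq_prime h3 h1]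
    refine ⟨(IsPGroup.of_card (n := 1) (by rw [hc, pow_one]) : IsPGroup 3 (zpowers (⟨x, hx⟩ : F.CV))).toSylow
      (fun h => H.not_nine_dvd ?_), rfl⟩
    have := (zpowers (⟨x, hx⟩ : F.CV)).card_mul_index
    rw [hc] at this
    rw [← this]
    exact Nat.mul_dvd_mul_left 3 h
  have hzC := F.z_mem_CV
  have hz'C := hyCV z hzC
  have hz'3 : (y⁻¹ * z * y) ^ 3 = 1 := by
    calc (y⁻¹ * z * y) ^ 3 = y⁻¹ * z ^ 3 * y := by simp only [pow_succ, pow_zero, one_mul]; group
      _ = 1 := by rw [hz3, mul_one, inv_mul_cancel]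
  have hz'1 : y⁻¹ * z * y ≠ 1 := fun e => hz1 (by
    calc z = y * (y⁻¹ * z * y) * y⁻¹ := by group
      _ = 1 := by rw [e, mul_one, mul_inv_cancel])
  obtain ⟨P, hP⟩ := hsyl hz'C hz'3 hz'1
  obtain ⟨Q, hQ⟩ := hsyl hzC hz3 hz1
  obtain ⟨c, hc⟩ := MulAction.exists_smul_eq F.CV P Q
  have hm : c * ⟨_, hz'C⟩ * c⁻¹ ∈ zpowers (⟨z, hzC⟩ : F.CV) := by
    rw [← hQ, ← hc, Sylow.coe_subgroup_smul, hP]
    exact ⟨_, mem_zpowers _, rfl⟩
  have hm' : (c : G) * (y⁻¹ * z * y) * (c : G)⁻¹ ∈ zpowers z := by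
    obtain ⟨n, hn⟩ := mem_zpowers_iff.1 hm
    exact mem_zpowers_iff.2 ⟨n, by
      have := congrArg Subtype.val hn
      simpa using this⟩
  have hN : (c : G) * y⁻¹ ∈ normalizer ((zpowers (M.φ z8) : Subgroup G) : Set G) := by
    rw [M.vals.1, mem_normalizer_iff_map_conj_eq]
    refine eq_of_le_of_card_ge ?_ (card_map_of_injective (MulAut.conj _).injective).ge
    rintro _ ⟨x, hx, rfl⟩
    obtain ⟨n, rfl⟩ := mem_zpowers_iff.1 hx
    show (c : G) * y⁻¹ * z ^ n * ((c : G) * y⁻¹)⁻¹ ∈ zpowers z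
    rw [← conj_zpow]
    refine zpow_mem ?_ n
    rwa [show (c : G) * y⁻¹ * z * ((c : G) * y⁻¹)⁻¹ = (c : G) * (y⁻¹ * z * y) * (c : G)⁻¹ by group]
  have hyr : y ∈ M.φ.range := by
    have := mul_mem (inv_mem (M.normalizer_z hN)) (M.CV_le c.2)
    rwa [mul_inv_rev, inv_inv, inv_mul_cancel_right] at this
  have := mul_mem (inv_mem (show M.φ p ∈ M.φ.range from ⟨p, rfl⟩)) hyr
  rwa [hy, inv_mul_cancel_left] at this

/-- The image of the Sylow subgroup has normalizer inside. -/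
theorem normalizer_S (H : Hyp F) {g : G}
    (hg : ∀ s ∈ S8, ∃ s' ∈ S8, g * M.φ s * g⁻¹ = M.φ s') : g ∈ M.φ.range := by
  obtain ⟨hR, hR16, -, -, hRS⟩ := R8_closed
  refine M.normalizer_R H fun r hr => ?_
  choose! f hf hfe using fun r (hr : r ∈ R8) => hg r (hRS r hr)
  refine ⟨f r, ?_, hfe r hr⟩
  have hinj : ∀ a ∈ R8, ∀ b ∈ R8, f a = f b → a = b := fun a ha b hb e => M.inj (by
    have := (hfe a ha).trans ((congrArg M.φ e).trans (hfe b hb).symm)
    exact mul_left_cancel (mul_right_cancel this))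
  have hmul : ∀ a ∈ R8, ∀ b ∈ R8, f a * f b = f b * f a ∧ f a * f a = 1 := fun a ha b hb => by
    refine ⟨M.inj ?_, M.inj ?_⟩
    · rw [map_mul, map_mul, ← hfe a ha, ← hfe b hb, conj_mul, conj_mul, ← map_mul, ← map_mul, (hR a ha b hb).2.1]
    · rw [map_mul, ← hfe a ha, conj_mul, ← map_mul, (hR a ha b hb).2.2, map_one, mul_one, mul_inv_cancel]
  rcases S8_elementary (f r) (hf r hr) with h | h | h
  · exact h
  · exact absurd (hmul r hr r hr).2 h
  · exfalso
    have hle : R8.toFinset.card ≤ (S8.filter fun x => x * x == 1 && x * f r == f r * x).toFinset.card := by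
      refine Finset.card_le_card_of_injOn f (fun a ha => ?_) (fun a ha b hb e => hinj a (by simpa using ha) b (by simpa using hb) e)
      have ha' : a ∈ R8 := by simpa using ha
      simp only [List.coe_toFinset, Set.mem_setOf_eq, List.mem_filter, Bool.and_eq_true, beq_iff_eq]
      exact ⟨hf a ha', (hmul a ha' a ha').2, (hmul a ha' r hr).1⟩
    omega

/-- the image of the Sylow subgroup -/
def SG : Subgroup G := S8sub.map M.φ

theorem card_SG : Nat.card M.SG = 64 := by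
  rw [SG, card_map_of_injective M.inj, S8sub, card_listSubgroup, S8_card]

theorem not_128 (H : Hyp F) : ¬ 128 ∣ Nat.card G := by
  intro h
  haveI : Fact (Nat.Prime 2) := ⟨Nat.prime_two⟩
  obtain ⟨K, hK, hle⟩ := Sylow.exists_subgroup_card_pow_succ (n := 6) (p := 2) (G := G)
    (by simpa using h) (H := M.SG) (by rw [M.card_SG]; norm_num)
  have hidx : (M.SG.subgroupOf K).index = 2 := by
    have := (M.SG.subgroupOf K).card_mul_index
    rw [Nat.card_congr (subgroupOfEquivOfLe hle).toEquiv, M.card_SG, hK] at this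
    omega
  haveI := normal_of_index_eq_two hidx
  have hKr : K ≤ M.φ.range := fun g hg => M.normalizer_S H fun s hs => by
    have hm := Normal.conj_mem (inferInstance : (M.SG.subgroupOf K).Normal) ⟨M.φ s, hle ⟨s, hs, rfl⟩⟩
      (mem_subgroupOf.2 ⟨s, hs, rfl⟩) ⟨g, hg⟩
    obtain ⟨s', hs', e⟩ := mem_subgroupOf.1 hm
    exact ⟨s', hs', e.symm⟩
  have hd := Subgroup.card_dvd_of_le hKr
  rw [hK, ← Nat.card_congr (MonoidHom.ofInjective M.inj).toEquiv, card_A8] at hd
  norm_num at hd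

/-- A subgroup containing a group of order `n` inside the image, and no bigger, lies in the image. -/
theorem le_range_of_card (K : Subgroup G) (n : ℕ) (hn : Nat.card K ≤ n) (hd : n ∣ Nat.card (K ⊓ M.φ.range : Subgroup G)) :
    K ≤ M.φ.range := by
  have h := Nat.le_of_dvd Nat.card_pos hd
  exact (eq_of_le_of_card_ge inf_le_left (hn.trans h)) ▸ inf_le_right

end Emb

end CfsgLib.Spor.AltEightLocal
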