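import Cfsg.Agent.Lib.Spor.AltEightLocal.Eight
import Mathlib.GroupTheory.Perm.Closure

/-!
# Local subgroups inside the embedded alternating group
-/

set_option autoImplicit false
set_option linter.style.haveILetI false
set_option linter.unusedSectionVars false
set_option synthInstance.maxSize 4000
set_option synthInstance.maxHeartbeats 80000

namespace CfsgLib.Spor.AltEightLocal

open Subgroup CfsgLib.Char.AltPres

attribute [local instance 5000] List.decidableBAll List.decidableBEx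

/-- the coordinates as a permutation of eight points -/
def permF : P3 × P5 →* Equiv.Perm (Fin 8) :=
  (finSumFinEquiv (m := 3) (n := 5)).permCongrHom.toMonoidHom.comp (Equiv.Perm.sumCongrHom (Fin 3) (Fin 5))

theorem sign_permF (q : P3 × P5) : Equiv.Perm.sign (permF q) = par q := by
  show Equiv.Perm.sign ((finSumFinEquiv).permCongr (Equiv.Perm.sumCongr q.1 q.2)) = _
  rw [Equiv.Perm.sign_permCongr, Equiv.Perm.sign_sumCongr]
  rfl

theorem permF_mem (q : E) : permF q.1 ∈ alternatingGroup (Fin 8) :=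
  Equiv.Perm.mem_alternatingGroup.2 ((sign_permF q.1).trans (MonoidHom.mem_ker.1 q.2))

/-- the embedding of the model -/
def iota : E →* A8 where
  toFun q := ⟨permF q.1, permF_mem q⟩
  map_one' := Subtype.ext (map_one permF)
  map_mul' a b := Subtype.ext (map_mul permF a.1 b.1)

theorem iota_injective : Function.Injective iota := fun a b h => by
  have h1 := (finSumFinEquiv (m := 3) (n := 5)).permCongrHom.injective (congrArg Subtype.val h)
  exact Subtype.ext (Equiv.Perm.sumCongrHom_injective h1)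

theorem iota_vals : iota eZ = gen8 0 ∧ iota eS = gen8 2 ∧ iota e3 = gen8 3 ∧ iota e4 = gen8 4 ∧
    iota e5 = gen8 5 ∧ iota eZ = z8 ∧ iota eW = w8 ∧ iota eI = i8 ∧ iota eV = v8 ∧ iota eT = t8 ∧
    (∀ a : E, inV 0 a = true → iota a ∈ V8) ∧ (∀ a ∈ V8, ∃ e : E, inV 0 e = true ∧ iota e = a) := by decide +kernel

theorem E_fst : ∀ a : P3, Equiv.Perm.sign a = 1 → ∃ i : Fin 3, a = a012 ^ (i : ℕ) := by decide +kernel

/-- the generators of the model -/
theorem E_generated (K : Subgroup E) (hz : eZ ∈ K) (h2 : eS ∈ K) (h3 : e3 ∈ K) (h4 : e4 ∈ K) (h5 : e5 ∈ K) :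
    K = ⊤ := by
  refine eq_top_iff.2 fun q _ => ?_
  set π : E →* P5 := (MonoidHom.snd P3 P5).comp par.ker.subtype
  have hsurj : ∀ b : P5, b ∈ K.map π := by
    intro b
    have hb : b ∈ Submonoid.closure (Set.range fun i : Fin 4 => Equiv.swap i.castSucc i.succ) := by
      rw [Equiv.Perm.mclosure_swap_castSucc_succ]; trivial
    refine (Submonoid.closure_le (S := (K.map π).toSubmonoid)).2 ?_ hb
    rintro _ ⟨i, rfl⟩
    fin_cases i
    · exact ⟨eS, h2, rfl⟩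
    · exact ⟨e3, h3, rfl⟩
    · exact ⟨e4, h4, rfl⟩
    · exact ⟨e5, h5, rfl⟩
  obtain ⟨k, hk, hkq⟩ := hsurj q.1.2
  have hb : (k⁻¹ * q).1.2 = 1 := by
    show k.1.2⁻¹ * q.1.2 = 1
    rw [show k.1.2 = q.1.2 from hkq, inv_mul_cancel]
  have ha : Equiv.Perm.sign (k⁻¹ * q).1.1 = 1 := by
    have := MonoidHom.mem_ker.1 (k⁻¹ * q).2
    rw [MonoidHom.mul_apply, MonoidHom.comp_apply, MonoidHom.comp_apply] at this
    change Equiv.Perm.sign (k⁻¹ * q).1.1 * Equiv.Perm.sign (k⁻¹ * q).1.2 = 1 at this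
    rwa [hb, map_one, mul_one] at this
  obtain ⟨i, hi⟩ := E_fst _ ha
  have e : k⁻¹ * q = eZ ^ (i : ℕ) := Subtype.ext (Prod.ext (by rw [hi]; rfl) (by
    rw [hb, SubgroupClass.coe_pow, Prod.pow_snd]; exact (one_pow _).symm))
  rw [show q = k * (k⁻¹ * q) by group, e]
  exact mul_mem hk (pow_mem hz _)

variable {G : Type*} [Group G] [Finite G]

/-- an embedded alternating group -/
structure Emb (F : Frame G) where
  /-- the embedding -/
  φ : A8 →* G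
  inj : Function.Injective φ
  comp : ∀ q : E, φ (iota q) = F.f q
  hX : φ (gen8 1) = F.g eX
  rel : ∀ a b : E, inV 0 a = true → inV 1 b = true → F.f a * F.g b = F.g b * F.f a
  cv : ∀ x ∈ F.CV, ∃ (a b : E) (i : Fin 3), inV 0 a = true ∧ inV 1 b = true ∧
    x = F.f a * F.g b * F.f eZ ^ (i : ℕ)

theorem exists_emb (F : Frame G)
    (hrel : ∀ a b : E, inV 0 a = true → inV 1 b = true → F.f a * F.g b = F.g b * F.f a)
    (hcv : ∀ x ∈ F.CV, ∃ (a b : E) (i : Fin 3), inV 0 a = true ∧ inV 1 b = true ∧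
      x = F.f a * F.g b * F.f eZ ^ (i : ℕ)) : Nonempty (Emb F) := by
  obtain ⟨φ, hφ⟩ := exists_hom_of_rel (F.gens_rel hrel)
  obtain ⟨v0, v2, v3, v4, v5, -⟩ := iota_vals
  have hcomp : ∀ q : E, φ (iota q) = F.f q := by
    have h : ∀ q : E, φ (iota q) = F.f q := by
      intro q
      have hK := E_generated (MonoidHom.eqLocus (φ.comp iota) F.f)
        (show φ (iota eZ) = F.f eZ by rw [v0]; exact hφ 0 (by norm_num))
        (show φ (iota eS) = F.f eS by rw [v2]; exact hφ 2 (by norm_num))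
        (show φ (iota e3) = F.f e3 by rw [v3]; exact hφ 3 (by norm_num))
        (show φ (iota e4) = F.f e4 by rw [v4]; exact hφ 4 (by norm_num))
        (show φ (iota e5) = F.f e5 by rw [v5]; exact hφ 5 (by norm_num))
      show q ∈ MonoidHom.eqLocus (φ.comp iota) F.f
      rw [hK]; exact mem_top q
    exact h
  haveI : IsSimpleGroup A8 := alternatingGroup.isSimpleGroup (by simp)
  have hinj : Function.Injective φ := by
    rw [← MonoidHom.ker_eq_bot_iff]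
    refine (IsSimpleGroup.eq_bot_or_eq_top_of_normal φ.ker inferInstance).resolve_right fun h => ?_
    have h1 : φ (iota eZ) = 1 := MonoidHom.mem_ker.1 (h ▸ mem_top _)
    rw [hcomp, ← map_one F.f] at h1
    exact z_facts.2.2.1 (F.f_inj h1)
  exact ⟨⟨φ, hinj, hcomp, hφ 1 (by norm_num), hrel, hcv⟩⟩

namespace Emb

variable {F : Frame G} (M : Emb F)
include M

theorem vals : M.φ z8 = F.f eZ ∧ M.φ w8 = F.f eW ∧ M.φ i8 = F.f eI ∧ M.φ v8 = F.f eV ∧ M.φ t8 = F.f eT := by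
  obtain ⟨-, -, -, -, -, hz, hw, hi, hv, ht, -⟩ := iota_vals
  exact ⟨by rw [← hz, M.comp], by rw [← hw, M.comp], by rw [← hi, M.comp], by rw [← hv, M.comp],
    by rw [← ht, M.comp]⟩

theorem normalizer_z : normalizer ((zpowers (M.φ z8) : Subgroup G) : Set G) ≤ M.φ.range := by
  rw [M.vals.1, ← F.f_range]
  rintro _ ⟨q, rfl⟩
  exact ⟨iota q, M.comp q⟩

theorem normalizer_w : normalizer ((zpowers (M.φ w8) : Subgroup G) : Set G) ≤ M.φ.range := by
  obtain ⟨-, -, -, -, -, -, hs, hs', -⟩ := elt_facts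
  intro x hx
  have hz : (M.φ s8)⁻¹ * x * M.φ s8 ∈ normalizer ((zpowers (M.φ z8) : Subgroup G) : Set G) := by
    rw [mem_normalizer_iff_map_conj_eq, MonoidHom.map_zpowers] at hx ⊢
    have e : M.φ w8 = M.φ s8 * M.φ z8 * (M.φ s8)⁻¹ := by rw [← map_inv, ← map_mul, ← map_mul, hs]
    show zpowers ((M.φ s8)⁻¹ * x * M.φ s8 * M.φ z8 * ((M.φ s8)⁻¹ * x * M.φ s8)⁻¹) = _
    change zpowers (x * M.φ w8 * x⁻¹) = _ at hx
    rw [show (M.φ s8)⁻¹ * x * M.φ s8 * M.φ z8 * ((M.φ s8)⁻¹ * x * M.φ s8)⁻¹ =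
      MulAut.conj (M.φ s8)⁻¹ (x * M.φ w8 * x⁻¹) by rw [e, MulAut.conj_apply]; group]
    show zpowers ((MulAut.conj (M.φ s8)⁻¹).toMonoidHom (x * M.φ w8 * x⁻¹)) = _
    rw [← MonoidHom.map_zpowers, hx, MonoidHom.map_zpowers, e]
    congr 1
    simp [mul_assoc]
  obtain ⟨r, hr⟩ := M.normalizer_z hz
  exact ⟨s8 * r * s8⁻¹, by rw [map_mul, map_mul, map_inv, hr]; group⟩

theorem g_mem (q : E) : F.g q ∈ M.φ.range := by
  refine M.normalizer_w ?_
  rw [M.vals.2.1, ← F.link_z, ← F.g_range]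
  exact ⟨q, rfl⟩

theorem f_mem (q : E) : F.f q ∈ M.φ.range := ⟨iota q, M.comp q⟩

theorem CV_le : F.CV ≤ M.φ.range := by
  intro x hx
  obtain ⟨a, b, i, -, -, rfl⟩ := M.cv x hx
  exact mul_mem (mul_mem (M.f_mem a) (M.g_mem b)) (pow_mem (M.f_mem eZ) _)

theorem cent_V8 {x : G} (hx : ∀ a ∈ V8, M.φ a * x = x * M.φ a) : x ∈ F.CV :=
  F.mem_CV.2 fun v hv => by rw [← M.comp]; exact hx _ (iota_vals.2.2.2.2.2.2.2.2.2.2.1 v hv)

theorem CV_facts {x : G} (hx : x ∈ F.CV) : x ^ 6 = 1 ∧ (x ^ 2 = 1 → ∃ a b : E, inV 0 a = true ∧ inV 1 b = true ∧ x = F.f a * F.g b) := by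
  obtain ⟨a, b, i, ha, hb, rfl⟩ := M.cv x hx
  obtain ⟨h1, -, hmul, hinv, -⟩ := inV_spec 0 (Or.inl rfl)
  obtain ⟨g1, -, gmul, ginv, -⟩ := inV_spec 1 (Or.inr rfl)
  set z := F.f eZ
  have hz3 : z ^ 3 = 1 := by rw [← map_pow, z_facts.1, map_one]
  have hconj : ∀ y, (∃ a b : E, inV 0 a = true ∧ inV 1 b = true ∧ y = F.f a * F.g b) →
      (∃ a b : E, inV 0 a = true ∧ inV 1 b = true ∧ z * y * z⁻¹ = F.f a * F.g b) ∧ y * y = 1 := by
    rintro y ⟨a, b, ha, hb, rfl⟩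
    refine ⟨⟨a, eW * b * eW⁻¹, ha, (ginv b hb).2.2, ?_⟩, ?_⟩
    · rw [map_mul F.g, map_mul F.g, map_inv, F.link_w]
      have hc : z * F.f a = F.f a * z := by rw [← map_mul, ← map_mul, (hinv a ha).2.1]
      calc z * (F.f a * F.g b) * z⁻¹ = (z * F.f a) * F.g b * z⁻¹ := by group
        _ = _ := by rw [hc]; simp only [mul_assoc, z]
    · have hc : Commute (F.f a) (F.g b) := M.rel a b ha hb
      rw [← pow_two, hc.mul_pow, ← map_pow, ← map_pow, pow_two, pow_two]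
      nth_rewrite 1 [← (hinv a ha).1]
      nth_rewrite 2 [← (ginv b hb).1]
      simp
  have hprod : ∀ y y', (∃ a b : E, inV 0 a = true ∧ inV 1 b = true ∧ y = F.f a * F.g b) →
      (∃ a b : E, inV 0 a = true ∧ inV 1 b = true ∧ y' = F.f a * F.g b) →
      ∃ a b : E, inV 0 a = true ∧ inV 1 b = true ∧ y * y' = F.f a * F.g b := by
    rintro _ _ ⟨a, b, ha, hb, rfl⟩ ⟨c, d, hc, hd, rfl⟩
    refine ⟨a * c, b * d, (hmul a ha c hc).1, (gmul b hb d hd).1, ?_⟩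
    rw [map_mul, map_mul, mul_assoc, ← mul_assoc (F.g b), ← M.rel c b hc hb]
    group
  set u := F.f a * F.g b
  have hu : ∃ a b : E, inV 0 a = true ∧ inV 1 b = true ∧ u = F.f a * F.g b := ⟨a, b, ha, hb, rfl⟩
  obtain ⟨hu1, huu⟩ := hconj u hu
  obtain ⟨hu2, -⟩ := hconj _ hu1
  have hcube : ∀ k : ℕ, (∃ c d : E, inV 0 c = true ∧ inV 1 d = true ∧ (u * z ^ k) ^ 3 = F.f c * F.g d) := by
    intro k
    have hzk : ∀ k : ℕ, ∀ y, (∃ a b : E, inV 0 a = true ∧ inV 1 b = true ∧ y = F.f a * F.g b) →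
        ∃ a b : E, inV 0 a = true ∧ inV 1 b = true ∧ z ^ k * y * (z ^ k)⁻¹ = F.f a * F.g b := by
      intro k
      induction k with
      | zero => intro y hy; simpa using hy
      | succ k ih =>
        intro y hy
        have := (hconj _ (ih y hy)).1
        rwa [show z * (z ^ k * y * (z ^ k)⁻¹) * z⁻¹ = z ^ (k + 1) * y * (z ^ (k + 1))⁻¹ by
          rw [pow_succ']; group] at this
    have e : (u * z ^ k) ^ 3 = u * (z ^ k * u * (z ^ k)⁻¹) * (z ^ k * (z ^ k * u * (z ^ k)⁻¹) * (z ^ k)⁻¹) * (z ^ k) ^ 3 := by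
      simp only [pow_succ, pow_zero, one_mul]; group
    rw [e, ← pow_mul, mul_comm k 3, pow_mul, hz3, one_pow, mul_one]
    exact hprod _ _ (hprod _ _ hu (hzk k u hu)) (hzk k _ (hzk k u hu))
  refine ⟨?_, fun h2 => ⟨a, b, ha, hb, ?_⟩⟩
  · obtain ⟨c, d, hc, hd, h3⟩ := hcube i
    rw [show (6 : ℕ) = 3 * 2 by norm_num, pow_mul, h3, pow_two]
    exact (hconj _ ⟨c, d, hc, hd, rfl⟩).2
  · -- an involution has no part of order three
    obtain ⟨c, d, hc, hd, h3⟩ := hcube i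
    rw [pow_succ, h2, one_mul] at h3
    have hz : z ^ (i : ℕ) = u⁻¹ * (F.f c * F.g d) := by rw [← h3, inv_mul_cancel_left]
    obtain ⟨e', f', he', hf', hef⟩ := hprod _ _ (show ∃ a b : E, inV 0 a = true ∧ inV 1 b = true ∧ u⁻¹ = F.f a * F.g b from
      ⟨a, b, ha, hb, inv_eq_of_mul_eq_one_right huu⟩) ⟨c, d, hc, hd, rfl⟩
    have h6 : (z ^ (i : ℕ)) ^ 2 = 1 := by rw [hz, pow_two, hef]; exact (hconj _ ⟨e', f', he', hf', rfl⟩).2
    have h1 : z ^ (i : ℕ) = 1 := by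
      have e3 : (z ^ (i : ℕ)) ^ 3 = 1 := by rw [← pow_mul, mul_comm (i : ℕ) 3, pow_mul, hz3, one_pow]
      rwa [pow_succ, h6, one_mul] at e3
    rw [h1, mul_one]

theorem gB : ∀ a ∈ B8, ∃ b : E, inV 1 b = true ∧ F.g b = M.φ a := by
  obtain ⟨g1, -, gmul, ginv, -⟩ := inV_spec 1 (Or.inr rfl)
  have hX : M.φ b8 = F.g eX := by
    rw [show b8 = gen8 1 by decide +kernel, M.hX]
  have hX1 : inV 1 eX = true := rel_f.2.2.2.2.2.2.2.2.2.2.2.2.2.2.2.2.2
  have hzz : M.φ z8 = F.g eW := by rw [M.vals.1, F.link_w]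
  have key : ∀ a ∈ B8, a = 1 ∨ a = b8 ∨ a = z8 * b8 * z8⁻¹ ∨ a = b8 * (z8 * b8 * z8⁻¹) := by decide +kernel
  intro a ha
  rcases key a ha with rfl | rfl | rfl | rfl
  · exact ⟨1, g1, by rw [map_one, map_one]⟩
  · exact ⟨eX, hX1, hX.symm⟩
  · exact ⟨_, (ginv eX hX1).2.2, by rw [map_mul, map_mul, map_inv, map_mul, map_mul, map_inv, hX, hzz]⟩
  · refine ⟨_, (gmul eX hX1 _ (ginv eX hX1).2.2).1, ?_⟩
    simp only [map_mul, map_inv, hX, hzz]

theorem gB' : ∀ b : E, inV 1 b = true → ∃ a ∈ B8, M.φ a = F.g b := by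
  intro b hb
  by_cases hb1 : b = 1
  · exact ⟨1, by decide +kernel, by rw [hb1, map_one, map_one]⟩
  have hX1 : inV 1 eX = true := rel_f.2.2.2.2.2.2.2.2.2.2.2.2.2.2.2.2.2
  have hX : M.φ b8 = F.g eX := by
    rw [show b8 = gen8 1 by decide +kernel, M.hX]
  have hzz : M.φ z8 = F.g eW := by rw [M.vals.1, F.link_w]
  rcases (inV_spec 1 (Or.inr rfl)).2.2.2.2 eX hX1 (by decide +kernel) b hb hb1 with rfl | rfl | rfl
  · exact ⟨b8, by decide +kernel, hX⟩
  · exact ⟨z8 * b8 * z8⁻¹, by decide +kernel, by rw [map_mul, map_mul, map_inv, hX, hzz]; simp only [map_mul, map_inv]⟩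
  · exact ⟨z8⁻¹ * b8 * z8, by decide +kernel, by rw [map_mul, map_mul, map_inv, hX, hzz]; simp only [map_mul, map_inv]⟩

theorem CV_involution {x : G} (hx : x ∈ F.CV) (h2 : x ^ 2 = 1) : ∃ r ∈ R8, M.φ r = x := by
  obtain ⟨a, b, ha, hb, rfl⟩ := (M.CV_facts hx).2 h2
  obtain ⟨c, hc, hcb⟩ := M.gB' b hb
  obtain ⟨hR, -, hVR, hBR, -⟩ := R8_closed
  refine ⟨iota a * c, (hR _ (hVR _ (iota_vals.2.2.2.2.2.2.2.2.2.2.1 a ha)) _ (hBR c hc)).1, ?_⟩
  rw [map_mul, M.comp, hcb]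

theorem cent_R {x : G} (hx : ∀ r ∈ R8, M.φ r * x = x * M.φ r) : ∃ r ∈ R8, M.φ r = x := by
  obtain ⟨hR, -, hVR, hBR, -⟩ := R8_closed
  have hCV := M.cent_V8 fun a ha => hx a (hVR a ha)
  obtain ⟨a, b, i, ha, hb, e⟩ := M.cv x hCV
  obtain ⟨c, hc, hcb⟩ := M.gB' b hb
  rw [← M.comp, ← hcb, ← M.vals.1, ← map_mul, ← map_pow, ← map_mul] at e
  have hr : iota a * c ∈ R8 := (hR _ (hVR _ (iota_vals.2.2.2.2.2.2.2.2.2.2.1 a ha)) _ (hBR c hc)).1
  have key : ∀ r ∈ R8, ∀ i : Fin 3, (r * z8 ^ (i : ℕ)) * b8 = b8 * (r * z8 ^ (i : ℕ)) →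
      r * z8 ^ (i : ℕ) ∈ R8 := by decide +kernel
  refine ⟨_, key _ hr i (M.inj ?_), e.symm⟩
  rw [map_mul M.φ (iota a * c * z8 ^ (i : ℕ)) b8, map_mul M.φ b8, ← e, hx b8 (hBR b8 (by decide +kernel))]

end Emb

end CfsgLib.Spor.AltEightLocal
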