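import Cfsg.Agent.Lib.Spor.AltEightLocal.CentI
import Cfsg.Agent.Lib.Spor.AltEightLocal.CentJ

/-!
# The group is the alternating group of degree eight
-/

set_option autoImplicit false
set_option linter.style.haveILetI false
set_option linter.unusedSectionVars false
set_option synthInstance.maxSize 4000
set_option synthInstance.maxHeartbeats 80000

namespace CfsgLib.Spor.AltEightLocal

open Subgroup

attribute [local instance 5000] List.decidableBAll List.decidableBEx

/-- Every involution of the model is conjugate to one of two. -/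
theorem A8_involutions {x : A8} (h2 : x * x = 1) (h1 : x ≠ 1) :
    ∃ p : A8, p * x * p⁻¹ = i8 ∨ p * x * p⁻¹ = j8 := by
  haveI : Fact (Nat.Prime 2) := ⟨Nat.prime_two⟩
  have hc : Nat.card S8sub = 64 := by rw [S8sub, card_listSubgroup, S8_card]
  let P : Sylow 2 A8 := (IsPGroup.of_card (n := 6) (by rw [hc]; norm_num) : IsPGroup 2 S8sub).toSylow
    (fun hd => by
      have := S8sub.card_mul_index
      rw [hc, card_A8] at this
      omega)
  have hp : IsPGroup 2 (zpowers x) := IsPGroup.of_card (n := 1) (by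
    rw [Nat.card_zpowers, pow_one]
    exact orderOf_eq_prime (by rw [pow_two]; exact h2) h1)
  obtain ⟨R, hR⟩ := hp.exists_le_sylow
  obtain ⟨g, hg⟩ := MulAction.exists_smul_eq A8 R P
  have hm : g * x * g⁻¹ ∈ ((g • R : Sylow 2 A8) : Subgroup A8) := by
    rw [Sylow.coe_subgroup_smul]; exact ⟨x, hR (mem_zpowers x), rfl⟩
  rw [hg] at hm
  have hS : g * x * g⁻¹ ∈ S8 := hm
  obtain ⟨p, -, hp'⟩ := S8_involutions _ hS
    (by rw [conj_mul, h2, mul_one, mul_inv_cancel]) (fun h => h1 (conj_eq_one_iff.1 h))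
  refine ⟨p * g, ?_⟩
  rw [show p * g * x * (p * g)⁻¹ = p * (g * x * g⁻¹) * p⁻¹ by group]
  exact hp'

variable {G : Type*} [Group G] [Finite G]

/-- Two involutions whose product has odd order are conjugate. -/
theorem conj_of_odd {a b : G} (ha : a * a = 1) (hb : b * b = 1) {k : ℕ} (h : (a * b) ^ (2 * k + 1) = 1) :
    IsConj a b := by
  refine isConj_iff.2 ⟨(a * b) ^ k, ?_⟩
  have ha' : a⁻¹ = a := inv_eq_of_mul_eq_one_right ha
  have hb' : b⁻¹ = b := inv_eq_of_mul_eq_one_right hb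
  have hflip : ∀ n : ℕ, a * ((a * b) ^ n)⁻¹ = (a * b) ^ n * a := fun n => by
    have h1 : a * (a * b)⁻¹ * a⁻¹ = a * b := by rw [mul_inv_rev, hb', ha', mul_assoc, mul_assoc, ha, mul_one]
    calc a * ((a * b) ^ n)⁻¹ = a * ((a * b)⁻¹) ^ n * a⁻¹ * a := by rw [inv_pow, inv_mul_cancel_right]
      _ = (a * b) ^ n * a := by rw [← conj_pow, h1]
  rw [mul_assoc, hflip, ← mul_assoc, ← pow_add]
  have e : (a * b) ^ (k + k) = (a * b)⁻¹ := by
    refine eq_inv_of_mul_eq_one_left ?_
    rw [← pow_succ, ← two_mul, h]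
  rw [e, mul_inv_rev, hb', ha', mul_assoc, ha, mul_one]

namespace Emb

variable {F : Frame G} (M : Emb F)
include M

/-- An involution of the image has its centralizer in the image. -/
theorem cent_involution (H : Hyp F) {x : A8} (h2 : x * x = 1) (h1 : x ≠ 1) :
    centralizer ({M.φ x} : Set G) ≤ M.φ.range := by
  intro g hg
  obtain ⟨p, hp⟩ := A8_involutions h2 h1
  have hm : M.φ p * g * (M.φ p)⁻¹ ∈ centralizer ({M.φ (p * x * p⁻¹)} : Set G) := by
    rw [mem_centralizer_singleton_iff, map_mul, map_mul, map_inv, conj_mul, conj_mul,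
      mem_centralizer_singleton_iff.1 hg]
  have hr : M.φ p * g * (M.φ p)⁻¹ ∈ M.φ.range := by
    rcases hp with e | e
    · rw [e] at hm; exact M.cent_i H hm
    · rw [e] at hm; exact M.cent_j H hm
  have hp' : M.φ p ∈ M.φ.range := ⟨p, rfl⟩
  have := mul_mem (mul_mem (inv_mem hp') hr) hp'
  rwa [show (M.φ p)⁻¹ * (M.φ p * g * (M.φ p)⁻¹) * M.φ p = g by group] at this

theorem surjective (H : Hyp F) : Function.Surjective M.φ := by
  obtain ⟨-, hi2, hj2, -⟩ := elt_facts
  obtain ⟨-, -, -, -, -, hi1, hj1, -⟩ := class_facts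
  intro g
  show g ∈ M.φ.range
  set i := M.φ i8 with hidef
  obtain ⟨u, hudef⟩ : ∃ u, u = g * M.φ j8 * g⁻¹ := ⟨_, rfl⟩
  have hii : i * i = 1 := by rw [hidef, ← map_mul, hi2, map_one]
  have huu : u * u = 1 := by rw [hudef, conj_mul, ← map_mul, hj2, map_one, mul_one, mul_inv_cancel]
  have hni : ¬ IsConj i u := fun h => M.not_conj_j H (h.trans (isConj_iff.2 ⟨g, hudef.symm⟩).symm)
  set d := i * u with hd
  obtain ⟨k, hk⟩ | ⟨k, hk⟩ := Nat.even_or_odd (orderOf d)
  rotate_left
  · exact absurd (conj_of_odd hii huu (k := k) (by rw [← hk, pow_orderOf_eq_one])) hni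
  have hkpos : 0 < k := by have := orderOf_pos d; omega
  set c := d ^ k with hc
  have hc2 : c * c = 1 := by rw [hc, ← pow_add, ← hk, pow_orderOf_eq_one]
  have hc1 : c ≠ 1 := fun h => by
    have := Nat.le_of_dvd hkpos (orderOf_dvd_of_pow_eq_one h)
    omega
  have hcinv : c⁻¹ = c := inv_eq_of_mul_eq_one_right hc2
  have hiinv : i⁻¹ = i := inv_eq_of_mul_eq_one_right hii
  have huinv : u⁻¹ = u := inv_eq_of_mul_eq_one_right huu
  have hcom : ∀ a : G, a * d * a⁻¹ = d⁻¹ → c * a = a * c := fun a ha => by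
    have h : a * c * a⁻¹ = c := by rw [hc, ← conj_pow, ha, inv_pow, ← hc, hcinv]
    exact (mul_inv_eq_iff_eq_mul.1 h).symm
  have hci : c * i = i * c := hcom i (by
    rw [hd, mul_inv_rev, hiinv, huinv, ← mul_assoc, hii, one_mul])
  have hcu : c * u = u * c := hcom u (by
    rw [hd, huinv, mul_inv_rev, hiinv, huinv, mul_assoc, mul_assoc, huu, mul_one])
  obtain ⟨x, hx⟩ := M.cent_i H (mem_centralizer_singleton_iff.2 hci)
  have hx2 : x * x = 1 := M.inj (by rw [map_mul, hx, hc2, map_one])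
  have hx1 : x ≠ 1 := fun h => hc1 (by rw [← hx, h, map_one])
  obtain ⟨y, hy⟩ := M.cent_involution H hx2 hx1 (show u ∈ _ by
    rw [mem_centralizer_singleton_iff, hx]; exact hcu.symm)
  have hy2 : y * y = 1 := M.inj (by rw [map_mul, hy, huu, map_one])
  have hy1 : y ≠ 1 := fun h => hj1 (M.inj (by
    rw [h, map_one, hudef, eq_comm, conj_eq_one_iff] at hy
    rw [hy, map_one]))
  obtain ⟨p, hp | hp⟩ := A8_involutions hy2 hy1
  · exact absurd ((hy ▸ M.isConj_of_A8 p hp : IsConj u (M.φ i8))).symm hni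
  have hm : M.φ p * g ∈ centralizer ({M.φ j8} : Set G) := by
    rw [mem_centralizer_singleton_iff]
    have e : M.φ p * u * (M.φ p)⁻¹ = M.φ j8 := by rw [← hy, ← map_inv, ← map_mul, ← map_mul, hp]
    calc M.φ p * g * M.φ j8 = (M.φ p * u * (M.φ p)⁻¹) * (M.φ p * g) := by rw [hudef]; group
      _ = _ := by rw [e]
  have := mul_mem (inv_mem (show M.φ p ∈ M.φ.range from ⟨p, rfl⟩)) (M.cent_j H hm)
  rwa [inv_mul_cancel_left] at this

end Emb

/-- The group is the alternating group of degree eight. -/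
theorem nonempty_mulEquiv (F : Frame G) (H : Hyp F) : Nonempty (G ≃* alternatingGroup (Fin 8)) := by
  obtain ⟨F', H', hrel, hcv⟩ := exists_adjusted F H
  obtain ⟨M⟩ := exists_emb F' hrel hcv
  exact ⟨(MulEquiv.ofBijective M.φ ⟨M.inj, M.surjective H'⟩).symm⟩

end CfsgLib.Spor.AltEightLocal
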