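import Mathlib

/-!
# The normalizer of a 3-cycle in the alternating group of degree eight, as a model
-/

set_option autoImplicit false
set_option synthInstance.maxSize 4000
set_option synthInstance.maxHeartbeats 80000
set_option linter.style.haveILetI false

namespace CfsgLib.Spor.AltEightLocal

open Equiv

abbrev P3 := Equiv.Perm (Fin 3)
abbrev P5 := Equiv.Perm (Fin 5)

/-- the product of the two signs -/
abbrev par : P3 × P5 →* ℤˣ :=
  ((Equiv.Perm.sign).comp (MonoidHom.fst P3 P5)) * ((Equiv.Perm.sign).comp (MonoidHom.snd P3 P5))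

/-- pairs of permutations of equal sign -/
abbrev E := par.ker

def a012 : P3 := swap 0 1 * swap 1 2
def b234 : P5 := swap 2 3 * swap 3 4

def eZ : E := ⟨(a012, 1), MonoidHom.mem_ker.2 (by decide)⟩
def eW : E := ⟨(1, b234), MonoidHom.mem_ker.2 (by decide)⟩
def eS : E := ⟨(swap 0 1, swap 0 1), MonoidHom.mem_ker.2 (by decide)⟩
def eB : E := ⟨(1, swap 0 1 * swap 2 3), MonoidHom.mem_ker.2 (by decide)⟩
def eI : E := ⟨(1, swap 1 2 * swap 3 4), MonoidHom.mem_ker.2 (by decide)⟩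
def eV : E := ⟨(1, swap 1 3 * swap 2 4), MonoidHom.mem_ker.2 (by decide)⟩
def eT : E := ⟨(swap 0 1, swap 3 4), MonoidHom.mem_ker.2 (by decide)⟩
def eX : E := ⟨(1, swap 2 3 * swap 0 4), MonoidHom.mem_ker.2 (by decide)⟩

/-- relabelling -/
def relabel (p : P3 × P5) : E →* E where
  toFun q := ⟨p * q.1 * p⁻¹, by
    rw [MonoidHom.mem_ker, map_mul, map_mul, MonoidHom.mem_ker.1 q.2, mul_one, map_inv, mul_inv_cancel]⟩
  map_one' := Subtype.ext (by simp)
  map_mul' a b := Subtype.ext (by simp [mul_assoc])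

theorem relabel_apply (p : P3 × P5) (q : E) : (relabel p q).1 = p * q.1 * p⁻¹ := rfl

theorem relabel_surj (p : P3 × P5) (q : E) : relabel p (relabel p⁻¹ q) = q :=
  Subtype.ext (by simp [relabel_apply, mul_assoc])

theorem relabel_injective (p : P3 × P5) : Function.Injective (relabel p) := fun a b h => by
  have := congrArg Subtype.val h
  simpa [relabel_apply] using this

/-- the subgroup `⟨eZ, eW⟩`, as a predicate -/
def inD (q : E) : Bool :=
  ((q.1.1 == 1) || (q.1.1 == a012) || (q.1.1 == a012⁻¹)) &&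
    ((q.1.2 == 1) || (q.1.2 == b234) || (q.1.2 == b234⁻¹))

theorem inD_spec : ∀ q : E, inD q = true → ∃ i j : Fin 3, q = eZ ^ (i : ℕ) * eW ^ (j : ℕ) := by
  decide +kernel

theorem inD_pow : ∀ i j : Fin 3, inD (eZ ^ (i : ℕ) * eW ^ (j : ℕ)) = true := by decide +kernel

theorem card_E : Fintype.card E = 360 := by decide +kernel

theorem z_facts : eZ ^ 3 = 1 ∧ eW ^ 3 = 1 ∧ eZ ≠ 1 ∧ eW ≠ 1 ∧ eZ * eW = eW * eZ ∧
    eS ^ 2 = 1 ∧ eB ^ 2 = 1 ∧ eI ^ 2 = 1 ∧ eV ^ 2 = 1 := by decide +kernel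

/-- a normal subgroup of order three is the first factor -/
theorem normal_three : ∀ q : E, q ^ 3 = 1 → q ≠ 1 →
    (∀ r : E, r * q * r⁻¹ = q ∨ r * q * r⁻¹ = q⁻¹) →
    ∃ p : P3, relabel (p, 1) eZ = q := by decide +kernel

theorem three_commuting : ∀ q : E, q ^ 3 = 1 → q * eZ = eZ * q → q.1.2 ≠ 1 →
    ∃ (p : P5) (k : Fin 3), relabel (1, p) eW = q * eZ ^ (k : ℕ) := by decide +kernel

/-- the normalizer of `⟨eZ, eW⟩` -/
def normD (q : E) : Bool := inD (q * eZ * q⁻¹) && inD (q * eW * q⁻¹)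

theorem normD_card : Fintype.card {q : E // normD q = true} = 36 := by decide +kernel

theorem t_exists : ∃ q : E, normD q = true ∧ q * eZ = eZ * q ∧ q * eW = eW⁻¹ * q := by decide +kernel

theorem cent_eZ : Fintype.card {q : E // q * eZ = eZ * q} = 180 := by decide +kernel

theorem z_normal : ∀ q : E, q * eZ * q⁻¹ = eZ ∨ q * eZ * q⁻¹ = eZ⁻¹ := by decide +kernel

theorem relabel_swap : ∀ s t : Bool, ∃ p : P3 × P5,
    relabel p eZ = cond s eZ eZ⁻¹ ∧ relabel p eW = cond t eW eW⁻¹ := by decide +kernel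

theorem sigma_cases : ∀ q : E, q ^ 2 = 1 → q * eZ = eZ * q → q * eW = eW⁻¹ * q →
    ∃ p : P3 × P5, relabel p eZ = eZ ∧ relabel p eW = eW ∧ relabel p eB = q := by decide +kernel

theorem eS_facts : eS ^ 2 = 1 ∧ eS * eZ = eZ⁻¹ * eS ∧ eS * eW = eW * eS := by decide +kernel

end CfsgLib.Spor.AltEightLocal
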