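import Cfsg.Agent.Lib.Spor.AltEightLocal.Finite
import Cfsg.Agent.Lib.Coprime.Action

/-!
# Subgroups of order prime to three normalized by the subgroup of order nine
-/

set_option autoImplicit false
set_option linter.style.haveILetI false
set_option linter.unusedSectionVars false
set_option synthInstance.maxSize 4000

namespace CfsgLib.Spor.AltEightLocal

open Subgroup

variable {G : Type*} [Group G]

/-- the local hypotheses -/
structure Hyp (F : Frame G) : Prop where
  cent_D : centralizer (F.D : Set G) = F.D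
  index_D : ¬ 3 ∣ F.D.index
  card_ND : Nat.card (normalizer (F.D : Set G)) = 72
  mixed : ∀ q : E, inD q = true → q.1.1 ≠ 1 → q.1.2 ≠ 1 →
    Nat.card (centralizer ({F.f q} : Set G)) = 18 ∧ centralizer ({F.f q} : Set G) ≤ normalizer (F.D : Set G)

/-- one of the two coordinate maps -/
structure Side (h : E →* G) : Prop where
  inj : Function.Injective h
  range : h.range = normalizer ((zpowers (h eZ) : Subgroup G) : Set G)

theorem Side.exists_coord {h : E →* G} (S : Side h) {x : G} (hx : x * h eZ = h eZ * x) :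
    ∃ q : E, h q = x ∧ q * eZ = eZ * q := by
  have hm : x ∈ h.range := S.range ▸ centralizer_le_normalizer _ (mem_centralizer_iff.2 fun y hy => by
    obtain ⟨n, rfl⟩ := mem_zpowers_iff.1 hy
    exact ((show Commute (h eZ) x from hx.symm).zpow_left n).eq)
  obtain ⟨q, rfl⟩ := hm
  exact ⟨q, rfl, S.inj (by rw [map_mul, map_mul, hx])⟩

theorem Frame.side_f (F : Frame G) : Side F.f := ⟨F.f_inj, F.f_range⟩

theorem Frame.side_g (F : Frame G) : Side F.g := ⟨F.g_inj, F.g_range⟩

theorem eq_one_of_order {x : G} {K : Subgroup G} (hK : ¬ 3 ∣ Nat.card K) (hx : x ∈ K) (h3 : x ^ 3 = 1) :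
    x = 1 := by
  refine orderOf_eq_one_iff.1 (Nat.dvd_one.1 ?_)
  have h1 : orderOf x ∣ Nat.gcd 3 (Nat.card K) :=
    Nat.dvd_gcd (orderOf_dvd_of_pow_eq_one h3) (Subgroup.orderOf_dvd_natCard K hx)
  rwa [(Nat.prime_three.coprime_iff_not_dvd).2 hK] at h1

set_option maxRecDepth 4000 in
/-- The part centralizing the first coordinate lies in one of two four-groups. -/
theorem Side.four_part {h : E →* G} (S : Side h) (K : Subgroup G) (hK : ¬ 3 ∣ Nat.card K)
    (hw : h eW ∈ normalizer (K : Set G)) :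
    ∃ k : Fin 5, (k = 0 ∨ k = 1) ∧
      (∀ x ∈ K, x * h eZ = h eZ * x → ∃ q, inV k q = true ∧ h q = x) ∧
      ((∃ x ∈ K, x * h eZ = h eZ * x ∧ x ≠ 1) → ∀ q, inV k q = true → h q ∈ K) := by
  classical
  let B : Subgroup E := K.comap h
  have hBc : ∀ q ∈ B, eW * q * eW⁻¹ ∈ B ∧ eW⁻¹ * q * eW ∈ B := by
    intro q hq
    refine ⟨?_, ?_⟩
    · show h _ ∈ K
      rw [map_mul, map_mul, map_inv]
      exact (mem_normalizer_iff.1 hw _).1 hq
    · show h _ ∈ K
      rw [map_mul, map_mul, map_inv]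
      exact (mem_normalizer_iff''.1 hw _).1 hq
  have hBw : ∀ q ∈ B, ∀ x ∈ words q, x ^ 3 = 1 → x = 1 := by
    intro q hq x hx h3
    obtain ⟨hc, hd⟩ := hBc q hq
    have hi := (hBc q⁻¹ (inv_mem hq)).1
    have hmem : x ∈ B := by
      simp only [words, List.mem_cons, List.not_mem_nil, or_false] at hx
      rcases hx with rfl | rfl | rfl | rfl | rfl | rfl | rfl | rfl | rfl | rfl | rfl | rfl | rfl | rfl
      all_goals first
        | exact hq
        | exact pow_mem hq _
        | exact mul_mem hq hc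
        | exact pow_mem (mul_mem hq hc) _
        | exact mul_mem hq hd
        | exact pow_mem (mul_mem hq hd) _
        | exact mul_mem (mul_mem hq hc) hd
        | exact pow_mem (mul_mem (mul_mem hq hc) hd) _
        | exact mul_mem hq hi
        | exact mul_mem (mul_mem hq hc) (mul_mem hq hd)
    exact S.inj (by rw [map_one]; exact eq_one_of_order hK hmem (by rw [← map_pow, h3, map_one]))
  have hin : ∀ q ∈ B, q * eZ = eZ * q → inV 0 q = true ∨ inV 1 q = true := fun q hq hc => by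
    rcases sig_words q hc with h0 | h1 | ⟨x, hx, h3, h1⟩
    · exact Or.inl h0
    · exact Or.inr h1
    · exact absurd (hBw q hq x hx h3) h1
  obtain ⟨k, hk, hall⟩ : ∃ k : Fin 5, (k = 0 ∨ k = 1) ∧ ∀ q ∈ B, q * eZ = eZ * q → inV k q = true := by
    by_cases h0 : ∀ q ∈ B, q * eZ = eZ * q → inV 0 q = true
    · exact ⟨0, Or.inl rfl, h0⟩
    refine ⟨1, Or.inr rfl, fun r hr hrc => ?_⟩
    push Not at h0
    obtain ⟨q, hq, hqc, hq0⟩ := h0
    rcases hin r hr hrc with h | h
    · by_cases hr1 : r = 1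
      · rw [hr1]; exact (inV_spec 1 (Or.inr rfl)).1
      exfalso
      have hq1 : inV 1 q = true := (hin q hq hqc).resolve_left (by simp [hq0])
      have hqne : q ≠ 1 := fun e => hq0 (by rw [e]; exact (inV_spec 0 (Or.inl rfl)).1)
      obtain ⟨x, hx, h3, hx1⟩ := sig_mix r h hr1 q hq1 hqne
      exact hx1 (hBw _ (mul_mem hr hq) x hx h3)
    · exact h
  refine ⟨k, hk, fun x hx hxc => ?_, fun ⟨x, hx, hxc, hx1⟩ q hq => ?_⟩
  · obtain ⟨q, rfl, hqc⟩ := S.exists_coord hxc
    exact ⟨q, hall q hx hqc, rfl⟩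
  · obtain ⟨a, rfl, hac⟩ := S.exists_coord hxc
    have ha : inV k a = true := hall a hx hac
    have ha1 : a ≠ 1 := fun e => hx1 (by rw [e, map_one])
    by_cases hq1 : q = 1
    · rw [hq1, map_one]; exact one_mem _
    rcases (inV_spec k hk).2.2.2.2 a ha ha1 q hq hq1 with rfl | rfl | rfl
    · exact hx
    · exact (hBc a hx).1
    · exact (hBc a hx).2

variable [Finite G] {F : Frame G}

theorem Frame.isMulCommutative_D (F : Frame G) : IsMulCommutative F.D :=
  ⟨⟨fun a b => Subtype.ext (F.D_comm a.2 b.2)⟩⟩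

theorem Frame.D_cube (F : Frame G) {a : G} (ha : a ∈ F.D) : a ^ 3 = 1 := by
  obtain ⟨q, hq, rfl⟩ := ha
  obtain ⟨i, j, rfl⟩ := inD_spec q hq
  have h : Commute eZ eW := z_facts.2.2.2.2.1
  rw [← map_pow, (h.pow_pow _ _).mul_pow, ← pow_mul, ← pow_mul, mul_comm (i : ℕ), mul_comm (j : ℕ),
    pow_mul, pow_mul, z_facts.1, z_facts.2.1, one_pow, one_pow, one_mul, map_one]

theorem Frame.D_not_cyclic (F : Frame G) : ¬ IsCyclic F.D := by
  intro hc
  obtain ⟨⟨a, ha⟩, hgen⟩ := hc.exists_ofOrder_eq_natCard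
  rw [F.card_D, Subgroup.orderOf_mk] at hgen
  have := orderOf_dvd_of_pow_eq_one (F.D_cube ha)
  rw [hgen] at this
  omega

/-- Generation by the two centralizers. -/
theorem Hyp.le_of_two (H : Hyp F) {K W : Subgroup G} (hK : ¬ 3 ∣ Nat.card K)
    (hD : F.D ≤ normalizer (K : Set G)) (hKD : K ⊓ centralizer (F.D : Set G) = ⊥)
    (hz : ∀ x ∈ K, x * F.f eZ = F.f eZ * x → x ∈ W) (hw : ∀ x ∈ K, x * F.f eW = F.f eW * x → x ∈ W) :
    K ≤ W := by
  haveI := F.isMulCommutative_D
  refine CfsgLib.Coprime.le_of_centralizers_le F.D_not_cyclic hD ?_ fun a ha ha1 x hx => ?_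
  · rw [F.card_D, show (9 : ℕ) = 3 ^ 2 by norm_num]
    exact Nat.Coprime.pow_left _ ((Nat.prime_three.coprime_iff_not_dvd).2 hK)
  obtain ⟨hxK, hxa⟩ := Subgroup.mem_inf.1 hx
  rw [mem_centralizer_singleton_iff] at hxa
  obtain ⟨q, hq, rfl⟩ := ha
  have hflip : ∀ y : G, x * y⁻¹ = y⁻¹ * x → x * y = y * x := fun y h => by
    have := (show Commute x y⁻¹ from h).inv_right
    rw [inv_inv] at this
    exact this.eq
  rcases mixed_cases q hq (fun e => ha1 (by rw [e, map_one])) with rfl | rfl | rfl | rfl | ⟨h1, h2⟩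
  · exact hz x hxK hxa
  · rw [map_inv] at hxa; exact hz x hxK (hflip _ hxa)
  · exact hw x hxK hxa
  · rw [map_inv] at hxa; exact hw x hxK (hflip _ hxa)
  · have hxN : x ∈ normalizer (F.D : Set G) :=
      (H.mixed q hq h1 h2).2 (mem_centralizer_singleton_iff.2 hxa)
    have hxc : x ∈ centralizer (F.D : Set G) := mem_centralizer_iff.2 fun d hd => by
      have e1 : d * x * d⁻¹ * x⁻¹ ∈ K := mul_mem ((mem_normalizer_iff.1 (hD hd) x).1 hxK) (inv_mem hxK)
      have e2 : d * x * d⁻¹ * x⁻¹ ∈ F.D := by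
        rw [show d * x * d⁻¹ * x⁻¹ = d * (x * d⁻¹ * x⁻¹) by group]
        exact mul_mem hd ((mem_normalizer_iff.1 hxN _).1 (inv_mem hd))
      have e3 := eq_one_of_order hK e1 (F.D_cube e2)
      rw [mul_inv_eq_one, mul_inv_eq_iff_eq_mul] at e3
      exact e3
    rw [show x = 1 from by
      have : x ∈ K ⊓ centralizer (F.D : Set G) := ⟨hxK, hxc⟩
      rw [hKD] at this
      exact mem_bot.1 this]
    exact one_mem W

/-- The structure of the subgroups of order prime to three normalized by `D`. -/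
theorem Hyp.signalizer (H : Hyp F) (K : Subgroup G) (hK : ¬ 3 ∣ Nat.card K)
    (hD : F.D ≤ normalizer (K : Set G)) :
    ∃ k l : Fin 5, (k = 0 ∨ k = 1) ∧ (l = 0 ∨ l = 1) ∧
      (∀ x ∈ K, ∃ a b, inV k a = true ∧ inV l b = true ∧ x = F.f a * F.g b ∧ F.f a ∈ K ∧ F.g b ∈ K) ∧
      ((∃ x ∈ K, x * F.f eW = F.f eW * x ∧ x ≠ 1) → ∀ b, inV l b = true → F.g b ∈ K) ∧
      (∀ x ∈ K, ∀ y ∈ K, x * y = y * x) := by
  classical
  have hKD : K ⊓ centralizer (F.D : Set G) = ⊥ := by
    refine (eq_bot_iff).2 fun x hx => mem_bot.2 ?_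
    obtain ⟨hxK, hxc⟩ := Subgroup.mem_inf.1 hx
    exact eq_one_of_order hK hxK (F.D_cube (H.cent_D ▸ hxc))
  obtain ⟨k, hk, hkK, hkfull⟩ := F.side_f.four_part K hK (hD F.w_mem)
  obtain ⟨l, hl, hlK, hlfull⟩ := F.side_g.four_part K hK (F.link_w.symm ▸ hD F.z_mem)
  rw [F.link_z] at hlK hlfull
  obtain ⟨hk1, -, hkmul, hkinv, hkorb⟩ := inV_spec k hk
  obtain ⟨hl1, -, hlmul, hlinv, hlorb⟩ := inV_spec l hl
  have hsq : ∀ x ∈ K, (x * F.f eZ = F.f eZ * x ∨ x * F.f eW = F.f eW * x) → x ^ 2 = 1 := by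
    rintro x hx (h | h)
    · obtain ⟨q, hq, rfl⟩ := hkK x hx h
      rw [← map_pow, pow_two]
      nth_rewrite 1 [← (hkinv q hq).1]
      rw [inv_mul_cancel, map_one]
    · obtain ⟨q, hq, rfl⟩ := hlK x hx h
      rw [← map_pow, pow_two]
      nth_rewrite 1 [← (hlinv q hq).1]
      rw [inv_mul_cancel, map_one]
  have hcopD : (Nat.card F.D).Coprime (Nat.card K) := by
    rw [F.card_D, show (9 : ℕ) = 3 ^ 2 by norm_num]
    exact Nat.Coprime.pow_left _ ((Nat.prime_three.coprime_iff_not_dvd).2 hK)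
  -- the group is a two-group
  have h2 : IsPGroup 2 K := by
    refine IsPGroup.iff_card.2 ⟨_, Nat.eq_prime_pow_of_unique_prime_dvd Nat.card_pos.ne' fun {p} hp hd => ?_⟩
    by_contra hp2
    haveI : Fact p.Prime := ⟨hp⟩
    haveI := F.isMulCommutative_D
    obtain ⟨P, hPs, hPD⟩ := CfsgLib.Coprime.exists_invariant_sylow hD hcopD
      (Or.inl (CfsgLib.Coprime.isSolvable_of_isMulCommutative inferInstance)) p
    have hP3 : ¬ 3 ∣ Nat.card P := fun e => hK (e.trans (card_dvd_of_le hPs.1))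
    have hone : ∀ x ∈ P, (x * F.f eZ = F.f eZ * x ∨ x * F.f eW = F.f eW * x) → x ∈ (⊥ : Subgroup G) := by
      intro x hx hc
      obtain ⟨n, hn⟩ := (IsPGroup.iff_orderOf.1 hPs.isPGroup) ⟨x, hx⟩
      rw [Subgroup.orderOf_mk] at hn
      have hd2 := orderOf_dvd_of_pow_eq_one (hsq x (hPs.1 hx) hc)
      rw [hn] at hd2
      rcases Nat.eq_zero_or_pos n with rfl | hn0
      · exact mem_bot.2 (orderOf_eq_one_iff.1 (by rw [hn, pow_zero]))
      · exact absurd ((Nat.prime_dvd_prime_iff_eq hp Nat.prime_two).1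
          ((dvd_pow_self p hn0.ne').trans hd2)) hp2
    have hPbot : P ≤ ⊥ := H.le_of_two hP3 hPD
      (le_bot_iff.1 ((inf_le_inf_right _ hPs.1).trans hKD.le))
      (fun x hx h => hone x hx (Or.inl h)) (fun x hx h => hone x hx (Or.inr h))
    have hc1 : Nat.card P = 1 := by rw [le_bot_iff.1 hPbot, Subgroup.card_bot]
    rw [hPs.2] at hc1
    have hpos : 0 < (Nat.card K).factorization p := hp.factorization_pos_of_dvd Nat.card_pos.ne' hd
    exact absurd hc1 (Nat.one_lt_pow hpos.ne' hp.one_lt).ne'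
  -- elements centralizing `z` commute with those centralizing `w`
  have hab : ∀ x ∈ K, x * F.f eZ = F.f eZ * x → ∀ y ∈ K, y * F.f eW = F.f eW * y → x * y = y * x := by
    intro x hx hxz y hy hyw
    by_cases hx1 : x = 1
    · rw [hx1, one_mul, mul_one]
    by_cases hy1 : y = 1
    · rw [hy1, one_mul, mul_one]
    haveI : Fact (Nat.Prime 2) := ⟨Nat.prime_two⟩
    haveI : Nontrivial K := (Subgroup.nontrivial_iff_exists_ne_one _).2 ⟨x, hx, hx1⟩
    haveI := h2.center_nontrivial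
    set Z := (center K).map K.subtype with hZ
    have hZK : Z ≤ K := map_subtype_le _
    have hZD : F.D ≤ normalizer (Z : Set G) := by
      have key : ∀ g ∈ normalizer (K : Set G), ∀ a ∈ Z, g * a * g⁻¹ ∈ Z := by
        rintro g hg _ ⟨a, ha, rfl⟩
        refine ⟨⟨g * a * g⁻¹, (mem_normalizer_iff.1 hg a).1 a.2⟩, mem_center_iff.2 fun b => Subtype.ext ?_, rfl⟩
        have hb := congrArg Subtype.val
          (mem_center_iff.1 ha ⟨g⁻¹ * b * g, (mem_normalizer_iff''.1 hg b).1 b.2⟩)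
        show (b : G) * (g * a * g⁻¹) = g * a * g⁻¹ * b
        calc (b : G) * (g * a * g⁻¹) = g * ((g⁻¹ * b * g) * a) * g⁻¹ := by group
          _ = g * (a * (g⁻¹ * b * g)) * g⁻¹ := by rw [show (g⁻¹ * b * g) * a = a * (g⁻¹ * b * g) from hb]
          _ = _ := by group
      intro d hd
      rw [mem_normalizer_iff]
      refine fun a => ⟨key d (hD hd) a, fun h => ?_⟩
      have := key d⁻¹ (inv_mem (hD hd)) _ h
      simpa [mul_assoc] using this
    have hZne : ¬ Z ≤ ⊥ := by
      intro h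
      obtain ⟨c, hc⟩ := exists_ne (1 : center K)
      exact hc (Subtype.ext (Subtype.ext (mem_bot.1 (h ⟨c, c.2, rfl⟩))))
    have hcen : ∀ a ∈ Z, ∀ b ∈ K, a * b = b * a := by
      rintro _ ⟨a, ha, rfl⟩ b hb
      exact (congrArg Subtype.val (mem_center_iff.1 ha ⟨b, hb⟩)).symm
    by_contra hne
    apply hZne
    refine H.le_of_two (fun h => hK (h.trans (card_dvd_of_le hZK))) hZD
      (le_bot_iff.1 ((inf_le_inf_right _ hZK).trans hKD.le)) (fun a ha haz => mem_bot.2 ?_) (fun a ha haw => mem_bot.2 ?_)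
    · by_contra ha1
      obtain ⟨q, hq, rfl⟩ := hkK a (hZK ha) haz
      obtain ⟨r, hr, rfl⟩ := hkK x hx hxz
      have hq1 : q ≠ 1 := fun e => ha1 (by rw [e, map_one])
      have hr1 : r ≠ 1 := fun e => hx1 (by rw [e, map_one])
      have hrZ : F.f r ∈ Z := by
        rcases hkorb q hq hq1 r hr hr1 with rfl | rfl | rfl
        · exact ha
        · rw [map_mul, map_mul, map_inv]; exact (mem_normalizer_iff.1 (hZD F.w_mem) _).1 ha
        · rw [map_mul, map_mul, map_inv]; exact (mem_normalizer_iff''.1 (hZD F.w_mem) _).1 ha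
      exact hne (hcen _ hrZ y hy)
    · by_contra ha1
      obtain ⟨q, hq, rfl⟩ := hlK a (hZK ha) haw
      obtain ⟨r, hr, rfl⟩ := hlK y hy hyw
      have hq1 : q ≠ 1 := fun e => ha1 (by rw [e, map_one])
      have hr1 : r ≠ 1 := fun e => hy1 (by rw [e, map_one])
      have hrZ : F.g r ∈ Z := by
        rcases hlorb q hq hq1 r hr hr1 with rfl | rfl | rfl
        · exact ha
        · rw [map_mul, map_mul, map_inv, F.link_w]; exact (mem_normalizer_iff.1 (hZD F.z_mem) _).1 ha
        · rw [map_mul, map_mul, map_inv, F.link_w]; exact (mem_normalizer_iff''.1 (hZD F.z_mem) _).1 ha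
      exact hne (hcen _ hrZ x hx).symm
  -- the products form a subgroup
  let W : Subgroup G :=
    { carrier := {x | ∃ a b, inV k a = true ∧ inV l b = true ∧ x = F.f a * F.g b ∧ F.f a ∈ K ∧ F.g b ∈ K}
      one_mem' := ⟨1, 1, hk1, hl1, by simp, by simp, by simp⟩
      mul_mem' := by
        rintro _ _ ⟨a, b, ha, hb, rfl, haK, hbK⟩ ⟨c, d, hc, hd, rfl, hcK, hdK⟩
        refine ⟨a * c, b * d, (hkmul a ha c hc).1, (hlmul b hb d hd).1, ?_,
          by rw [map_mul]; exact mul_mem haK hcK, by rw [map_mul]; exact mul_mem hbK hdK⟩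
        have e : F.g b * F.f c = F.f c * F.g b :=
          (hab _ hcK (by rw [← map_mul, ← map_mul, (hkinv c hc).2.1]) _ hbK
            (by rw [← F.link_z, ← map_mul, ← map_mul, (hlinv b hb).2.1])).symm
        rw [map_mul, map_mul, mul_assoc, ← mul_assoc (F.g b), e]
        group
      inv_mem' := by
        rintro _ ⟨a, b, ha, hb, rfl, haK, hbK⟩
        refine ⟨a, b, ha, hb, ?_, haK, hbK⟩
        rw [mul_inv_rev, ← map_inv, ← map_inv, (hkinv a ha).1, (hlinv b hb).1]
        exact (hab _ haK (by rw [← map_mul, ← map_mul, (hkinv a ha).2.1]) _ hbK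
          (by rw [← F.link_z, ← map_mul, ← map_mul, (hlinv b hb).2.1])).symm }
  have hKW : K ≤ W := H.le_of_two hK hD hKD
    (fun x hx h => by
      obtain ⟨q, hq, rfl⟩ := hkK x hx h
      exact ⟨q, 1, hq, hl1, by simp, hx, by simp⟩)
    (fun x hx h => by
      obtain ⟨q, hq, rfl⟩ := hlK x hx h
      exact ⟨1, q, hk1, hq, by simp, by simp, hx⟩)
  refine ⟨k, l, hk, hl, fun x hx => hKW hx, hlfull, fun x hx y hy => ?_⟩
  obtain ⟨a, b, ha, hb, rfl, haK, hbK⟩ := hKW hx
  obtain ⟨c, d, hc, hd, rfl, hcK, hdK⟩ := hKW hy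
  have hzc : ∀ q, inV k q = true → F.f q * F.f eZ = F.f eZ * F.f q := fun q hq => by
    rw [← map_mul, ← map_mul, (hkinv q hq).2.1]
  have hwc : ∀ q, inV l q = true → F.g q * F.f eW = F.f eW * F.g q := fun q hq => by
    rw [← F.link_z, ← map_mul, ← map_mul, (hlinv q hq).2.1]
  have c1 : Commute (F.f a) (F.f c) := by show _ = _; rw [← map_mul, ← map_mul, (hkmul a ha c hc).2]
  have c2 : Commute (F.f a) (F.g d) := hab _ haK (hzc a ha) _ hdK (hwc d hd)
  have c3 : Commute (F.g b) (F.f c) := (hab _ hcK (hzc c hc) _ hbK (hwc b hb)).symm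
  have c4 : Commute (F.g b) (F.g d) := by show _ = _; rw [← map_mul, ← map_mul, (hlmul b hb d hd).2]
  exact (c1.mul_right c2).mul_left (c3.mul_right c4)

end CfsgLib.Spor.AltEightLocal
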