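import Cfsg.Agent.Lib.Spor.AltEightLocal.Cent
import Cfsg.Agent.Lib.PGroup.MaxClassRecog
import Cfsg.Agent.Lib.PGroup.Basic
import Cfsg.Agent.Lib.Fusion.Tate
import Cfsg.Agent.Lib.Invol.CyclicCentralizer
import Cfsg.Agent.Lib.Perm.Dickson.Minimal

/-!
# The centralizer of the four-group cannot be small
-/

set_option autoImplicit false
set_option linter.style.haveILetI false
set_option linter.unusedSectionVars false
set_option synthInstance.maxSize 4000
set_option synthInstance.maxHeartbeats 80000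

namespace CfsgLib.Spor.AltEightLocal

open Subgroup

/-- all involutions with trivial first component are conjugate -/
theorem inv_orbit : ∀ q : E, q ^ 2 = 1 → q ≠ 1 → q.1.1 = 1 → ∃ r : E, r * eI * r⁻¹ = q := by decide +kernel

theorem eT_orbit : ∃ r : E, r * eS * r⁻¹ = eT := by decide +kernel

theorem relabel_fst : ∀ q : E, q.1.1 = 1 → ∀ p : P3 × P5, (relabel p q).1.1 = 1 := fun q h p => by
  show p.1 * q.1.1 * p.1⁻¹ = 1
  rw [h, mul_one, mul_inv_cancel]

/-- the eight-group generated by `eI`, `eV` and `eT` -/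
def listT : List E := [1, eI, eV, eI * eV, eT, eI * eT, eV * eT, eI * eV * eT]

theorem listT_spec : (∀ a ∈ listT, ∀ b ∈ listT, a * b ∈ listT) ∧ (∀ a ∈ listT, a⁻¹ ∈ listT) ∧
    listT.toFinset.card = 8 ∧ (∀ v : E, inV 0 v = true → v ∈ listT) ∧
    (∀ a ∈ listT, a ^ 2 = 1 → a ≠ 1 → a.1.1 = 1 ∨ ∃ r : E, r * eS * r⁻¹ = a) := by decide +kernel

theorem small_facts : eI ≠ 1 ∧ eV ≠ 1 ∧ eI ≠ eV ∧ inV 0 eI = true ∧ inV 0 eV = true ∧
    eT * eI = eI * eT ∧ eT * eV * eT⁻¹ = eV * eI ∧ eT ^ 2 = 1 ∧ eI * eZ = eZ * eI ∧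
    eI.1.1 = 1 ∧ eV.1.1 = 1 ∧ (eZ * eW).1.1 ≠ 1 ∧ (eZ * eW).1.2 ≠ 1 ∧ inD (eZ * eW) = true := by decide +kernel

theorem centre_T : ∀ a : E, ∀ i : Fin 3, inV 0 a = true → (a * eZ ^ (i : ℕ)) * eT = eT * (a * eZ ^ (i : ℕ)) →
    a * eZ ^ (i : ℕ) = 1 ∨ a * eZ ^ (i : ℕ) = eI := by decide +kernel

theorem cent_V : ∀ a : E, ∀ i : Fin 3, inV 0 a = true → (a * eZ ^ (i : ℕ)) ^ 2 = 1 → i = 0 := by decide +kernel

theorem cent_ZI : ∀ q : E, q * eZ = eZ * q → q * eI = eI * q →
    ∃ (a : E) (i : Fin 3), inV 0 a = true ∧ q = a * eZ ^ (i : ℕ) := by decide +kernel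

theorem V_elems : ∀ a : E, inV 0 a = true → a = 1 ∨ a = eI ∨ a = eV ∨ a = eV * eI := by decide +kernel

variable {G : Type*} [Group G] [Finite G] {F : Frame G}

theorem Frame.isConj_f {q : E} (h2 : q ^ 2 = 1) (h1 : q ≠ 1) (hq : q.1.1 = 1) :
    IsConj (F.f eI) (F.f q) := by
  obtain ⟨r, hr⟩ := inv_orbit q h2 h1 hq
  exact isConj_iff.2 ⟨F.f r, by rw [← map_inv, ← map_mul, ← map_mul, hr]⟩

theorem Frame.isConj_g {q : E} (h2 : q ^ 2 = 1) (h1 : q ≠ 1) (hq : q.1.1 = 1) :
    IsConj (F.f eI) (F.g q) := by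
  refine (F.isConj_f (q := relabel F.p q) ?_ ?_ (relabel_fst q hq _)).trans (isConj_iff.2 ⟨F.γ, (F.g_eq q).symm⟩)
  · rw [← map_pow, h2, map_one]
  · exact fun h => h1 (relabel_injective _ (h.trans (map_one _).symm))

theorem Frame.isConj_eS : IsConj (F.f eI) (F.f eS) :=
  F.link_b ▸ F.isConj_g z_facts.2.2.2.2.2.2.1 (by decide +kernel) (by decide +kernel)

theorem Frame.isConj_T {a : E} (ha : a ∈ listT) (h2 : a ^ 2 = 1) (h1 : a ≠ 1) :
    IsConj (F.f eI) (F.f a) := by
  rcases listT_spec.2.2.2.2 a ha h2 h1 with h | ⟨r, hr⟩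
  · exact F.isConj_f h2 h1 h
  · exact F.isConj_eS.trans (isConj_iff.2 ⟨F.f r, by rw [← map_inv, ← map_mul, ← map_mul, hr]⟩)

/-- An involution is not centralized by a subgroup of order nine. -/
theorem Hyp.not_nine_dvd_cent (H : Hyp F) {x : G} (hx : x ^ 2 = 1) (hx1 : x ≠ 1) :
    ¬ 9 ∣ Nat.card (centralizer ({x} : Set G)) := by
  intro h9
  haveI : Fact (Nat.Prime 3) := ⟨Nat.prime_three⟩
  obtain ⟨R, hR⟩ := Sylow.exists_subgroup_card_pow_prime 3 (G := centralizer ({x} : Set G)) (n := 2)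
    (by simpa using h9)
  set R' := R.map (centralizer ({x} : Set G)).subtype with hR'
  have hR'c : Nat.card R' = 9 := by
    rw [hR', card_map_of_injective (Subgroup.subtype_injective _), hR]; norm_num
  have hD3 : IsPGroup 3 F.D := IsPGroup.of_card (n := 2) (by rw [F.card_D]; norm_num)
  obtain ⟨P, hP⟩ := (IsPGroup.of_card (n := 2) (by rw [hR'c]; norm_num) : IsPGroup 3 R').exists_le_sylow
  obtain ⟨g, hg⟩ := MulAction.exists_smul_eq G P (hD3.toSylow H.index_D)
  have hle : ∀ r ∈ R', g * r * g⁻¹ ∈ F.D := fun r hr => by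
    have hm : g * r * g⁻¹ ∈ ((g • P : Sylow 3 G) : Subgroup G) := by
      rw [Sylow.coe_subgroup_smul]; exact ⟨r, hP hr, rfl⟩
    rw [hg, IsPGroup.toSylow_coe] at hm
    exact hm
  have heq : R'.map (MulAut.conj g).toMonoidHom = F.D := by
    refine eq_of_le_of_card_ge (fun x ⟨r, hr, e⟩ => e ▸ hle r hr) ?_
    rw [card_map_of_injective (MulAut.conj g).injective, hR'c, F.card_D]
  have hc : g * x * g⁻¹ ∈ centralizer (F.D : Set G) := mem_centralizer_iff.2 fun d hd => by
    rw [← heq] at hd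
    obtain ⟨r, ⟨m, -, rfl⟩, rfl⟩ := hd
    have := mem_centralizer_singleton_iff.1 m.2
    show g * (m : G) * g⁻¹ * (g * x * g⁻¹) = g * x * g⁻¹ * (g * m * g⁻¹)
    calc g * (m : G) * g⁻¹ * (g * x * g⁻¹) = g * ((m : G) * x) * g⁻¹ := by group
      _ = g * (x * m) * g⁻¹ := by rw [this]
      _ = _ := by group
  rw [H.cent_D] at hc
  have h3 := F.D_cube hc
  rw [conj_pow, conj_eq_one_iff, pow_succ, hx, one_mul] at h3
  exact hx1 h3

/-- An involution centralizing a mixed element is not conjugate to those in the four-group. -/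
theorem Hyp.not_isConj_mixed (H : Hyp F) {q : E} (hq : inD q = true) (h1 : q.1.1 ≠ 1) (h2 : q.1.2 ≠ 1)
    {j : G} (hj : j * F.f q = F.f q * j) : ¬ IsConj (F.f eI) j := by
  intro hc
  obtain ⟨g, hg⟩ := isConj_iff.1 hc
  haveI : Fact (Nat.Prime 3) := ⟨Nat.prime_three⟩
  set C := centralizer ({j} : Set G)
  have hzC : g * F.f eZ * g⁻¹ ∈ C := mem_centralizer_singleton_iff.2 (by
    rw [← hg]
    calc g * F.f eZ * g⁻¹ * (g * F.f eI * g⁻¹) = g * (F.f (eZ * eI)) * g⁻¹ := by rw [map_mul]; group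
      _ = g * (F.f (eI * eZ)) * g⁻¹ := by rw [small_facts.2.2.2.2.2.2.2.2.1]
      _ = _ := by rw [map_mul]; group)
  have hqC : F.f q ∈ C := mem_centralizer_singleton_iff.2 hj.symm
  have hj2 : j ^ 2 = 1 := by rw [← hg, conj_pow, ← map_pow, z_facts.2.2.2.2.2.2.2.1, map_one, mul_one, mul_inv_cancel]
  have hj1 : j ≠ 1 := fun e => by
    rw [e, conj_eq_one_iff] at hg
    exact small_facts.1 (F.f_inj (hg.trans (map_one F.f).symm))
  have hq3 : F.f q ^ 3 = 1 := F.D_cube (F.mem_D hq)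
  have hq1 : F.f q ≠ 1 := fun e => h1 (by rw [F.f_inj (e.trans (map_one F.f).symm)]; rfl)
  have hsyl : ∀ {a : G} (ha : a ∈ C), a ^ 3 = 1 → a ≠ 1 →
      ∃ P : Sylow 3 C, (P : Subgroup C) = zpowers ⟨a, ha⟩ := by
    intro a ha ha3 ha1
    have hc : Nat.card (zpowers (⟨a, ha⟩ : C)) = 3 := by
      rw [Nat.card_zpowers, Subgroup.orderOf_mk, orderOf_eq_prime ha3 ha1]
    refine ⟨(IsPGroup.of_card (n := 1) (by rw [hc, pow_one]) : IsPGroup 3 (zpowers (⟨a, ha⟩ : C))).toSylow
      (fun h => H.not_nine_dvd_cent hj2 hj1 ?_), rfl⟩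
    have := (zpowers (⟨a, ha⟩ : C)).card_mul_index
    rw [hc] at this
    rw [← this]
    exact Nat.mul_dvd_mul_left 3 h
  have hz3 : (g * F.f eZ * g⁻¹) ^ 3 = 1 := by rw [conj_pow, ← map_pow, z_facts.1, map_one, mul_one, mul_inv_cancel]
  have hz1 : g * F.f eZ * g⁻¹ ≠ 1 := fun e => z_facts.2.2.1 (F.f_inj ((conj_eq_one_iff.1 e).trans (map_one F.f).symm))
  obtain ⟨P, hP⟩ := hsyl hzC hz3 hz1
  obtain ⟨Q, hQ⟩ := hsyl hqC hq3 hq1
  obtain ⟨c, hc'⟩ := MulAction.exists_smul_eq C P Q
  have hm : c * (⟨_, hzC⟩ : C) * c⁻¹ ∈ zpowers (⟨F.f q, hqC⟩ : C) := by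
    rw [← hQ, ← hc', Sylow.coe_subgroup_smul, hP]
    exact ⟨_, mem_zpowers _, rfl⟩
  obtain ⟨i, hi⟩ := mem_zpowers_iff.1 hm
  have hi' : (c : G) * g * F.f eZ * ((c : G) * g)⁻¹ = F.f q ^ i := by
    have := congrArg Subtype.val hi
    simp only [Subgroup.coe_mul, SubgroupClass.coe_zpow, InvMemClass.coe_inv] at this
    rw [this]; group
  -- the order of the centralizer of `z`
  have hcz : Nat.card (centralizer ({F.f eZ} : Set G)) = 180 := by
    rw [← cent_eZ, ← Nat.card_eq_fintype_card]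
    refine (Nat.card_congr (Equiv.ofBijective
      (fun a : {a : E // a * eZ = eZ * a} => (⟨F.f a.1, mem_centralizer_singleton_iff.2 (by
        rw [← map_mul, ← map_mul, a.2])⟩ : centralizer ({F.f eZ} : Set G))) ⟨fun a b h => ?_, fun x => ?_⟩)).symm
    · exact Subtype.ext (F.f_inj (congrArg Subtype.val h))
    · obtain ⟨a, ha, ha'⟩ := F.side_f.exists_coord (mem_centralizer_singleton_iff.1 x.2)
      exact ⟨⟨a, ha'⟩, Subtype.ext ha⟩
  have hle : (centralizer ({F.f q} : Set G)).map (MulAut.conj ((c : G) * g)⁻¹).toMonoidHom ≤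
      centralizer ({F.f eZ} : Set G) ∧ (centralizer ({F.f eZ} : Set G)).map (MulAut.conj ((c : G) * g)).toMonoidHom ≤
      centralizer ({F.f q} : Set G) := by
    have hne : ¬ (3 : ℤ) ∣ i := by
      rintro ⟨m, rfl⟩
      rw [zpow_mul, show F.f q ^ (3 : ℤ) = 1 from by exact_mod_cast hq3, one_zpow, conj_eq_one_iff] at hi'
      exact z_facts.2.2.1 (F.f_inj (hi'.trans (map_one F.f).symm))
    constructor
    · rintro _ ⟨x, hx, rfl⟩
      refine mem_centralizer_singleton_iff.2 ?_
      have h := ((show Commute x (F.f q) from mem_centralizer_singleton_iff.1 hx).zpow_right i).eq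
      rw [← hi'] at h
      show ((c : G) * g)⁻¹ * x * (((c : G) * g)⁻¹)⁻¹ * F.f eZ = F.f eZ * (((c : G) * g)⁻¹ * x * (((c : G) * g)⁻¹)⁻¹)
      calc ((c : G) * g)⁻¹ * x * (((c : G) * g)⁻¹)⁻¹ * F.f eZ
          = ((c : G) * g)⁻¹ * (x * ((c : G) * g * F.f eZ * ((c : G) * g)⁻¹)) * ((c : G) * g) := by group
        _ = ((c : G) * g)⁻¹ * ((c : G) * g * F.f eZ * ((c : G) * g)⁻¹ * x) * ((c : G) * g) := by rw [h]
        _ = _ := by group
    · rintro _ ⟨x, hx, rfl⟩
      refine mem_centralizer_singleton_iff.2 ?_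
      have h := mem_centralizer_singleton_iff.1 hx
      have hc2 : Commute ((c : G) * g * x * ((c : G) * g)⁻¹) (F.f q ^ i) := by
        show _ = _
        rw [← hi']
        calc (c : G) * g * x * ((c : G) * g)⁻¹ * ((c : G) * g * F.f eZ * ((c : G) * g)⁻¹)
            = (c : G) * g * (x * F.f eZ) * ((c : G) * g)⁻¹ := by group
          _ = (c : G) * g * (F.f eZ * x) * ((c : G) * g)⁻¹ := by rw [h]
          _ = _ := by group
      have hk : F.f q ∈ zpowers (F.f q ^ i) := by
        rcases (show i % 3 = 1 ∨ i % 3 = 2 by omega) with e | e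
        · refine mem_zpowers_iff.2 ⟨1, ?_⟩
          rw [zpow_one, zpow_eq_zpow_emod' i hq3, Nat.cast_ofNat, e, zpow_one]
        · refine mem_zpowers_iff.2 ⟨2, ?_⟩
          rw [← zpow_mul, zpow_eq_zpow_emod' (i * 2) hq3, Nat.cast_ofNat, Int.mul_emod, e]
          exact zpow_one _
      obtain ⟨k, hk'⟩ := mem_zpowers_iff.1 hk
      have h3 := (hc2.zpow_right k).eq
      rw [hk'] at h3
      exact h3
  have hcard := card_le_of_le hle.2
  rw [card_map_of_injective (MulAut.conj _).injective, hcz, (H.mixed q hq h1 h2).1] at hcard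
  omega

/-- There is an involution not conjugate to those of the four-group. -/
theorem Hyp.exists_other (H : Hyp F) : ∃ j : G, orderOf j = 2 ∧ ¬ IsConj (F.f eI) j := by
  obtain ⟨-, -, -, -, -, -, -, -, -, -, -, h1, h2, hq⟩ := small_facts
  haveI : Fact (Nat.Prime 2) := ⟨Nat.prime_two⟩
  obtain ⟨⟨j, hj⟩, hjo⟩ := exists_prime_orderOf_dvd_card' (G := centralizer ({F.f (eZ * eW)} : Set G)) 2
    (by rw [(H.mixed _ hq h1 h2).1]; norm_num)
  rw [Subgroup.orderOf_mk] at hjo
  exact ⟨j, hjo, H.not_isConj_mixed hq h1 h2 (mem_centralizer_singleton_iff.1 hj)⟩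

/-- The transfer subgroup leads to a contradiction. -/
theorem thin_no_simple {L : Type*} [Group L] [Finite L] (S : Sylow 2 L) (U : Subgroup L) [IsCyclic U]
    (hUS : U ≤ (S : Subgroup L)) (hUi : ∀ x ∈ (S : Subgroup L), x ∉ U → ∀ y ∈ (S : Subgroup L), y ∉ U → x * y ∈ U) {c i : L} (hiU : i ∈ U) (hc : c * c = i)
    (hi : i ^ 2 = 1) (hi1 : i ≠ 1) (hcen : ∀ x : L, x * i = i * x) (hU : ∀ u ∈ U, u ^ 2 = 1 → u = 1 ∨ u = i)
    (hout : ∀ u ∈ (S : Subgroup L), u ∉ U → u ^ 2 = 1) :
    ∃ K : Subgroup L, K.Normal ∧ K.index = 2 ∧ i ∈ K := by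
  haveI : Fact (Nat.Prime 2) := ⟨Nat.prime_two⟩
  obtain ⟨K, hKi⟩ : ∃ K : Subgroup L, K.index = 2 := by
    by_cases hle : (S : Subgroup L) ≤ U
    · have heq : U = (S : Subgroup L) := le_antisymm hUS hle
      refine CfsgLib.Invol.exists_index_two_of_cyclic ?_ S ?_
      · rw [even_iff_two_dvd]
        have := Subgroup.orderOf_dvd_natCard (⊤ : Subgroup L) (mem_top i)
        rwa [orderOf_eq_prime hi hi1, Subgroup.card_top] at this
      · have : IsCyclic U := inferInstance
        rwa [heq] at this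
    · obtain ⟨x, hxS, hxU⟩ := SetLike.not_le_iff_exists.1 hle
      have h2 : U.relIndex (S : Subgroup L) = 2 := by
        refine relIndex_eq_two_iff.2 ⟨x, hxS, fun b hb => ?_⟩
        by_cases hbU : b ∈ U
        · exact Or.inr ⟨hbU, fun h => hxU (by
            have := mul_mem (inv_mem hbU) h
            rwa [inv_mul_cancel_left] at this)⟩
        · exact Or.inl ⟨hUi b hb hbU x hxS hxU, hbU⟩
      obtain ⟨M, -, hM2, -⟩ := CfsgLib.Fusion.thompson_transfer S hUS h2 (hout x hxS hxU) (fun g hg => by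
        have hg2 : (g * x * g⁻¹) ^ 2 = 1 := by rw [conj_pow, hout x hxS hxU, mul_one, mul_inv_cancel]
        rcases hU _ hg hg2 with h | h
        · rw [conj_eq_one_iff] at h
          exact hxU (h ▸ one_mem U)
        · refine hxU ?_
          have : x = i := by
            calc x = g⁻¹ * (g * x * g⁻¹) * g := by group
              _ = g⁻¹ * (i * g) := by rw [h, mul_assoc]
              _ = i := by rw [← hcen, inv_mul_cancel_left]
          rw [this]
          exact hiU)
      exact ⟨M, hM2⟩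
  exact ⟨K, normal_of_index_eq_two hKi, hKi, hc ▸ mul_self_mem_of_index_two hKi c⟩


/-- A group with a central involution over a group with a self-centralizing element of order three. -/
theorem thin_quotient {L : Type*} [Group L] [Finite L] (S : Sylow 2 L) (U : Subgroup L) [IsCyclic U]
    (hUS : U ≤ (S : Subgroup L))
    (hUi : ∀ x ∈ (S : Subgroup L), x ∉ U → ∀ y ∈ (S : Subgroup L), y ∉ U → x * y ∈ U)
    {c i z : L} (hiU : i ∈ U) (hc : c * c = i)
    (hi : i ^ 2 = 1) (hi1 : i ≠ 1) (hcen : ∀ x : L, x * i = i * x) (hU : ∀ u ∈ U, u ^ 2 = 1 → u = 1 ∨ u = i)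
    (hout : ∀ u ∈ (S : Subgroup L), u ∉ U → u ^ 2 = 1) (hS8 : 8 ≤ Nat.card (S : Subgroup L))
    (hz : z ^ 3 = 1) (hz1 : z ≠ 1) (hcent : ∀ k, k * z = z * k → ∃ n : ℕ, k = z ^ n ∨ k = i * z ^ n)
    (hsmall : ∀ R : Subgroup L, R.Normal → IsPGroup 2 R → ∀ x ∈ R, x = 1 ∨ x = i) : False := by
  classical
  haveI : Fact (Nat.Prime 2) := ⟨Nat.prime_two⟩
  haveI hZn : (zpowers i).Normal := ⟨fun x hx g => by
    obtain ⟨n, rfl⟩ := mem_zpowers_iff.1 hx
    rw [((show Commute g i from hcen g).zpow_right n).eq, mul_inv_cancel_right]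
    exact zpow_mem (mem_zpowers i) n⟩
  have hio : orderOf i = 2 := orderOf_eq_prime hi hi1
  have hIc : Nat.card (zpowers i) = 2 := by rw [Nat.card_zpowers, hio]
  set π := QuotientGroup.mk' (zpowers i) with hπ
  have hπs : Function.Surjective π := QuotientGroup.mk'_surjective _
  have hker : ∀ {x : L}, π x = 1 → x = 1 ∨ x = i := fun {x} h => by
    obtain ⟨n, rfl⟩ := mem_zpowers_iff.1 ((QuotientGroup.eq_one_iff x).1 h)
    rw [← zpow_mod_orderOf, hio]
    rcases (show n % ((2 : ℕ) : ℤ) = 0 ∨ n % ((2 : ℕ) : ℤ) = 1 by omega) with e | e <;> rw [e]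
    · exact Or.inl (zpow_zero i)
    · exact Or.inr (zpow_one i)
  have hπi : π i = 1 := (QuotientGroup.eq_one_iff i).2 (mem_zpowers i)
  set z' := π z with hz'
  have hz'3 : orderOf z' = 3 := by
    haveI : Fact (Nat.Prime 3) := ⟨Nat.prime_three⟩
    refine orderOf_eq_prime (by rw [hz', ← map_pow, hz, map_one]) fun h => ?_
    rcases hker h with e | e
    · exact hz1 e
    · rw [e, pow_succ, hi, one_mul] at hz
      exact hi1 hz
  have hX3 : Nat.card (zpowers z') = 3 := by rw [Nat.card_zpowers, hz'3]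
  have hC : centralizer ((zpowers z' : Subgroup (L ⧸ zpowers i)) : Set (L ⧸ zpowers i)) = zpowers z' := by
    refine le_antisymm (fun x hx => ?_) fun x hx => mem_centralizer_iff.2 fun y hy => ?_
    · obtain ⟨k, rfl⟩ := hπs x
      have hk : π (k * z * k⁻¹ * z⁻¹) = 1 := by
        rw [map_mul, map_mul, map_mul, map_inv, map_inv, ← hz', ← mem_centralizer_iff.1 hx z' (mem_zpowers _)]
        simp [mul_assoc]
      have hkz : k * z = z * k := by
        rcases hker hk with e | e
        · rw [mul_inv_eq_one, mul_inv_eq_iff_eq_mul] at e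
          exact e
        · exfalso
          rw [mul_inv_eq_iff_eq_mul] at e
          have h3 : (k * z * k⁻¹) ^ 3 = 1 := by rw [conj_pow, hz, mul_one, mul_inv_cancel]
          rw [e, (show Commute i z from (hcen z).symm).mul_pow, hz, mul_one, pow_succ, hi, one_mul] at h3
          exact hi1 h3
      obtain ⟨n, rfl | rfl⟩ := hcent k hkz
      · rw [map_pow]; exact pow_mem (mem_zpowers _) _
      · rw [map_mul, map_pow, hπi, one_mul]; exact pow_mem (mem_zpowers _) _
    · obtain ⟨a, rfl⟩ := mem_zpowers_iff.1 hx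
      obtain ⟨b, rfl⟩ := mem_zpowers_iff.1 hy
      exact ((Commute.refl z').zpow_zpow _ _).eq
  -- normal two-subgroups of the quotient
  have hbot : ∀ P : Subgroup (L ⧸ zpowers i), P.Normal → IsPGroup 2 P → P = ⊥ := by
    intro P hP hP2
    haveI := hP
    refine eq_bot_iff.2 fun x hx => ?_
    obtain ⟨k, rfl⟩ := hπs x
    have hR2 : IsPGroup 2 (P.comap π) := hP2.comap_of_ker_isPGroup π (by
      rw [hπ, QuotientGroup.ker_mk']
      exact IsPGroup.of_card (n := 1) (by rw [hIc, pow_one]))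
    rcases hsmall (P.comap π) inferInstance hR2 k hx with rfl | rfl
    · rw [map_one]; exact one_mem _
    · rw [hπi]; exact one_mem _
  have h4 : 4 ∣ Nat.card (L ⧸ zpowers i) := by
    obtain ⟨n, hn⟩ := IsPGroup.iff_card.1 S.2
    have hn3 : 3 ≤ n := by
      by_contra h
      rw [hn] at hS8
      have : 2 ^ n ≤ 2 ^ 2 := Nat.pow_le_pow_right (by norm_num) (by omega)
      omega
    have h8 : 2 * 4 ∣ Nat.card (L ⧸ zpowers i) * Nat.card (zpowers i) := by
      rw [← card_eq_card_quotient_mul_card_subgroup]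
      exact ((pow_dvd_pow 2 hn3).trans (dvd_of_eq hn.symm)).trans (Subgroup.card_subgroup_dvd_card _)
    rw [hIc, mul_comm (Nat.card _) 2] at h8
    exact Nat.dvd_of_mul_dvd_mul_left two_pos h8
  have hsimp : IsSimpleGroup (L ⧸ zpowers i) := by
    rcases CfsgLib.Char.SelfCentThree.classify (zpowers z') hX3 hC with
      ⟨N, hN, hnil, hNc, hq⟩ | ⟨N, hN, -, hN2, ⟨e⟩⟩ | ⟨⟨e⟩⟩
    · exfalso
      haveI := hN
      haveI := hnil
      have hodd : ¬ 2 ∣ Nat.card N := by
        intro hd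
        let P : Sylow 2 N := default
        haveI : (P : Subgroup N).Characteristic :=
          P.characteristic_of_normal
            (P.normal_of_normalizerCondition Group.normalizerCondition_of_isNilpotent)
        have hb := hbot ((P : Subgroup N).map N.subtype) inferInstance (P.2.map _)
        have hP := P.dvd_card_of_dvd_card hd
        rw [← card_map_of_injective N.subtype_injective, hb, Subgroup.card_bot] at hP
        norm_num at hP
      have h46 : 4 ∣ Nat.card N * 6 := by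
        refine h4.trans ?_
        rw [card_eq_card_quotient_mul_card_subgroup N, mul_comm]
        refine Nat.mul_dvd_mul_left _ ?_
        rcases hq with h | ⟨⟨e⟩⟩
        · rw [h]; norm_num
        · rw [Nat.card_congr e.toEquiv, Nat.card_eq_fintype_card, Fintype.card_perm]; rfl
      have : 2 * 2 ∣ 2 * (Nat.card N * 3) := by
        rw [show 2 * (Nat.card N * 3) = Nat.card N * 6 by ring]; exact h46
      rcases (Nat.Prime.dvd_mul Nat.prime_two).1 (Nat.dvd_of_mul_dvd_mul_left two_pos this) with h | h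
      · exact hodd h
      · omega
    · haveI := hN
      have hb : N = ⊥ := hbot N hN fun x => ⟨1, Subtype.ext (by
        rw [SubgroupClass.coe_pow, pow_one]; exact hN2 x x.2)⟩
      subst hb
      exact (QuotientGroup.quotientBot.symm.trans e).isSimpleGroup_congr.2 alternatingGroup.isSimpleGroup_five
    · haveI : Fact (Nat.Prime 7) := ⟨by norm_num⟩
      exact e.isSimpleGroup_congr.2
        (CfsgLib.Perm.Dickson.psl_simple_noncomm (F := ZMod 7) (by rw [Nat.card_zmod]; norm_num)).1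
  obtain ⟨K, hKn, hKi, hiK⟩ := thin_no_simple S U hUS hUi hiU hc hi hi1 hcen hU hout
  haveI := hKn
  have hle : zpowers i ≤ K := zpowers_le.2 hiK
  rcases hsimp.eq_bot_or_eq_top_of_normal (K.map π) (hKn.map π hπs) with h | h
  · rw [Subgroup.map_eq_bot_iff, hπ, QuotientGroup.ker_mk'] at h
    have := K.card_mul_index
    rw [hKi, le_antisymm h hle, hIc] at this
    have hL : Nat.card (S : Subgroup L) ≤ Nat.card L :=
      Nat.le_of_dvd Nat.card_pos (Subgroup.card_subgroup_dvd_card _)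
    omega
  · have h2 := congrArg (Subgroup.comap π) h
    rw [Subgroup.comap_map_eq, hπ, QuotientGroup.ker_mk', Subgroup.comap_top, sup_eq_left.2 hle] at h2
    rw [h2, index_top] at hKi
    omega

/-- The centralizer of the four-group contains a second four-group. -/
theorem Hyp.not_thin (H : Hyp F)
    (hthin : ∀ x ∈ F.CV, ∃ (a : E) (i : Fin 3), inV 0 a = true ∧ x = F.f (a * eZ ^ (i : ℕ))) : False := by
  classical
  haveI : Fact (Nat.Prime 2) := ⟨Nat.prime_two⟩
  obtain ⟨hI1, hV1, hIV, hIm, hVm, hTI, hTV, hT2, hIZ, -⟩ := small_facts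
  set i := F.f eI with hidef
  set v := F.f eV with hvdef
  set t := F.f eT with htdef
  have hi2 : i ^ 2 = 1 := by rw [hidef, ← map_pow, z_facts.2.2.2.2.2.2.2.1, map_one]
  have hv2 : v ^ 2 = 1 := by rw [hvdef, ← map_pow, z_facts.2.2.2.2.2.2.2.2, map_one]
  have hi1 : i ≠ 1 := fun e => hI1 (F.f_inj (e.trans (map_one F.f).symm))
  have hv1 : v ≠ 1 := fun e => hV1 (F.f_inj (e.trans (map_one F.f).symm))
  have hvi : v ≠ i := fun e => hIV (F.f_inj e).symm
  have hVc : ∀ a, inV 0 a = true → F.f a = 1 ∨ F.f a = i ∨ F.f a = v ∨ F.f a = v * i := fun a ha => by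
    rcases V_elems a ha with rfl | rfl | rfl | rfl
    · exact Or.inl (map_one _)
    · exact Or.inr (Or.inl rfl)
    · exact Or.inr (Or.inr (Or.inl rfl))
    · exact Or.inr (Or.inr (Or.inr (map_mul _ _ _)))
  have hvI : v * i = i * v := by
    rw [hvdef, hidef, ← map_mul, ← map_mul, ((inV_spec 0 (Or.inl rfl)).2.2.1 eV hVm eI hIm).2]
  have hti : t * i = i * t := by rw [htdef, hidef, ← map_mul, ← map_mul, hTI]
  have htv : t * v * t⁻¹ = v * i := by
    rw [htdef, hvdef, hidef, ← map_inv, ← map_mul, ← map_mul, ← map_mul, hTV]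
  -- the eight-group
  let T : Subgroup G := Subgroup.map F.f
    { carrier := {a | a ∈ listT}
      one_mem' := by simp [listT]
      mul_mem' := fun {a b} ha hb => listT_spec.1 a ha b hb
      inv_mem' := fun {a} ha => listT_spec.2.1 a ha }
  have hTc : Nat.card T = 8 := by
    refine (card_map_of_injective F.f_inj).trans (Eq.trans ?_ listT_spec.2.2.1)
    refine Eq.trans ?_ (Nat.card_eq_finsetCard listT.toFinset)
    exact Nat.card_congr (Equiv.subtypeEquivRight fun a => by simp)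
  obtain ⟨S, hTS⟩ := (IsPGroup.of_card (n := 3) (by rw [hTc]; norm_num) : IsPGroup 2 T).exists_le_sylow
  have hTmem : ∀ a ∈ listT, F.f a ∈ (S : Subgroup G) := fun a ha => hTS ⟨a, ha, rfl⟩
  have hVS : ∀ a, inV 0 a = true → F.f a ∈ (S : Subgroup G) := fun a ha => hTmem a (listT_spec.2.2.2.1 a ha)
  have hiS : i ∈ (S : Subgroup G) := hVS eI hIm
  have hvS : v ∈ (S : Subgroup G) := hVS eV hVm
  have htS : t ∈ (S : Subgroup G) := hTmem eT (by simp [listT])
  -- the centralizer of the four-group in the Sylow subgroup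
  have hSV : ∀ x ∈ (S : Subgroup G), (∀ a, inV 0 a = true → F.f a * x = x * F.f a) →
      ∃ a, inV 0 a = true ∧ x = F.f a := by
    intro x hx hc
    obtain ⟨a, k, ha, rfl⟩ := hthin x (F.mem_CV.2 hc)
    obtain ⟨hinv1, -, -, hinv, -⟩ := inV_spec 0 (Or.inl rfl)
    obtain ⟨n, hn⟩ := S.2 ⟨_, hx⟩
    have hn' : (a * eZ ^ (k : ℕ)) ^ 2 ^ n = 1 := F.f_inj (by
      rw [map_pow, map_one]; exact congrArg Subtype.val hn)
    have hc' : Commute a (eZ ^ (k : ℕ)) := (show Commute a eZ from (hinv a ha).2.1).pow_right _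
    have h6 : (a * eZ ^ (k : ℕ)) ^ 2 = 1 := by
      have h6' : (a * eZ ^ (k : ℕ)) ^ 6 = 1 := by
        have key : ∀ a : E, inV 0 a = true → ∀ i : Fin 3, (a * eZ ^ (i : ℕ)) ^ 6 = 1 := by decide +kernel
        exact key a ha k
      refine orderOf_dvd_iff_pow_eq_one.1 ?_
      have h1 : orderOf (a * eZ ^ (k : ℕ)) ∣ Nat.gcd 6 (2 ^ n) :=
        Nat.dvd_gcd (orderOf_dvd_of_pow_eq_one h6') (orderOf_dvd_of_pow_eq_one hn')
      refine h1.trans ?_
      obtain ⟨m, -, hm⟩ := (Nat.dvd_prime_pow Nat.prime_two).1 (Nat.gcd_dvd_right 6 (2 ^ n))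
      rw [hm]
      rcases m with _ | _ | m
      · norm_num
      · norm_num
      · have := hm ▸ Nat.gcd_dvd_left 6 (2 ^ n)
        have h4 : 4 ∣ 6 := (pow_dvd_pow 2 (show 2 ≤ m + 2 by omega)).trans this
        omega
    rw [cent_V a k ha h6]
    exact ⟨a, ha, by simp⟩
  -- `i` is central in the Sylow subgroup
  have hicen : ∀ x ∈ (S : Subgroup G), x * i = i * x := by
    haveI : Nontrivial (S : Subgroup G) := (Subgroup.nontrivial_iff_exists_ne_one _).2 ⟨i, hiS, hi1⟩
    haveI := S.2.center_nontrivial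
    obtain ⟨⟨c, hc⟩, hc1⟩ := exists_ne (1 : center (S : Subgroup G))
    have hcomm : ∀ x ∈ (S : Subgroup G), x * (c : G) = c * x := fun x hx =>
      congrArg Subtype.val (mem_center_iff.1 hc ⟨x, hx⟩)
    obtain ⟨a, ha, hca⟩ := hSV c c.2 fun a ha => hcomm _ (hVS a ha)
    have hcT := hcomm t htS
    rw [hca, htdef, ← map_mul, ← map_mul] at hcT
    rcases centre_T a 0 ha (by simpa using (F.f_inj hcT).symm) with h | h
    · refine absurd (Subtype.ext (Subtype.ext ?_)) hc1
      rw [hca, show a = 1 by simpa using h, map_one]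
      rfl
    · intro x hx
      have := hcomm x hx
      rwa [hca, show a = eI by simpa using h] at this
  -- a cyclic subgroup of index two
  obtain ⟨n, hn⟩ := IsPGroup.iff_card.1 S.2
  have hn3 : 3 ≤ n := by
    have h8 := card_le_of_le hTS
    rw [hTc, hn] at h8
    by_contra hh
    have : 2 ^ n ≤ 2 ^ 2 := Nat.pow_le_pow_right (by norm_num) (by omega)
    omega
  obtain ⟨j, hjo, hj⟩ := H.exists_other
  obtain ⟨P, hP⟩ := (IsPGroup.of_card (n := 1) (by rw [Nat.card_zpowers, hjo, pow_one]) :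
    IsPGroup 2 (zpowers j)).exists_le_sylow
  obtain ⟨g, hg⟩ := MulAction.exists_smul_eq G P S
  have hjS : g * j * g⁻¹ ∈ (S : Subgroup G) := by
    rw [← hg, Sylow.coe_subgroup_smul]; exact ⟨j, hP (mem_zpowers j), rfl⟩
  set j' := g * j * g⁻¹ with hj'def
  have hj'2 : j' ^ 2 = 1 := by rw [conj_pow, ← hjo, pow_orderOf_eq_one, mul_one, mul_inv_cancel]
  have hj'1 : j' ≠ 1 := fun e => by
    rw [hj'def, conj_eq_one_iff] at e
    rw [e, orderOf_one] at hjo
    omega
  have hj'n : ¬ IsConj i j' := fun h => hj (h.trans (isConj_iff.2 ⟨g⁻¹, by rw [hj'def]; group⟩))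
  rcases eq_or_lt_of_le hn3 with h3 | h4
  · -- order eight
    have heq : T = (S : Subgroup G) := eq_of_le_of_card_ge hTS (by rw [hn, ← h3, hTc]; norm_num)
    obtain ⟨a, ha, hae⟩ := heq.symm ▸ hjS
    exact hj'n (hae ▸ F.isConj_T ha (F.f_inj (by rw [map_pow, hae, hj'2, map_one]))
      (fun e => hj'1 (by rw [← hae, e, map_one])))
  -- maximal class
  let A : Subgroup (S : Subgroup G) :=
    { carrier := {x | ∃ a, inV 0 a = true ∧ (x : G) = F.f a}
      one_mem' := ⟨1, (inV_spec 0 (Or.inl rfl)).1, by simp⟩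
      mul_mem' := fun {x y} ⟨a, ha, hx⟩ ⟨b, hb, hy⟩ =>
        ⟨a * b, ((inV_spec 0 (Or.inl rfl)).2.2.1 a ha b hb).1, by rw [Subgroup.coe_mul, hx, hy, map_mul]⟩
      inv_mem' := fun {x} ⟨a, ha, hx⟩ =>
        ⟨a, ha, by rw [InvMemClass.coe_inv, hx, ← map_inv, ((inV_spec 0 (Or.inl rfl)).2.2.2.1 a ha).1]⟩ }
  have hA : Nat.card A = 2 ^ 2 := by
    rw [show (2 : ℕ) ^ 2 = 4 by norm_num, ← (inV_spec 0 (Or.inl rfl)).2.1, ← Nat.card_eq_fintype_card]
    refine (Nat.card_congr (Equiv.ofBijective (fun a : {q : E // inV 0 q = true} =>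
      (⟨⟨F.f a.1, hVS a.1 a.2⟩, a.1, a.2, rfl⟩ : A)) ⟨fun a b h => ?_, fun x => ?_⟩)).symm
    · exact Subtype.ext (F.f_inj (congrArg (fun z : A => ((z : (S : Subgroup G)) : G)) h))
    · obtain ⟨a, ha, hx⟩ := x.2
      exact ⟨⟨a, ha⟩, Subtype.ext (Subtype.ext hx.symm)⟩
  have hCA : centralizer (A : Set (S : Subgroup G)) = A := by
    refine le_antisymm (fun (x : (S : Subgroup G)) hx => hSV (x : G) x.2 fun a ha => ?_)
      fun (x : (S : Subgroup G)) hx => mem_centralizer_iff.2 ?_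
    · exact congrArg Subtype.val (mem_centralizer_iff.1 hx ⟨F.f a, hVS a ha⟩ ⟨a, ha, rfl⟩)
    · rintro y ⟨b, hb, hy⟩
      obtain ⟨a, ha, hx⟩ := hx
      exact Subtype.ext (by
        rw [Subgroup.coe_mul, Subgroup.coe_mul, hx, hy, ← map_mul, ← map_mul,
          ((inV_spec 0 (Or.inl rfl)).2.2.1 b hb a ha).2])
  have hcl := CfsgLib.PGroup.maximalClass_of_selfCentralizing n (S : Subgroup G) hn A hA hCA
  obtain ⟨r, e, ga, gb, -, FR⟩ := CfsgLib.PGroup.exists_frame_two hn3 hn
    (CfsgLib.PGroup.index_commutator_of_maximal_two hn3 hn hcl)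
  set C : Subgroup (S : Subgroup G) := zpowers ga with hC
  have hCi : C.index = 2 := FR.index_two
  have hsqC : ∀ x : (S : Subgroup G), x * x ∈ C := mul_self_mem_of_index_two hCi
  have hmulC : ∀ x y : (S : Subgroup G), x ∉ C → y ∉ C → x * y ∈ C := fun x y hx hy =>
    (mul_mem_iff_of_index_two hCi).2 (iff_of_false hx hy)
  set iS : (S : Subgroup G) := ⟨i, hiS⟩
  set vS : (S : Subgroup G) := ⟨v, hvS⟩
  set jS : (S : Subgroup G) := ⟨j', hjS⟩
  have hCcomm : ∀ x ∈ C, ∀ y ∈ C, x * y = y * x := by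
    intro x hx y hy
    obtain ⟨a, rfl⟩ := mem_zpowers_iff.1 hx
    obtain ⟨b, rfl⟩ := mem_zpowers_iff.1 hy
    exact ((Commute.refl ga).zpow_zpow a b).eq
  have hiC : iS ∈ C := by
    by_contra hiC
    have key : ∀ x : (S : Subgroup G), x * vS = vS * x := by
      have hcen : ∀ x : (S : Subgroup G), x * iS = iS * x := fun x => Subtype.ext (hicen x x.2)
      have hdec : ∀ x : (S : Subgroup G), x ∈ C ∨ ∃ y ∈ C, x = y * iS := fun x => by
        by_cases hx : x ∈ C
        · exact Or.inl hx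
        · exact Or.inr ⟨x * iS, hmulC x iS hx hiC, by
            rw [mul_assoc, show iS * iS = 1 from Subtype.ext (by rw [Subgroup.coe_mul, ← pow_two]; exact hi2), mul_one]⟩
      intro x
      rcases hdec x with hx | ⟨y, hy, rfl⟩ <;> rcases hdec vS with hv | ⟨u, hu, hvu⟩
      · exact hCcomm x hx vS hv
      · rw [hvu, ← mul_assoc, hCcomm x hx u hu, mul_assoc, hcen, ← mul_assoc]
      · rw [mul_assoc, ← hcen vS, ← mul_assoc, hCcomm y hy vS hv, mul_assoc]
      · rw [hvu]
        have h1 : Commute y u := hCcomm y hy u hu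
        have h2 : ∀ x, Commute x iS := hcen
        exact ((h1.mul_right (h2 y)).mul_left ((h2 u).symm.mul_right (Commute.refl iS))).eq
    have := congrArg Subtype.val (key ⟨t, htS⟩)
    simp only [Subgroup.coe_mul] at this
    change t * v = v * t at this
    rw [this, mul_inv_cancel_right] at htv
    exact hi1 (by simpa using htv)
  have hCinv : ∀ x ∈ C, x ^ 2 = 1 → x = 1 ∨ x = iS := by
    intro x hx hx2
    obtain ⟨a, rfl⟩ := mem_zpowers_iff.1 hx
    by_contra hne
    push Not at hne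
    haveI : IsCyclic C := by rw [hC]; infer_instance
    haveI := Fintype.ofFinite C
    have h3 := IsCyclic.card_pow_eq_one_le (α := C) (n := 2) two_pos
    have hsub : ({1, ⟨iS, hiC⟩, ⟨ga ^ a, hx⟩} : Finset C) ⊆ Finset.univ.filter (fun y : C => y ^ 2 = 1) := by
      intro y hy
      simp only [Finset.mem_insert, Finset.mem_singleton] at hy
      simp only [Finset.mem_filter, Finset.mem_univ, true_and]
      rcases hy with rfl | rfl | rfl
      · exact one_pow 2
      · exact Subtype.ext (Subtype.ext hi2)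
      · exact Subtype.ext hx2
    have hcard : ({1, ⟨iS, hiC⟩, ⟨ga ^ a, hx⟩} : Finset C).card = 3 := by
      rw [Finset.card_insert_of_notMem, Finset.card_pair]
      · intro h; exact hne.2 (congrArg Subtype.val h).symm
      · simp only [Finset.mem_insert, Finset.mem_singleton, not_or]
        exact ⟨fun h => hi1 (congrArg (fun z : C => ((z : (S : Subgroup G)) : G)) h).symm,
          fun h => hne.1 (congrArg Subtype.val h).symm⟩
    have := (Finset.card_le_card hsub).trans h3
    omega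
  have hvC : vS ∉ C := fun h => by
    rcases hCinv vS h (Subtype.ext hv2) with h | h
    · exact hv1 (congrArg Subtype.val h)
    · exact hvi (congrArg Subtype.val h)
  have hjC : jS ∉ C := fun h => by
    rcases hCinv jS h (Subtype.ext hj'2) with h | h
    · exact hj'1 (congrArg Subtype.val h)
    · exact hj'n (by rw [show j' = i from congrArg Subtype.val h])
  -- the element `v` inverts the cyclic subgroup
  set u0 := vS * jS with hu0def
  have hu0 : u0 ∈ C := hmulC _ _ hvC hjC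
  haveI hCn : C.Normal := normal_of_index_eq_two hCi
  let φ : C →* C :=
    { toFun := fun x => ⟨vS * x * vS⁻¹ * (x : (S : Subgroup G))⁻¹,
        mul_mem (hCn.conj_mem x x.2 vS) (inv_mem x.2)⟩
      map_one' := by ext; simp
      map_mul' := fun x y => by
        refine Subtype.ext ?_
        show vS * ((x : (S : Subgroup G)) * y) * vS⁻¹ * ((x : (S : Subgroup G)) * y)⁻¹ =
          vS * x * vS⁻¹ * (x : (S : Subgroup G))⁻¹ * (vS * y * vS⁻¹ * (y : (S : Subgroup G))⁻¹)
        have hy' : vS * (y : (S : Subgroup G)) * vS⁻¹ * (y : (S : Subgroup G))⁻¹ ∈ C :=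
          mul_mem (hCn.conj_mem y y.2 vS) (inv_mem y.2)
        have hc := hCcomm _ (inv_mem x.2) _ hy'
        calc vS * ((x : (S : Subgroup G)) * y) * vS⁻¹ * ((x : (S : Subgroup G)) * y)⁻¹
            = vS * x * vS⁻¹ * ((vS * y * vS⁻¹ * (y : (S : Subgroup G))⁻¹) * (x : (S : Subgroup G))⁻¹) := by group
          _ = _ := by rw [← hc]; group }
  have hφval : ∀ x : C, ((φ x : C) : (S : Subgroup G)) = vS * x * vS⁻¹ * (x : (S : Subgroup G))⁻¹ := fun _ => rfl
  have hkerφ : Nat.card φ.ker ≤ 2 := by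
    have hsub : ∀ x : φ.ker, ((x : C) : (S : Subgroup G)) = 1 ∨ ((x : C) : (S : Subgroup G)) = iS := by
      intro x
      have h1 : vS * ((x : C) : (S : Subgroup G)) * vS⁻¹ * ((x : C) : (S : Subgroup G))⁻¹ = 1 := by
        rw [← hφval, MonoidHom.mem_ker.1 x.2]; rfl
      have hxv : (v : G) * ((x : C) : (S : Subgroup G)) = ((x : C) : (S : Subgroup G)) * v :=
        congrArg Subtype.val (mul_inv_eq_iff_eq_mul.1 (mul_inv_eq_one.1 h1))
      have hxi : (i : G) * ((x : C) : (S : Subgroup G)) = ((x : C) : (S : Subgroup G)) * i :=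
        (hicen _ ((x : C) : (S : Subgroup G)).2).symm
      obtain ⟨a, ha, hxa⟩ := hSV _ ((x : C) : (S : Subgroup G)).2 fun a ha => by
        rcases hVc a ha with e | e | e | e <;> rw [e]
        · rw [one_mul, mul_one]
        · exact hxi
        · exact hxv
        · exact (show Commute v _ from hxv).mul_left hxi
      refine hCinv _ (x : C).2 (Subtype.ext ?_)
      rw [SubgroupClass.coe_pow, hxa, ← map_pow, pow_two]
      nth_rewrite 1 [← ((inV_spec 0 (Or.inl rfl)).2.2.2.1 a ha).1]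
      rw [inv_mul_cancel, map_one]
      rfl
    let f2 : φ.ker → Bool := fun x => decide (((x : C) : (S : Subgroup G)) = 1)
    have hf2 : Function.Injective f2 := fun x y h => by
      refine Subtype.ext (Subtype.ext ?_)
      have hiff := decide_eq_decide.1 h
      rcases hsub x with e1 | e1 <;> rcases hsub y with e2 | e2
      · rw [e1, e2]
      · exact absurd (congrArg Subtype.val (e2.symm.trans (hiff.1 e1))) hi1
      · exact absurd (congrArg Subtype.val (e1.symm.trans (hiff.2 e2))) hi1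
      · rw [e1, e2]
    simpa using Nat.card_le_card_of_injective f2 hf2
  have hu0r : (⟨u0, hu0⟩ : C) ∉ φ.range := by
    rintro ⟨x, hx⟩
    have hx' : vS * (x : (S : Subgroup G)) * vS⁻¹ * (x : (S : Subgroup G))⁻¹ = vS * jS := congrArg Subtype.val hx
    have hv' : vS⁻¹ = vS := inv_eq_of_mul_eq_one_right (Subtype.ext (by rw [Subgroup.coe_mul, ← pow_two]; exact hv2))
    have hj3 : jS = (x : (S : Subgroup G)) * vS * (x : (S : Subgroup G))⁻¹ := by
      rw [hv', mul_assoc, mul_assoc, mul_right_inj, ← mul_assoc] at hx'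
      exact hx'.symm
    refine hj'n ((F.isConj_f z_facts.2.2.2.2.2.2.2.2 hV1 small_facts.2.2.2.2.2.2.2.2.2.2.1).trans
      (isConj_iff.2 ⟨((x : (S : Subgroup G)) : G), ?_⟩))
    exact (congrArg Subtype.val hj3).symm
  have hgen0 : ∀ x ∈ C, x ∈ zpowers u0 := by
    intro x hx
    obtain ⟨k, hk⟩ := mem_zpowers_iff.1 hu0
    have hgaC : ga ∈ C := mem_zpowers ga
    have hrange : φ.range.index ≤ 2 := by
      have h1 := φ.range.card_mul_index
      have h2 := φ.ker.card_mul_index
      rw [Subgroup.index_ker] at h2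
      have : Nat.card φ.range * φ.range.index ≤ Nat.card φ.range * 2 := by
        rw [h1, ← h2, mul_comm (Nat.card φ.range) 2]
        exact Nat.mul_le_mul_right _ hkerφ
      exact Nat.le_of_mul_le_mul_left this Nat.card_pos
    have hr2 : φ.range.index = 2 := by
      have h1 : φ.range.index ≠ 1 := fun h => hu0r (index_eq_one.1 h ▸ mem_top _)
      have h0 : φ.range.index ≠ 0 := FiniteIndex.index_ne_zero
      omega
    have hodd : ¬ (2 : ℤ) ∣ k := by
      rintro ⟨m, rfl⟩
      refine hu0r ?_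
      have h := φ.range.zpow_mem (mul_self_mem_of_index_two hr2 (⟨ga, hgaC⟩ : C)) m
      rwa [show (⟨u0, hu0⟩ : C) = ((⟨ga, hgaC⟩ : C) * ⟨ga, hgaC⟩) ^ m from Subtype.ext (by
        rw [SubgroupClass.coe_zpow, Subgroup.coe_mul, ← zpow_two, ← zpow_mul, hk])]
    obtain ⟨a, rfl⟩ := mem_zpowers_iff.1 hx
    refine zpow_mem ?_ a
    obtain ⟨m, hm⟩ := IsPGroup.iff_orderOf.1 S.2 ga
    have hco : IsCoprime k ((2 : ℤ) ^ m) := by
      refine IsCoprime.pow_right ?_
      rw [Int.isCoprime_iff_gcd_eq_one, Int.gcd_comm]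
      have hp : Nat.Coprime 2 k.natAbs := (Nat.prime_two.coprime_iff_not_dvd).2 fun h =>
        hodd (Int.natCast_dvd.2 h)
      exact hp
    obtain ⟨p, q, hpq⟩ := hco
    refine mem_zpowers_iff.2 ⟨p, ?_⟩
    have h2m : ga ^ ((2 : ℤ) ^ m) = 1 := by
      have := pow_orderOf_eq_one ga
      rw [hm] at this
      rw [show ((2 : ℤ) ^ m) = ((2 ^ m : ℕ) : ℤ) by push_cast; rfl, zpow_natCast]
      exact this
    calc u0 ^ p = ga ^ (k * p) := by rw [← hk, zpow_mul]
      _ = ga ^ (p * k + q * 2 ^ m) := by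
        rw [zpow_add, mul_comm q, zpow_mul ga ((2 : ℤ) ^ m) q, h2m, one_zpow, mul_one, mul_comm]
      _ = ga := by rw [hpq, zpow_one]
  have hv' : vS⁻¹ = vS := inv_eq_of_mul_eq_one_right (Subtype.ext (by rw [Subgroup.coe_mul, ← pow_two]; exact hv2))
  have hj'' : jS⁻¹ = jS := inv_eq_of_mul_eq_one_right (Subtype.ext (by rw [Subgroup.coe_mul, ← pow_two]; exact hj'2))
  have hvinv : ∀ x ∈ C, vS * x * vS⁻¹ = x⁻¹ := by
    have h0 : vS * u0 * vS⁻¹ = u0⁻¹ := by
      rw [hu0def, mul_inv_rev, hj'', hv', ← mul_assoc vS vS, ← pow_two,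
        show vS ^ 2 = 1 from Subtype.ext hv2, one_mul]
    intro x hx
    obtain ⟨a, rfl⟩ := mem_zpowers_iff.1 (hgen0 x hx)
    rw [← conj_zpow, h0, inv_zpow]
  have hinvol : ∀ x : (S : Subgroup G), x ∉ C → x * x = 1 := by
    intro x hx
    set u := vS * x
    have hu : u ∈ C := hmulC _ _ hvC hx
    have hxe : x = vS * u := by
      show x = vS * (vS * x)
      rw [← mul_assoc, ← pow_two, show vS ^ 2 = 1 from Subtype.ext hv2, one_mul]
    have := hvinv u hu
    rw [hv'] at this
    rw [hxe, show vS * u * (vS * u) = (vS * u * vS) * u by group, this, inv_mul_cancel]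
  -- the centralizer of `i`
  set M := centralizer ({i} : Set G) with hM
  have hSM : (S : Subgroup G) ≤ M := fun x hx => mem_centralizer_singleton_iff.2 (hicen x hx)
  let SM : Sylow 2 M := S.subtype hSM
  set vM : M := ⟨v, hSM hvS⟩
  set iM : M := ⟨i, hSM hiS⟩
  set zM : M := ⟨F.f eZ, mem_centralizer_singleton_iff.2 (by rw [hidef, ← map_mul, ← map_mul, hIZ])⟩
  have hcenM : ∀ x : M, x * iM = iM * x := fun x => Subtype.ext (mem_centralizer_singleton_iff.1 x.2)
  let Q : Subgroup M := (C.map (S : Subgroup G).subtype).subgroupOf M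
  have hQS : Q ≤ (SM : Subgroup M) := fun x hx => by
    obtain ⟨c, -, hc⟩ := mem_subgroupOf.1 hx
    exact mem_subgroupOf.2 (hc ▸ c.2)
  have hQi : Q.relIndex (SM : Subgroup M) = 2 := by
    rw [show (SM : Subgroup M) = (S : Subgroup G).subgroupOf M from rfl]
    refine ((relIndex_subgroupOf hSM).trans ?_).trans hCi
    rw [relIndex, subgroupOf, comap_map_eq_self_of_injective (Subgroup.subtype_injective _)]
  have hQinv : ∀ x ∈ Q, x ^ 2 = 1 → x = 1 ∨ x = iM := by
    intro x hx hx2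
    obtain ⟨c, hc, hcx⟩ := mem_subgroupOf.1 hx
    change (c : G) = x at hcx
    rcases hCinv c hc (Subtype.ext (by rw [SubgroupClass.coe_pow, hcx]; exact congrArg Subtype.val hx2)) with h | h
    · exact Or.inl (Subtype.ext (by rw [← hcx, h]; rfl))
    · exact Or.inr (Subtype.ext (by rw [← hcx, h]))
  obtain ⟨M1, hM1n, hM1i, hvM1⟩ := CfsgLib.Fusion.thompson_transfer SM hQS hQi
    (u := vM) (Subtype.ext hv2) fun g hg => by
      rcases hQinv _ hg (by rw [conj_pow, show vM ^ 2 = 1 from Subtype.ext hv2, mul_one, mul_inv_cancel]) with h | h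
      · rw [conj_eq_one_iff] at h
        exact hv1 (congrArg Subtype.val h)
      · refine hvi (congrArg Subtype.val (show vM = iM from ?_))
        calc vM = g⁻¹ * (g * vM * g⁻¹) * g := by group
          _ = g⁻¹ * (iM * g) := by rw [h, mul_assoc]
          _ = iM := by rw [← hcenM, inv_mul_cancel_left]
  haveI := hM1n
  have hiM1 : iM ∈ M1 := by
    have h1 : (⟨t, hSM htS⟩ : M) * vM * (⟨t, hSM htS⟩ : M)⁻¹ = vM * iM := Subtype.ext htv
    have h2 : (⟨t, hSM htS⟩ : M) * vM * (⟨t, hSM htS⟩ : M)⁻¹ ∉ M1 := fun h => hvM1 (by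
      have := hM1n.conj_mem _ h (⟨t, hSM htS⟩ : M)⁻¹
      simpa [mul_assoc] using this)
    rw [h1, mul_mem_iff_of_index_two hM1i] at h2
    by_contra h
    exact h2 (iff_of_false hvM1 h)
  have hzM1 : zM ∈ M1 := by
    have h3 : zM ^ 3 = 1 := Subtype.ext (by
      rw [SubgroupClass.coe_pow]; show F.f eZ ^ 3 = 1; rw [← map_pow, z_facts.1, map_one])
    have h := mul_self_mem_of_index_two hM1i (zM * zM)
    rwa [show zM * zM * (zM * zM) = zM ^ 3 * zM by simp only [pow_succ, pow_zero, one_mul, mul_assoc], h3, one_mul] at h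
  -- the centralizer of `z` in the transfer kernel
  have hCz : ∀ x : M, x ∈ M1 → x * zM = zM * x → ∃ k : ℕ, x = zM ^ k ∨ x = iM * zM ^ k := by
    intro x hx hxz
    obtain ⟨q, hq, hqz⟩ := F.side_f.exists_coord (congrArg Subtype.val hxz)
    obtain ⟨a, k, ha, rfl⟩ := cent_ZI q hqz (F.f_inj (by
      rw [map_mul, map_mul, hq]; exact mem_centralizer_singleton_iff.1 x.2))
    have hxe : ∀ y : M, (y : G) = F.f a → x = y * zM ^ (k : ℕ) := fun y hy => Subtype.ext (by
      rw [Subgroup.coe_mul, SubgroupClass.coe_pow, hy, ← hq, map_mul, map_pow])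
    rcases hVc a ha with e | e | e | e
    · exact ⟨k, Or.inl (by rw [hxe 1 (by rw [e]; rfl), one_mul])⟩
    · exact ⟨k, Or.inr (hxe iM e.symm)⟩
    · exfalso
      have := mul_mem hx (inv_mem (pow_mem hzM1 (k : ℕ)))
      rw [hxe vM e.symm, mul_inv_cancel_right] at this
      exact hvM1 this
    · exfalso
      have := mul_mem hx (inv_mem (pow_mem hzM1 (k : ℕ)))
      rw [hxe (vM * iM) (by rw [e]; rfl), mul_inv_cancel_right] at this
      exact hvM1 (by simpa using mul_mem this (inv_mem hiM1))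
  -- normal two-subgroups of the kernel
  have hS1 : ∃ S1 : Sylow 2 M1, (S1 : Subgroup M1) = (SM : Subgroup M).subgroupOf M1 :=
    ⟨((SM.2.comap_subtype : IsPGroup 2 ((SM : Subgroup M).subgroupOf M1))).toSylow (fun hd =>
      SM.not_dvd_index (hd.trans (CfsgLib.PGroup.relIndex_dvd_index_normal_right _ M1))), rfl⟩
  obtain ⟨S1, hS1⟩ := hS1
  have hsmall : ∀ R : Subgroup M1, R.Normal → IsPGroup 2 R → ∀ x ∈ R, x = 1 ∨ (x : M) = iM := by
    intro R hR hR2
    have hRS : R ≤ (S1 : Subgroup M1) := by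
      have h := S1.3 (hR2.to_sup_of_normal_left S1.2) le_sup_right
      exact h ▸ le_sup_left
    have hel : ∀ x ∈ R, ∃ s : (S : Subgroup G), (s : G) = ((x : M1) : M) := fun x hx =>
      ⟨⟨_, mem_subgroupOf.1 (hS1 ▸ hRS hx : x ∈ (SM : Subgroup M).subgroupOf M1)⟩, rfl⟩
    set z1 : M1 := ⟨zM, hzM1⟩
    have hfix : ∀ x ∈ R, z1 * x * z1⁻¹ = x → x = 1 ∨ (x : M) = iM := by
      intro x hx h
      obtain ⟨k, hk⟩ := hCz x x.2 (congrArg Subtype.val (mul_inv_eq_iff_eq_mul.1 h)).symm
      obtain ⟨m, hm⟩ := hR2 ⟨x, hx⟩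
      have hm' : (x : M) ^ 2 ^ m = 1 := congrArg (fun y : R => (((y : M1)) : M)) hm
      have hz3 : zM ^ 3 = 1 := Subtype.ext (by
        rw [SubgroupClass.coe_pow]; show F.f eZ ^ 3 = 1; rw [← map_pow, z_facts.1, map_one])
      have hzk : ∀ y : M, y = zM ^ k → y ^ 2 ^ m = 1 → y = 1 := fun y hy hy2 => by
        have h1 : orderOf y ∣ Nat.gcd 3 (2 ^ m) := Nat.dvd_gcd
          (orderOf_dvd_of_pow_eq_one (by rw [hy, ← pow_mul, mul_comm, pow_mul, hz3, one_pow]))
          (orderOf_dvd_of_pow_eq_one hy2)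
        rw [(Nat.Coprime.pow_right m (by norm_num : Nat.Coprime 3 2))] at h1
        exact orderOf_eq_one_iff.1 (Nat.dvd_one.1 h1)
      rcases hk with hk | hk
      · exact Or.inl (Subtype.ext (hzk _ hk hm'))
      · refine Or.inr ?_
        have hi2' : iM ^ 2 = 1 := Subtype.ext hi2
        rcases m with _ | m
        · rw [pow_zero, pow_one] at hm'
          exfalso
          rw [hm'] at hk
          have : iM = zM ^ k := by
            have := congrArg (iM * ·) hk
            simpa [← mul_assoc, ← pow_two, hi2'] using this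
          have h2 := congrArg (· ^ 3) this
          simp only [← pow_mul, mul_comm k 3, pow_mul zM 3, hz3, one_pow] at h2
          rw [pow_succ, hi2', one_mul] at h2
          exact hi1 (congrArg Subtype.val h2)
        · have : zM ^ k = 1 := hzk _ rfl (by
            rw [hk, (show Commute iM (zM ^ k) from (hcenM _).symm).mul_pow,
              show iM ^ 2 ^ (m + 1) = 1 by rw [pow_succ', pow_mul, hi2', one_pow], one_mul] at hm'
            exact hm')
          rw [hk, this, mul_one]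
    have hz13 : z1 ^ 3 = 1 := Subtype.ext (Subtype.ext (by
      show F.f eZ ^ 3 = 1; rw [← map_pow, z_facts.1, map_one]))
    have hthree : ∀ x ∈ R, ∀ y, z1 * x * z1⁻¹ = y → z1 * y * z1⁻¹ = x → y = x := by
      intro x hx y hy hy'
      calc y = z1 * x * z1⁻¹ := hy.symm
        _ = z1 * (z1 * (z1 * x * z1⁻¹) * z1⁻¹) * z1⁻¹ := by rw [hy, hy', hy]
        _ = z1 ^ 3 * x * (z1 ^ 3)⁻¹ := by rw [pow_succ, pow_two]; group
        _ = x := by rw [hz13, one_mul, inv_one, mul_one]
    have hsq : ∀ x ∈ R, x * x = 1 := by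
      by_contra hc
      push Not at hc
      obtain ⟨x, hx, hx2⟩ := hc
      obtain ⟨m, hm⟩ := IsPGroup.iff_orderOf.1 hR2 ⟨x, hx⟩
      rw [Subgroup.orderOf_mk] at hm
      have hm2 : 2 ≤ m := by
        by_contra hlt
        refine hx2 ?_
        rw [← pow_two, ← orderOf_dvd_iff_pow_eq_one, hm]
        exact pow_dvd_pow 2 (by omega) |>.trans (dvd_of_eq (pow_one 2))
      set c := x ^ 2 ^ (m - 2) with hc
      have hco : orderOf c = 4 := by
        rw [hc, orderOf_pow' _ (pow_ne_zero _ two_ne_zero), hm,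
          Nat.gcd_eq_right (pow_dvd_pow 2 (Nat.sub_le m 2)), Nat.pow_div (Nat.sub_le m 2) two_pos,
          show m - (m - 2) = 2 by omega]
        norm_num
      have hcR : c ∈ R := pow_mem hx _
      obtain ⟨s, hs⟩ := hel c hcR
      obtain ⟨s', hs'⟩ := hel (z1 * c * z1⁻¹) (hR.conj_mem c hcR z1)
      have hord : ∀ (y : M1) (s : (S : Subgroup G)), (s : G) = ((y : M) : G) → orderOf y = 4 → s ∈ C := by
        intro y s hs hy
        by_contra hsC
        have h2 : y * y = 1 := Subtype.ext (Subtype.ext (by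
          rw [Subgroup.coe_mul, Subgroup.coe_mul, ← hs, ← Subgroup.coe_mul, hinvol s hsC]; rfl))
        have := orderOf_dvd_of_pow_eq_one (show y ^ 2 = 1 by rw [pow_two]; exact h2)
        rw [hy] at this
        omega
      have hsC := hord c s hs hco
      have hs'o : orderOf (z1 * c * z1⁻¹) = 4 :=
        (orderOf_injective (MulAut.conj z1).toMonoidHom (MulAut.conj z1).injective c).trans hco
      have hs'C := hord _ s' hs' hs'o
      have hc2 : ∀ {y : M1} {s : (S : Subgroup G)}, (s : G) = ((y : M) : G) → orderOf y = 4 → s ∈ C →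
          s * s = iS := by
        intro y s hs hy hsC
        rcases hCinv (s * s) (mul_mem hsC hsC) (Subtype.ext (by
          rw [SubgroupClass.coe_pow, Subgroup.coe_mul, hs]
          have h4 := congrArg (fun w : M1 => ((w : M) : G)) (pow_orderOf_eq_one y)
          rw [hy] at h4
          simp only [SubgroupClass.coe_pow] at h4
          rw [← pow_two, ← pow_mul]
          exact h4)) with h | h
        · exfalso
          have := orderOf_dvd_of_pow_eq_one (show y ^ 2 = 1 from Subtype.ext (Subtype.ext (by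
            rw [SubgroupClass.coe_pow, SubgroupClass.coe_pow, ← hs, ← SubgroupClass.coe_pow, pow_two, h]; rfl)))
          rw [hy] at this
          omega
        · exact h
      have hcase : s' = s ∨ s' = s * iS := by
        have h1 : (s⁻¹ * s') * (s⁻¹ * s') = 1 := by
          have e : s⁻¹ * s' = s' * s⁻¹ := hCcomm _ (inv_mem hsC) _ hs'C
          calc (s⁻¹ * s') * (s⁻¹ * s') = s⁻¹ * (s' * s⁻¹) * s' := by group
            _ = s⁻¹ * (s⁻¹ * s') * s' := by rw [e]
            _ = (s * s)⁻¹ * (s' * s') := by group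
            _ = 1 := by rw [hc2 hs hco hsC, hc2 hs' hs'o hs'C, inv_mul_cancel]
        rcases hCinv _ (mul_mem (inv_mem hsC) hs'C) (by rw [pow_two]; exact h1) with h | h
        · exact Or.inl (inv_mul_eq_one.1 h).symm
        · exact Or.inr (inv_mul_eq_iff_eq_mul.1 h)
      have hcc : z1 * c * z1⁻¹ = c := by
        rcases hcase with h | h
        · exact Subtype.ext (Subtype.ext (by rw [← hs', ← hs, h]))
        · have e : z1 * c * z1⁻¹ = c * ⟨iM, hiM1⟩ := Subtype.ext (Subtype.ext (by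
            rw [← hs', h, Subgroup.coe_mul, hs]; rfl))
          refine hthree c hcR _ rfl ?_
          have hi' : z1 * (⟨iM, hiM1⟩ : M1) * z1⁻¹ = ⟨iM, hiM1⟩ := Subtype.ext (by
            show zM * iM * zM⁻¹ = iM
            rw [hcenM, mul_inv_cancel_right])
          conv_lhs => rw [e, ← conj_mul, e, hi']
          exact Subtype.ext (by
            show (c : M) * iM * iM = c
            rw [mul_assoc, ← pow_two, show iM ^ 2 = 1 from Subtype.ext hi2, mul_one])
      rcases hfix c hcR hcc with h | h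
      · rw [h, orderOf_one] at hco; omega
      · have := orderOf_dvd_of_pow_eq_one (show c ^ 2 = 1 from Subtype.ext (by
          rw [SubgroupClass.coe_pow, h]; exact Subtype.ext hi2))
        rw [hco] at this
        omega
    intro x hx
    by_cases hxi : (x : M) = iM
    · exact Or.inr hxi
    obtain ⟨s, hs⟩ := hel x hx
    obtain ⟨s', hs'⟩ := hel (z1 * x * z1⁻¹) (hR.conj_mem x hx z1)
    by_cases hsC : s ∈ C
    · refine Or.inl (Subtype.ext (Subtype.ext ?_))
      rcases hCinv s hsC (Subtype.ext (by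
        rw [pow_two, Subgroup.coe_mul, hs, ← Subgroup.coe_mul, ← Subgroup.coe_mul, hsq x hx]; rfl)) with h | h
      · rw [← hs, h]; rfl
      · exact absurd (Subtype.ext (by rw [← hs, h])) hxi
    by_cases hs'C : s' ∈ C
    · refine Or.inl ?_
      have hzz := hsq _ (hR.conj_mem x hx z1)
      rcases hCinv s' hs'C (Subtype.ext (by
        rw [pow_two, Subgroup.coe_mul, hs', ← Subgroup.coe_mul, ← Subgroup.coe_mul, hzz]; rfl)) with h | h
      · exact conj_eq_one_iff.1 (Subtype.ext (Subtype.ext (by rw [← hs', h]; rfl)) : z1 * x * z1⁻¹ = 1)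
      · refine absurd ?_ hxi
        have e : zM * (x : M) * zM⁻¹ = iM := Subtype.ext (by
          have := hs'.symm; rw [h] at this; exact this)
        calc (x : M) = zM⁻¹ * (zM * (x : M) * zM⁻¹) * zM := by group
          _ = zM⁻¹ * (iM * zM) := by rw [e, mul_assoc]
          _ = iM := by rw [← hcenM, inv_mul_cancel_left]
    refine hfix x hx ?_
    have hprod : x * (z1 * x * z1⁻¹) ∈ R := mul_mem hx (hR.conj_mem x hx z1)
    rcases hCinv (s * s') (hmulC _ _ hsC hs'C) (Subtype.ext (by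
      rw [pow_two, Subgroup.coe_mul, Subgroup.coe_mul, hs, hs', ← Subgroup.coe_mul, ← Subgroup.coe_mul,
        ← Subgroup.coe_mul, ← Subgroup.coe_mul, hsq _ hprod]; rfl)) with h | h
    · have e : x * (z1 * x * z1⁻¹) = 1 := Subtype.ext (Subtype.ext (by
        rw [Subgroup.coe_mul, Subgroup.coe_mul, ← hs, ← hs', ← Subgroup.coe_mul, h]; rfl))
      exact (eq_inv_of_mul_eq_one_right e).trans (inv_eq_of_mul_eq_one_right (hsq x hx))
    · have e : x * (z1 * x * z1⁻¹) = ⟨iM, hiM1⟩ := Subtype.ext (Subtype.ext (by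
        rw [Subgroup.coe_mul, Subgroup.coe_mul, ← hs, ← hs', ← Subgroup.coe_mul, h]))
      have e' : z1 * x * z1⁻¹ = x * ⟨iM, hiM1⟩ := by
        rw [← e, ← mul_assoc, hsq x hx, one_mul]
      refine hthree x hx _ rfl ?_
      have hi' : z1 * (⟨iM, hiM1⟩ : M1) * z1⁻¹ = ⟨iM, hiM1⟩ := Subtype.ext (by
        show zM * iM * zM⁻¹ = iM
        rw [hcenM, mul_inv_cancel_right])
      conv_lhs => rw [e', ← conj_mul, e', hi']
      exact Subtype.ext (by
        show (x : M) * iM * iM = x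
        rw [mul_assoc, ← pow_two, show iM ^ 2 = 1 from Subtype.ext hi2, mul_one])
  -- an element of order four of the cyclic subgroup
  have hgaC : ga ∈ C := mem_zpowers ga
  have hgao : orderOf ga = 2 ^ (n - 1) := by
    have := C.card_mul_index
    rw [hCi, hC, Nat.card_zpowers, hn, show n = n - 1 + 1 by omega, pow_succ] at this
    exact Nat.eq_of_mul_eq_mul_right two_pos this
  obtain ⟨c0, hc0C, hc0⟩ : ∃ c0 ∈ C, (c0 * c0) * (c0 * c0) = iS := by
    refine ⟨ga ^ 2 ^ (n - 4), pow_mem hgaC _, ?_⟩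
    have e : (ga ^ 2 ^ (n - 4) * ga ^ 2 ^ (n - 4)) * (ga ^ 2 ^ (n - 4) * ga ^ 2 ^ (n - 4)) = ga ^ 2 ^ (n - 2) := by
      rw [← pow_add, ← pow_add]
      congr 1
      rw [show n - 2 = n - 4 + 2 by omega, pow_succ, pow_succ]
      ring
    rw [e]
    rcases hCinv _ (pow_mem hgaC (2 ^ (n - 2))) (by
      rw [← pow_mul, ← pow_succ, show n - 2 + 1 = n - 1 by omega, ← hgao, pow_orderOf_eq_one]) with h | h
    · exfalso
      have := orderOf_dvd_of_pow_eq_one h
      rw [hgao, Nat.pow_dvd_pow_iff_le_right (by norm_num)] at this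
      omega
    · exact h
  have hcM : (⟨((c0 * c0 : (S : Subgroup G)) : G), hSM (c0 * c0).2⟩ : M) ∈ M1 :=
    mul_self_mem_of_index_two hM1i (⟨(c0 : G), hSM c0.2⟩ : M)
  set cM : M1 := ⟨_, hcM⟩ with hcMdef
  set iM1 : M1 := ⟨iM, hiM1⟩
  let U1 : Subgroup M1 := Q.subgroupOf M1
  have hU1C : ∀ x : U1, ∃ c ∈ C, (c : G) = (((x : M1) : M) : G) := fun x => by
    obtain ⟨c, hc, hcx⟩ := mem_subgroupOf.1 (mem_subgroupOf.1 x.2)
    exact ⟨c, hc, hcx⟩
  haveI : IsCyclic U1 := by
    haveI : IsCyclic C := by rw [hC]; infer_instance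
    let f : U1 →* C :=
      { toFun := fun x => ⟨(hU1C x).choose, (hU1C x).choose_spec.1⟩
        map_one' := Subtype.ext (Subtype.ext (by rw [(hU1C 1).choose_spec.2]; rfl))
        map_mul' := fun x y => Subtype.ext (Subtype.ext (by
          show ((hU1C (x * y)).choose : G) = ((hU1C x).choose : G) * ((hU1C y).choose : G)
          rw [(hU1C _).choose_spec.2, (hU1C _).choose_spec.2, (hU1C _).choose_spec.2]; rfl)) }
    refine isCyclic_of_injective f fun x y h => Subtype.ext (Subtype.ext (Subtype.ext ?_))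
    rw [← (hU1C x).choose_spec.2, ← (hU1C y).choose_spec.2]
    exact congrArg (fun w : C => ((w : (S : Subgroup G)) : G)) h
  have hmemS1 : ∀ x : M1, x ∈ (S1 : Subgroup M1) → ∃ s : (S : Subgroup G), (s : G) = ((x : M) : G) :=
    fun x hx => ⟨⟨_, mem_subgroupOf.1 (hS1 ▸ hx : x ∈ (SM : Subgroup M).subgroupOf M1)⟩, rfl⟩
  have hmemU : ∀ (x : M1) (s : (S : Subgroup G)), (s : G) = ((x : M) : G) → (x ∈ U1 ↔ s ∈ C) := by
    intro x s hs
    refine ⟨fun h => ?_, fun h => mem_subgroupOf.2 (mem_subgroupOf.2 ⟨s, h, hs⟩)⟩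
    obtain ⟨c, hc, hcx⟩ := hU1C ⟨x, h⟩
    rwa [show s = c from Subtype.ext (hs.trans hcx.symm)]
  have hsmall' : ∀ R : Subgroup M1, R.Normal → IsPGroup 2 R → ∀ x ∈ R, x = 1 ∨ x = iM1 := fun R h1 h2 x hx =>
    (hsmall R h1 h2 x hx).imp id (fun h => Subtype.ext h)
  refine thin_quotient (L := M1) S1 U1 (c := cM) (i := iM1) (z := ⟨zM, hzM1⟩) ?_ ?_ ?_ ?_ ?_ ?_ ?_ ?_ ?_ ?_ ?_ ?_ ?_ hsmall'
  · rw [hS1]
    intro x hx
    exact mem_subgroupOf.2 (hQS (mem_subgroupOf.1 hx))
  · intro x hx hxU y hy hyU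
    obtain ⟨s, hs⟩ := hmemS1 x hx
    obtain ⟨s', hs'⟩ := hmemS1 y hy
    exact (hmemU (x * y) (s * s') (by rw [Subgroup.coe_mul, hs, hs']; rfl)).2
      (hmulC s s' (fun h => hxU ((hmemU x s hs).2 h)) (fun h => hyU ((hmemU y s' hs').2 h)))
  · exact (hmemU iM1 iS rfl).2 hiC
  · refine Subtype.ext (Subtype.ext ?_)
    show ((c0 * c0 : (S : Subgroup G)) : G) * ((c0 * c0 : (S : Subgroup G)) : G) = i
    rw [← Subgroup.coe_mul, hc0]
  · exact Subtype.ext (Subtype.ext hi2)
  · exact fun h => hi1 (congrArg (fun w : M1 => ((w : M) : G)) h)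
  · exact fun x => Subtype.ext (hcenM x)
  · intro u hu hu2
    rcases hQinv u (mem_subgroupOf.1 hu) (congrArg Subtype.val hu2) with h | h
    · exact Or.inl (Subtype.ext h)
    · exact Or.inr (Subtype.ext h)
  · intro u hu hnu
    obtain ⟨s, hs⟩ := hmemS1 u hu
    refine Subtype.ext (Subtype.ext ?_)
    rw [pow_two, Subgroup.coe_mul, Subgroup.coe_mul, ← hs, ← Subgroup.coe_mul,
      hinvol s fun h => hnu ((hmemU u s hs).2 h)]
    rfl
  · have hd : (M1.subgroupOf (SM : Subgroup M)).index ∣ 2 := by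
      exact (relIndex_dvd_index_of_normal (H := M1) (K := (SM : Subgroup M))).trans hM1i.dvd
    have h1 := (M1.subgroupOf (SM : Subgroup M)).card_mul_index
    have h2 : Nat.card (M1.subgroupOf (SM : Subgroup M)) = Nat.card (S1 : Subgroup M1) := by
      rw [hS1]
      exact Nat.card_congr ⟨fun x => ⟨⟨((x : (SM : Subgroup M)) : M), mem_subgroupOf.1 x.2⟩, mem_subgroupOf.2 (x : (SM : Subgroup M)).2⟩,
        fun x => ⟨⟨((x : M1) : M), mem_subgroupOf.1 x.2⟩, mem_subgroupOf.2 (x : M1).2⟩, fun _ => rfl, fun _ => rfl⟩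
    have h3 : Nat.card (SM : Subgroup M) = 2 ^ n := by
      rw [show (SM : Subgroup M) = (S : Subgroup G).subgroupOf M from rfl,
        Nat.card_congr (subgroupOfEquivOfLe hSM).toEquiv, hn]
    have h4' : 2 ^ 4 ≤ 2 ^ n := Nat.pow_le_pow_right (by norm_num) (by omega)
    rw [h2, h3] at h1
    have := Nat.le_of_dvd two_pos hd
    have h5 : Nat.card (S1 : Subgroup M1) * (M1.subgroupOf (SM : Subgroup M)).index ≤
        Nat.card (S1 : Subgroup M1) * 2 := Nat.mul_le_mul_left _ this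
    omega
  · exact Subtype.ext (Subtype.ext (by show F.f eZ ^ 3 = 1; rw [← map_pow, z_facts.1, map_one]))
  · exact fun h => z_facts.2.2.1 (F.f_inj ((congrArg (fun w : M1 => ((w : M) : G)) h).trans (map_one F.f).symm))
  · intro k hk
    obtain ⟨m, hm⟩ := hCz k k.2 (congrArg Subtype.val hk)
    exact ⟨m, hm.imp (fun h => Subtype.ext (by rw [SubgroupClass.coe_pow]; exact h))
      (fun h => Subtype.ext (by rw [Subgroup.coe_mul, SubgroupClass.coe_pow]; exact h))⟩

end CfsgLib.Spor.AltEightLocal
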